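import Cfsg.Agent.Lib.SEBrick.Moving5
import Cfsg.Agent.Lib.CenNilp.Main

/-!
The theorem on strongly embedded subgroups with the core condition, for simple groups.
-/

set_option autoImplicit false

namespace Cfsg.Agent.SEBrick

universe u

/-- The statement wanted by the topic on 2-nilpotent centralisers of involutions. -/
theorem seStatement {G : Type u} [Group G] [Finite G] [IsSimpleGroup G] : CenNilp.SEStatement G :=
  fun H hH four hcore => oddCore_eq_bot CenNilp.rankTwoCase H hH four hcore

end Cfsg.Agent.SEBrick
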