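import Cfsg.Agent.Lib.Involutions.SwapCount
import Cfsg.Agent.Lib.Solvable.Coprime
import Cfsg.Agent.Lib.Solvable.Fitting
import Cfsg.Prelude.Def_Transfer
import Cfsg.Prelude.Def_CaseTheorems

/-!
A strongly embedded subgroup with a normal odd subgroup holding the odd parts of the centralisers of
its involutions.
-/

set_option autoImplicit false
set_option linter.style.haveILetI false
set_option linter.unusedSectionVars false

namespace Cfsg.Agent.SEBrick

open Cfsg Subgroup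

universe u

variable {G : Type u} [Group G] [Finite G]

/-- An elementary abelian 2-subgroup of order at least four. -/
def IsFour (E : Subgroup G) : Prop := Cfsg.IsElementaryAbelian 2 E ∧ 4 ≤ Nat.card E

theorem IsFour.mul_self {E : Subgroup G} (hE : IsFour E) {e : G} (he : e ∈ E) : e * e = 1 := by
  rw [← pow_two]; exact hE.1.2 e he

theorem IsFour.order {E : Subgroup G} (hE : IsFour E) {e : G} (he : e ∈ E) (h1 : e ≠ 1) :
    orderOf e = 2 :=
  Invol.order_two_of_sq (hE.mul_self he) h1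

theorem IsFour.comm {E : Subgroup G} (hE : IsFour E) {a b : G} (ha : a ∈ E) (hb : b ∈ E) :
    a * b = b * a := by
  haveI := hE.1.1
  exact setLike_mul_comm ha hb

theorem IsFour.isPGroup {E : Subgroup G} (hE : IsFour E) : IsPGroup 2 E := fun e =>
  ⟨1, Subtype.ext (by simpa using hE.1.2 e e.2)⟩

theorem IsFour.not_isCyclic {E : Subgroup G} (hE : IsFour E) : ¬ IsCyclic E := fun hc => by
  obtain ⟨g, hg⟩ := hc.exists_generator
  have h1 : Nat.card E ≤ 2 := by
    rw [← orderOf_eq_card_of_forall_mem_zpowers hg]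
    exact Nat.le_of_dvd two_pos (orderOf_dvd_of_pow_eq_one (Subtype.ext (by simpa using hE.1.2 g g.2)))
  have := hE.2
  omega

theorem IsFour.map {K : Type u} [Group K] {E : Subgroup G} (hE : IsFour E) (f : G →* K)
    (hf : Set.InjOn f E) : IsFour (E.map f) := by
  refine ⟨⟨.of_setLike_mul_comm ?_, ?_⟩, ?_⟩
  · rintro _ ⟨a, ha, rfl⟩ _ ⟨b, hb, rfl⟩
    rw [← map_mul, ← map_mul, hE.comm ha hb]
  · rintro _ ⟨a, ha, rfl⟩
    rw [← map_pow, hE.1.2 a ha, map_one]
  · refine hE.2.trans_eq ?_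
    exact (Nat.card_image_of_injOn hf).symm

theorem IsFour.conj {E : Subgroup G} (hE : IsFour E) (g : G) :
    IsFour (E.map (MulAut.conj g).toMonoidHom) :=
  hE.map _ (MulAut.conj g).injective.injOn

/-- Membership of a normaliser from conjugation into the subgroup. -/
theorem mem_normalizer_of {X : Subgroup G} {g : G} (h : ∀ x ∈ X, g * x * g⁻¹ ∈ X) :
    g ∈ normalizer (X : Set G) :=
  mem_normalizer_fintype h

theorem le_normalizer_of {K X : Subgroup G} (h : ∀ k ∈ K, ∀ x ∈ X, k * x * k⁻¹ ∈ X) :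
    K ≤ normalizer (X : Set G) := fun k hk => mem_normalizer_of (h k hk)

theorem conj_mem_of {X : Subgroup G} {g x : G} (hg : g ∈ normalizer (X : Set G)) (hx : x ∈ X) :
    g * x * g⁻¹ ∈ X :=
  (mem_normalizer_iff.1 hg x).1 hx

theorem odd_of_le {A B : Subgroup G} (hB : Odd (Nat.card B)) (h : A ≤ B) : Odd (Nat.card A) :=
  hB.of_dvd_nat (card_dvd_of_le h)

theorem odd_order {A : Subgroup G} (hA : Odd (Nat.card A)) {x : G} (hx : x ∈ A) : Odd (orderOf x) :=
  hA.of_dvd_nat (Subgroup.orderOf_dvd_natCard A hx)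

theorem odd_card_of_orders {A : Subgroup G} (h : ∀ a ∈ A, orderOf a ≠ 2) : Odd (Nat.card A) := by
  rw [← Nat.not_even_iff_odd]
  intro he
  obtain ⟨a, ha, ha2⟩ := Invol.exists_invol he
  exact h a ha ha2

theorem le_oddCore {X : Subgroup G} (hn : X.Normal) (ho : Odd (Nat.card X)) : X ≤ Cfsg.oddCore G :=
  FittingCores.le_pPrimeCore hn (Nat.coprime_two_right.2 ho)

theorem oddCore_odd : Odd (Nat.card (Cfsg.oddCore G)) :=
  Nat.coprime_two_right.1 (FittingCores.pPrimeCore_coprime 2)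

/-- The hypotheses on `H` and `W`. -/
structure Hyp (H W : Subgroup G) : Prop where
  se : Cfsg.IsStronglyEmbedded H
  W_le : W ≤ H
  W_norm : ∀ h ∈ H, ∀ w ∈ W, h * w * h⁻¹ ∈ W
  W_odd : Odd (Nat.card W)
  core : ∀ t ∈ H, orderOf t = 2 → ∀ x : G, Odd (orderOf x) → x * t = t * x → x ∈ W
  four : ∃ E ≤ H, IsFour E

/-- The conjugate of `W` at a point. -/
noncomputable def Wat {H : Subgroup G} (W : Subgroup G) (c : G ⧸ H) : Subgroup G :=
  W.map (MulAut.conj c.out).toMonoidHom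

variable {H W : Subgroup G}

theorem fix_iff {g k : G} : g • (k : G ⧸ H) = k ↔ k⁻¹ * g * k ∈ H := by
  rw [MulAction.Quotient.smul_mk, QuotientGroup.eq, smul_eq_mul,
    show (g * k)⁻¹ * k = (k⁻¹ * g * k)⁻¹ by group, inv_mem_iff]

theorem fix_base_iff {g : G} : g • ((1 : G) : G ⧸ H) = ((1 : G) : G ⧸ H) ↔ g ∈ H := by
  rw [fix_iff]; simp

namespace Hyp

variable (h : Hyp H W)
include h

theorem W_normal : H ≤ normalizer (W : Set G) := le_normalizer_of h.W_norm

theorem conj_W {a w : G} (ha : a ∈ H) : a⁻¹ * w * a ∈ W ↔ w ∈ W := by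
  refine ⟨fun hw => ?_, fun hw => by simpa using h.W_norm _ (inv_mem ha) w hw⟩
  have := h.W_norm a ha _ hw
  rwa [show a * (a⁻¹ * w * a) * a⁻¹ = w by group] at this

theorem mem_Wat {g k : G} : g ∈ Wat W (k : G ⧸ H) ↔ k⁻¹ * g * k ∈ W := by
  obtain ⟨a, ha⟩ := QuotientGroup.mk_out_eq_mul H k
  rw [Wat, Invol.mem_conj_map, ha,
    show (k * (a : G))⁻¹ * g * (k * a) = (a : G)⁻¹ * (k⁻¹ * g * k) * a by group, h.conj_W a.2]

theorem mem_Wat_base {g : G} : g ∈ Wat W ((1 : G) : G ⧸ H) ↔ g ∈ W := by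
  rw [h.mem_Wat]; simp

theorem Wat_fix {g : G} {c : G ⧸ H} (hg : g ∈ Wat W c) : g • c = c := by
  induction c using QuotientGroup.induction_on with
  | _ k => exact fix_iff.2 (h.W_le (h.mem_Wat.1 hg))

theorem Wat_smul {g a : G} {c : G ⧸ H} : a * g * a⁻¹ ∈ Wat W (a • c) ↔ g ∈ Wat W c := by
  induction c using QuotientGroup.induction_on with
  | _ k =>
    rw [MulAction.Quotient.smul_mk, smul_eq_mul, h.mem_Wat, h.mem_Wat,
      show (a * k)⁻¹ * (a * g * a⁻¹) * (a * k) = k⁻¹ * g * k by group]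

theorem Wat_odd (c : G ⧸ H) : Odd (Nat.card (Wat W c)) := by
  rw [Wat, card_map_of_injective (MulAut.conj c.out).injective]
  exact h.W_odd

theorem core_at {t x : G} {c : G ⧸ H} (ht : orderOf t = 2) (htc : t • c = c) (hx : Odd (orderOf x))
    (hc : x * t = t * x) : x ∈ Wat W c := by
  induction c using QuotientGroup.induction_on with
  | _ k =>
    refine h.mem_Wat.2 (h.core _ (fix_iff.1 htc) ?_ _ ?_ ?_)
    · rw [show k⁻¹ * t * k = k⁻¹ * t * k⁻¹⁻¹ by group, Invol.order_conj, ht]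
    · rwa [show k⁻¹ * x * k = k⁻¹ * x * k⁻¹⁻¹ by group, Invol.order_conj]
    · calc k⁻¹ * x * k * (k⁻¹ * t * k) = k⁻¹ * (x * t) * k := by group
        _ = k⁻¹ * (t * x) * k := by rw [hc]
        _ = _ := by group

theorem exists_invol : ∃ t ∈ H, orderOf t = 2 := Invol.exists_invol h.se.2.1

theorem exists_out : ∃ g : G, g ∉ H := by
  by_contra hc
  push Not at hc
  exact h.se.1 ((Subgroup.eq_top_iff' H).2 hc)

/-- An odd subgroup normalised by a four-group of `H` lies in `W`. -/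
theorem le_W_of_four {Y E : Subgroup G} (hY : Odd (Nat.card Y)) (hE : IsFour E) (hEH : E ≤ H)
    (hEY : E ≤ normalizer (Y : Set G)) : Y ≤ W := by
  haveI := hE.1.1
  obtain ⟨n, hn⟩ := (IsPGroup.iff_card (p := 2)).1 hE.isPGroup
  have hcop : (Nat.card E).Coprime (Nat.card Y) := by
    rw [hn]; exact (Nat.coprime_two_left.2 hY).pow_left n
  rw [← CoprimeAct.generated_by_centralizers hE.not_isCyclic hEY hcop]
  refine iSup₂_le fun a ha => fun y hy => ?_
  exact h.core a (hEH ha.1) (hE.order ha.1 ha.2) y (odd_order hY hy.1)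
    (mem_centralizer_singleton_iff.1 hy.2)

/-- The intersection with a subgroup not in `H`. -/
theorem se_sub {L : Subgroup G} {t : G} (ht : orderOf t = 2) (htH : t ∈ H) (htL : t ∈ L)
    (hL : ¬ L ≤ H) : Cfsg.IsStronglyEmbedded (H.subgroupOf L) := by
  refine ⟨fun hh => hL (subgroupOf_eq_top.1 hh), ?_, fun g hg => ?_⟩
  · exact Invol.even_of_invol_mem (t := ⟨t, htL⟩) (by rwa [Subgroup.orderOf_mk]) htH
  · refine odd_card_of_orders fun a ha ha2 => ?_
    obtain ⟨haH, hag⟩ := ha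
    have hag' : (g : G)⁻¹ * (a : G) * g ∈ H := mem_subgroupOf.1 (Invol.mem_conj_map.1 hag)
    refine hg (mem_subgroupOf.2 ?_)
    have ho : orderOf (a : G) = 2 := by rwa [Subgroup.orderOf_coe]
    have ho' : orderOf ((g : G)⁻¹ * (a : G) * g) = 2 := by
      rw [show (g : G)⁻¹ * (a : G) * g = (g : G)⁻¹ * (a : G) * (g : G)⁻¹⁻¹ by group, Invol.order_conj, ho]
    refine Invol.se_mem_of_conj h.se ho' hag' ?_
    rw [show (g : G) * ((g : G)⁻¹ * (a : G) * g) * (g : G)⁻¹ = a by group]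
    exact haH

/-- The hypotheses inside a subgroup not in `H`. -/
theorem sub {L E : Subgroup G} (hE : IsFour E) (hEH : E ≤ H) (hEL : E ≤ L) (hL : ¬ L ≤ H) :
    Hyp (H.subgroupOf L) (W.subgroupOf L) := by
  obtain ⟨e, he, he1⟩ : ∃ e ∈ E, e ≠ 1 := by
    by_contra hc
    push Not at hc
    have h1 : E = ⊥ := (eq_bot_iff_forall _).2 hc
    have h4 := hE.2
    rw [h1, card_bot] at h4
    omega
  refine ⟨h.se_sub (hE.order he he1) (hEH he) (hEL he) hL, fun w hw => h.W_le hw,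
    fun a ha w hw => h.W_norm a ha w hw, ?_, ?_, E.subgroupOf L, fun e he => hEH he, ⟨?_, ?_⟩, ?_⟩
  · refine odd_card_of_orders fun a ha ha2 => ?_
    have := odd_order h.W_odd (mem_subgroupOf.1 ha)
    rw [Subgroup.orderOf_coe, ha2] at this
    exact absurd this (by decide)
  · intro t ht ht2 x hx hc
    exact h.core t ht (by rwa [Subgroup.orderOf_coe]) x (by rwa [Subgroup.orderOf_coe])
      (congrArg Subtype.val hc)
  · exact .of_setLike_mul_comm fun a ha b hb => Subtype.ext (hE.comm ha hb)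
  · exact fun a ha => Subtype.ext (by simpa using hE.1.2 _ ha)
  · rw [Nat.card_congr (subgroupOfEquivOfLe hEL).toEquiv]
    exact hE.2

end Hyp

/-- A minimal counterexample. -/
structure Min (H W : Subgroup G) : Prop extends Hyp H W where
  ocore : Cfsg.oddCore G = ⊥
  W_ne : W ≠ ⊥
  norm : ∀ X : Subgroup G, X ≤ W → X ≠ ⊥ → (∀ a ∈ H, ∀ x ∈ X, a * x * a⁻¹ ∈ X) →
    normalizer (X : Set G) = H
  f2 : ∀ L : Subgroup G, L ≠ ⊤ → ∀ E : Subgroup G, E ≤ L → E ≤ H → IsFour E → ¬ L ≤ H →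
    ∀ l ∈ L, ∀ w ∈ W ⊓ L, l * w * l⁻¹ ∈ W ⊓ L

/-- The inductive statement. -/
def Goal (G : Type u) [Group G] [Finite G] : Prop :=
  ∀ H W : Subgroup G, Hyp H W → W ≤ Cfsg.oddCore G

end Cfsg.Agent.SEBrick
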