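import Cfsg.Agent.Lib.SEBrick.NLess
import Cfsg.Agent.Lib.Functors.SectionInduction
import Cfsg.Agent.Lib.CharP.AxB
import Cfsg.Agent.Lib.OddChar.OddTheorem

/-!
Tools for a minimal counterexample in a simple group.
-/

set_option autoImplicit false
set_option linter.style.haveILetI false
set_option linter.unusedSectionVars false

namespace Cfsg.Agent.SEBrick

open Cfsg Subgroup Cfsg.Agent.Functors

universe u

variable {G : Type u} [Group G] [Finite G] {H W : Subgroup G}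

theorem coprime_four {E Y : Subgroup G} (hE : IsFour E) (hY : Odd (Nat.card Y)) :
    (Nat.card E).Coprime (Nat.card Y) := by
  obtain ⟨n, hn⟩ := (IsPGroup.iff_card (p := 2)).1 hE.isPGroup
  rw [hn]; exact (Nat.coprime_two_left.2 hY).pow_left n

theorem solvable_of_odd {Y : Subgroup G} (hY : Odd (Nat.card Y)) : Group.IsSolvable Y :=
  OddChar.oddSolvable Y hY

/-- The Frattini argument. -/
theorem frattini {p : ℕ} [Fact p.Prime] {R Q : Subgroup G} (hQ : IsSylowIn p Q R) {l : G}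
    (hl : ∀ r ∈ R, l * r * l⁻¹ ∈ R) : ∃ r ∈ R, r * l ∈ normalizer (Q : Set G) := by
  have hlR : R.map (cj l) = R := map_cj_eq_iff.2 (mem_normalizer_of hl)
  have h2 : IsSylowIn p (Q.map (cj l)) R := hlR ▸ hQ.map_cj l
  obtain ⟨r, hr, hrQ⟩ := exists_conj_eq_of_isSylowIn hQ h2
  rw [map_map_cj] at hrQ
  exact ⟨r, hr, map_cj_eq_iff.1 hrQ⟩

/-- An element centralising the Fitting subgroup of `W` and normalising `W` centralises `W`. -/
theorem commute_of_fitting {a : G} (hW : Odd (Nat.card W))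
    (ha : ∀ w ∈ W, a * w * a⁻¹ ∈ W) (hcop : (orderOf a).Coprime (Nat.card W))
    (hF : ∀ f ∈ (Cfsg.fittingSubgroup W).map W.subtype, a * f = f * a) {w : G} (hw : w ∈ W) :
    a * w = w * a := by
  haveI := solvable_of_odd hW
  have hd : w⁻¹ * (a * w * a⁻¹) ∈ W := mul_mem (inv_mem hw) (ha w hw)
  have hdF : (⟨_, hd⟩ : W) ∈ Cfsg.fittingSubgroup W := by
    refine FittingCores.centralizer_fitting_le (mem_centralizer_iff.2 fun f hf => Subtype.ext ?_)
    show (f : G) * (w⁻¹ * (a * w * a⁻¹)) = w⁻¹ * (a * w * a⁻¹) * (f : G)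
    have h1 : a * (f : G) = f * a := hF _ (mem_map_of_mem W.subtype hf)
    have h2 : a * (w * f * w⁻¹) = w * f * w⁻¹ * a :=
      hF _ (mem_map_of_mem W.subtype ((FittingCores.fitting_normal).conj_mem f hf ⟨w, hw⟩))
    have e : a * w * a⁻¹ * f * (a * w * a⁻¹)⁻¹ = w * f * w⁻¹ := by
      calc a * w * a⁻¹ * f * (a * w * a⁻¹)⁻¹ = a * w * a⁻¹ * ((f : G) * a) * w⁻¹ * a⁻¹ := by group
        _ = a * (w * f * w⁻¹) * a⁻¹ := by rw [← h1]; group
        _ = _ := by rw [h2]; group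
    calc (f : G) * (w⁻¹ * (a * w * a⁻¹)) = w⁻¹ * (w * f * w⁻¹) * (a * w * a⁻¹) := by group
      _ = _ := by rw [← e]; group
  have hfix : a * (w⁻¹ * (a * w * a⁻¹)) = w⁻¹ * (a * w * a⁻¹) * a := hF _ ⟨_, hdF, rfl⟩
  have h1 := AxB.fixed_of_conj_eq_mul (q := w) hfix (by group) (pow_orderOf_eq_one a)
    (hcop.symm.coprime_dvd_left (Subgroup.orderOf_dvd_natCard W hd))
  calc a * w = w * (w⁻¹ * (a * w * a⁻¹)) * a := by group
    _ = w * a := by rw [h1, mul_one]

namespace Min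

variable (M : Min H W)
include M

theorem normalizer_ne_top {X : Subgroup G} (hX : X ≠ ⊥) (ho : Odd (Nat.card X)) :
    normalizer (X : Set G) ≠ ⊤ :=
  fun htop => hX (le_bot_iff.1 (M.ocore ▸ le_oddCore (normalizer_eq_top_iff.1 htop) ho))

theorem centralizer_ne_top {w : G} (hw : w ∈ W) (hw1 : w ≠ 1) : centralizer ({w} : Set G) ≠ ⊤ := by
  intro htop
  have hn : (zpowers w).Normal := by
    refine ⟨fun n hn g => ?_⟩
    obtain ⟨i, rfl⟩ := hn
    have hg : g * w = w * g := mem_centralizer_singleton_iff.1 (htop ▸ mem_top g)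
    rw [((show Commute g w from hg).zpow_right i).eq, mul_inv_cancel_right]
    exact ⟨i, rfl⟩
  refine hw1 (zpowers_eq_bot.1 (le_bot_iff.1 (M.ocore ▸ le_oddCore hn ?_)))
  rw [Nat.card_zpowers]
  exact odd_order M.W_odd hw

/-- Subgroups of `W` with centraliser in `H` have normaliser in `H`, given an involution of `H`
centralising them. -/
theorem normalizer_le_of_cent {A : Subgroup G} (hA : centralizer (A : Set G) ≤ H) {t : G} (ht : orderOf t = 2)
    (htA : t ∈ centralizer (A : Set G)) : normalizer (A : Set G) ≤ H := by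
  intro g hg
  refine Invol.se_mem_of_conj M.se ht (hA htA) (hA (mem_centralizer_iff.2 fun a ha => ?_))
  have ha' : g⁻¹ * a * g ∈ A := (mem_normalizer_iff''.1 hg a).1 ha
  have := mem_centralizer_iff.1 htA _ ha'
  calc a * (g * t * g⁻¹) = g * (g⁻¹ * a * g * t) * g⁻¹ := by group
    _ = g * (t * (g⁻¹ * a * g)) * g⁻¹ := by rw [this]
    _ = _ := by group

/-- Climbing inside `W` among `p`-subgroups normalised by four-groups with normaliser outside `H`. -/
theorem climb {p : ℕ} [Fact p.Prime] {A E₀ : Subgroup G} (hA1 : A ≠ ⊥) (hAW : A ≤ W) (hAp : IsPGroup p A)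
    (hE : IsFour E₀) (hEH : E₀ ≤ H) (hEA : E₀ ≤ normalizer (A : Set G))
    (hAN : ¬ normalizer (A : Set G) ≤ H) :
    ∃ T₀ : Subgroup G, A ≤ T₀ ∧ IsSylowIn p T₀ W ∧ ¬ normalizer (T₀ : Set G) ≤ H := by
  obtain ⟨Q, hAQ, ⟨hQW, hQp, ⟨E, hE', hEH', hEQ⟩, hQN⟩, hmax⟩ := Finite.exists_le_maximal
    (p := fun Q : Subgroup G => Q ≤ W ∧ IsPGroup p Q ∧
      (∃ E, IsFour E ∧ E ≤ H ∧ E ≤ normalizer (Q : Set G)) ∧ ¬ normalizer (Q : Set G) ≤ H)
    ⟨hAW, hAp, ⟨E₀, hE, hEH, hEA⟩, hAN⟩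
  have hQ1 : Q ≠ ⊥ := fun e => hA1 (le_bot_iff.1 (e ▸ hAQ))
  set L := normalizer (Q : Set G) with hL
  have hLne : L ≠ ⊤ := M.normalizer_ne_top hQ1 (odd_of_le M.W_odd hQW)
  have hR := M.f2 L hLne E hEQ hEH' hE' hQN
  set R := W ⊓ L with hRdef
  have hRodd : Odd (Nat.card R) := odd_of_le M.W_odd inf_le_left
  haveI := hE'.1.1
  obtain ⟨P, hQP, hEP⟩ := CoprimeAct.exists_invariant_sylow_ge
    (le_normalizer_of fun e he r hr => hR e (hEQ he) r hr : E ≤ normalizer (R : Set G))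
    (coprime_four hE' hRodd) (Or.inl (Group.isSolvable_of_comm fun a b => mul_comm' a b))
    (U := Q) (le_inf hQW le_normalizer) hQp hEQ
  set Q₁ : Subgroup G := (P : Subgroup R).map R.subtype
  have hQ₁ : IsSylowIn p Q₁ R := isSylowIn_map_subtype P
  have hN1 : ¬ normalizer (Q₁ : Set G) ≤ H := by
    intro hle
    refine hQN fun l hl => ?_
    obtain ⟨r, hr, hrl⟩ := frattini hQ₁ (fun r hr => hR l hl r hr)
    have := mul_mem (inv_mem (M.W_le hr.1)) (hle hrl)
    rwa [inv_mul_cancel_left] at this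
  have hQQ₁ : Q₁ = Q := le_antisymm
    (hmax ⟨hQ₁.le.trans inf_le_left, hQ₁.isPGroup, ⟨E, hE', hEH', hEP⟩, hN1⟩ hQP) hQP
  refine ⟨Q, hAQ, ?_, hQN⟩
  obtain ⟨S, hS, hQS⟩ := exists_isSylowIn_ge (p := p) hQp hQW
  rcases eq_or_lt_of_le hQS with e | hlt
  · exact e ▸ hS
  · exfalso
    have h1 := lt_inf_normalizer_of_lt hS.isPGroup hlt
    have h2 : S ⊓ normalizer (Q : Set G) = Q₁ :=
      (hQ₁.eq_of_le (hS.isPGroup.to_le inf_le_left) (hQQ₁ ▸ h1.le) (inf_le_inf_right _ hS.le)).symm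
    rw [h2, hQQ₁] at h1
    exact lt_irrefl _ h1

end Min

end Cfsg.Agent.SEBrick
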