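import Cfsg.Agent.Lib.CNSimple.CITStructure
import Cfsg.Agent.Lib.PSL2Binary.FourGroups
import Cfsg.Agent.Lib.Involutions.BaerSuzuki
import Cfsg.Agent.Lib.Solvable.SchurZassenhaus
import Cfsg.Agent.Lib.AbPPrime.Basic
import Cfsg.Agent.S0819

/-!
A group with 2-group centralisers of involutions, an odd subgroup transitive on the involutions and an
elementary subgroup of order eight has a normal Sylow 2-subgroup containing all involutions in its
centre.
-/

set_option autoImplicit false
set_option linter.style.haveILetI false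
set_option linter.unusedSectionVars false

namespace Cfsg.Agent.SEBrick.CITReg

open Subgroup Cfsg.Agent.CNSimple
open scoped Pointwise

universe u

variable {X : Type u} [Group X] [Finite X]

/-- The hypotheses. -/
structure Reg (D : Subgroup X) : Prop where
  cit : CIT X
  odd : Odd (Nat.card D)
  trans : ∀ a b : X, orderOf a = 2 → orderOf b = 2 → ∃ d ∈ D, d * a * d⁻¹ = b
  eight : ∃ A : Subgroup X, Elem A ∧ 8 ≤ Nat.card A

variable {D : Subgroup X}

theorem cube_five : ∀ a : ZMod 5, a ^ 3 = 1 → a = 1 := by decide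

theorem exists_fifteen {Y : Type u} [Group Y] [Finite Y] (h : Nat.card Y = 315) :
    ∃ g : Y, orderOf g = 15 := by
  classical
  haveI : Fact (Nat.Prime 5) := ⟨by norm_num⟩
  haveI : Fact (Nat.Prime 3) := ⟨Nat.prime_three⟩
  obtain ⟨P⟩ : Nonempty (Sylow 5 Y) := inferInstance
  have hP : Nat.card (P : Subgroup Y) = 5 := by
    rw [P.card_eq_multiplicity, h, show (315 : ℕ) = 5 * 63 by norm_num,
      Nat.factorization_mul (by norm_num) (by norm_num), Finsupp.add_apply,
      Nat.Prime.factorization_self (by norm_num),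
      Nat.factorization_eq_zero_of_not_dvd (by norm_num : ¬ 5 ∣ 63)]
    norm_num
  have hn : Nat.card (Sylow 5 Y) ∣ 63 := by
    refine (Sylow.card_dvd_index P).trans ?_
    have := (P : Subgroup Y).index_mul_card
    rw [hP, h] at this
    rw [show (P : Subgroup Y).index = 63 by omega]
  have hmod : Nat.card (Sylow 5 Y) % 5 = 1 := by
    have := card_sylow_modEq_one 5 Y
    exact this
  have hcase : Nat.card (Sylow 5 Y) = 1 ∨ Nat.card (Sylow 5 Y) = 21 := by
    have hmem : Nat.card (Sylow 5 Y) ∈ Nat.divisors 63 := Nat.mem_divisors.2 ⟨hn, by norm_num⟩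
    rw [show Nat.divisors 63 = {1, 3, 7, 9, 21, 63} by decide] at hmem
    simp only [Finset.mem_insert, Finset.mem_singleton] at hmem
    omega
  have hN : 3 ∣ Nat.card (normalizer ((P : Subgroup Y) : Set Y)) := by
    have hidx := (normalizer ((P : Subgroup Y) : Set Y)).index_mul_card
    have hcn : Nat.card (Sylow 5 Y) = (normalizer ((P : Subgroup Y) : Set Y)).index :=
      P.card_eq_index_normalizer
    rw [← hcn, h] at hidx
    rcases hcase with e | e <;> rw [e] at hidx <;> omega
  obtain ⟨x, hx⟩ := exists_prime_orderOf_dvd_card' 3 hN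
  obtain ⟨y, hy⟩ := exists_prime_orderOf_dvd_card' (G := (P : Subgroup Y)) 5 (by rw [hP])
  have hyo : orderOf (y : Y) = 5 := by rwa [Subgroup.orderOf_coe]
  have hxo : orderOf (x : Y) = 3 := by rwa [Subgroup.orderOf_coe]
  have hgen : zpowers (y : Y) = (P : Subgroup Y) :=
    eq_of_le_of_card_ge (zpowers_le.2 y.2) (by rw [Nat.card_zpowers, hyo, hP])
  obtain ⟨k, hk⟩ : (x : Y) * y * (x : Y)⁻¹ ∈ zpowers (y : Y) := by
    rw [hgen]; exact (mem_normalizer_iff.1 x.2 _).1 y.2
  simp only at hk
  -- conjugation by an element of order three on a group of order five is trivial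
  have hpow : ∀ i : ℕ, (x : Y) ^ i * y * ((x : Y) ^ i)⁻¹ = (y : Y) ^ (k ^ i) := by
    intro i
    induction i with
    | zero => simp
    | succ i ih =>
      rw [pow_succ' (x : Y) i, show (x : Y) * (x : Y) ^ i * y * ((x : Y) * (x : Y) ^ i)⁻¹ =
        (x : Y) * ((x : Y) ^ i * y * ((x : Y) ^ i)⁻¹) * (x : Y)⁻¹ by group, ih, ← conj_zpow, ← hk,
        ← zpow_mul, pow_succ']
  have h3 := hpow 3
  rw [← hxo, pow_orderOf_eq_one, hxo] at h3
  simp only [one_mul, inv_one, mul_one] at h3
  have h5 : (5 : ℤ) ∣ k ^ 3 - 1 := by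
    have : (y : Y) ^ (k ^ 3 - 1) = 1 := by rw [zpow_sub, ← h3, zpow_one, mul_inv_cancel]
    have := orderOf_dvd_iff_zpow_eq_one.2 this
    rwa [hyo] at this
  have hk1 : (5 : ℤ) ∣ k - 1 := by
    have h0 : ((k : ZMod 5)) ^ 3 = 1 := by
      have := (ZMod.intCast_zmod_eq_zero_iff_dvd (k ^ 3 - 1) 5).2 h5
      push_cast at this
      exact sub_eq_zero.1 this
    have h1 : (k : ZMod 5) = 1 := by
      exact cube_five _ h0
    exact (ZMod.intCast_zmod_eq_zero_iff_dvd (k - 1) 5).1 (by push_cast; rw [h1, sub_self])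
  have hc : Commute (x : Y) y := by
    have : (y : Y) ^ k = y := by
      have h1 : (y : Y) ^ (k - 1) = 1 := orderOf_dvd_iff_zpow_eq_one.1 (by rwa [hyo])
      rw [zpow_sub, zpow_one, mul_inv_eq_one] at h1
      exact h1
    rw [this] at hk
    exact (eq_mul_inv_iff_mul_eq.1 hk).symm
  refine ⟨x * y, ?_⟩
  rw [hc.orderOf_mul_eq_mul_orderOf_of_coprime (by rw [hxo, hyo]; norm_num), hxo, hyo]

/-- No elementary subgroup of order eight in `PSL(2, q)`, `q` odd. -/
theorem not_eight_psl {M : Type u} [Group M] [Finite M] {F : Type} [Field F] [Fintype F]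
    (hodd : Odd (Fintype.card F)) (e : M ≃* Matrix.ProjectiveSpecialLinearGroup (Fin 2) F)
    {A : Subgroup M} (hA : Elem A) (h8 : 8 ≤ Nat.card A) : False := by
  have h2 : (2 : F) ≠ 0 := Ring.two_ne_zero fun hc =>
    Nat.not_even_iff_odd.2 hodd (Nat.even_iff.2 (FiniteField.even_card_of_char_two hc))
  obtain ⟨a, ha, ha1⟩ : ∃ a ∈ A, a ≠ 1 := by
    by_contra hc
    push Not at hc
    rw [(eq_bot_iff_forall _).2 hc, card_bot] at h8
    omega
  obtain ⟨b, hb, hbz⟩ : ∃ b ∈ A, b ∉ zpowers a := by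
    by_contra hc
    push Not at hc
    have := card_le_of_le (show A ≤ zpowers a from hc)
    rw [Nat.card_zpowers] at this
    have h2' : orderOf a ≤ 2 := Nat.le_of_dvd two_pos
      (orderOf_dvd_of_pow_eq_one (by rw [pow_two]; exact hA.1 a ha))
    omega
  have hb1 : b ≠ 1 := fun h => hbz (h ▸ one_mem _)
  have hne : e a ≠ e b := fun h => hbz (e.injective h ▸ mem_zpowers a)
  have sq : ∀ c ∈ A, e c * e c = 1 := fun c hc => by rw [← map_mul, hA.1 c hc, map_one]
  have key : ∀ c : A, c = 1 ∨ c = ⟨a, ha⟩ ∨ c = ⟨b, hb⟩ ∨ c = ⟨a, ha⟩ * ⟨b, hb⟩ := by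
    rintro ⟨c, hc⟩
    simp only [Subtype.ext_iff, Subgroup.coe_mul, Subgroup.coe_one]
    rcases PSL2Binary.four_cent h2 (sq a ha) (fun h => ha1 (by simpa using h)) (sq b hb)
      (fun h => hb1 (by simpa using h)) hne (by rw [← map_mul, ← map_mul, hA.2 a ha b hb])
      (c := e c) (by rw [← map_mul, ← map_mul, hA.2 c hc a ha]) (by rw [← map_mul, ← map_mul, hA.2 c hc b hb])
      with h | h | h | h
    · exact Or.inl (by simpa using h)
    · exact Or.inr (Or.inl (e.injective h))
    · exact Or.inr (Or.inr (Or.inl (e.injective h)))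
    · exact Or.inr (Or.inr (Or.inr (e.injective (h.trans (map_mul e a b).symm))))
  classical
  have hle : Nat.card A ≤ 4 := by
    haveI := Fintype.ofFinite A
    rw [Nat.card_eq_fintype_card]
    refine le_trans (Finset.card_le_card (t := ({1, ⟨a, ha⟩, ⟨b, hb⟩, ⟨a, ha⟩ * ⟨b, hb⟩} : Finset A))
      fun c _ => ?_) Finset.card_le_four
    simpa using key c
  omega

theorem exists_invol_of_two_dvd {K : Subgroup X} (h : 2 ∣ Nat.card K) : ∃ t ∈ K, orderOf t = 2 :=
  Invol.exists_invol (even_iff_two_dvd.2 h)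

namespace Reg

variable (h : Reg D)
include h

theorem exists_invol : ∃ t : X, orderOf t = 2 := by
  obtain ⟨A, hA, h8⟩ := h.eight
  obtain ⟨a, ha, ha1⟩ : ∃ a ∈ A, a ≠ 1 := by
    by_contra hc
    push Not at hc
    rw [(eq_bot_iff_forall _).2 hc, card_bot] at h8
    omega
  exact ⟨a, Invol.order_two_of_sq (hA.1 a ha) ha1⟩

theorem free {d t : X} (hd : d ∈ D) (ht : orderOf t = 2) (hc : d * t = t * d) : d = 1 := by
  obtain ⟨k, hk⟩ := IsPGroup.iff_orderOf.1 (h.cit t ht) ⟨d, mem_centralizer_singleton_iff.2 hc⟩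
  rw [Subgroup.orderOf_mk] at hk
  have hodd : Odd (orderOf d) := h.odd.of_dvd_nat (Subgroup.orderOf_dvd_natCard D hd)
  rcases Nat.eq_zero_or_pos k with rfl | hk0
  · exact orderOf_eq_one_iff.1 (by rw [hk, pow_zero])
  · exact absurd hodd (Nat.not_odd_iff_even.2 (hk ▸ Nat.even_pow.2 ⟨even_two, hk0.ne'⟩))

theorem card_D {t : X} (ht : orderOf t = 2) :
    Nat.card D = (centralizer ({t} : Set X)).index := by
  rw [show (centralizer ({t} : Set X)).index = Nat.card {a : X // orderOf a = 2} from ?_]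
  · refine Nat.card_eq_of_bijective
      (fun d : D => (⟨d * t * (d : X)⁻¹, (Invol.order_conj _ t).trans ht⟩ : {a : X // orderOf a = 2}))
      ⟨fun d d' he => ?_, fun a => ?_⟩
    · have e : (d : X) * t * (d : X)⁻¹ = d' * t * (d' : X)⁻¹ := congrArg Subtype.val he
      have h1 := h.free (mul_mem (inv_mem d'.2) d.2) ht (by
        calc (d' : X)⁻¹ * d * t = (d' : X)⁻¹ * (d * t * (d : X)⁻¹) * d := by group
          _ = (d' : X)⁻¹ * (d' * t * (d' : X)⁻¹) * d := by rw [e]
          _ = _ := by group)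
      exact (Subtype.ext (inv_mul_eq_one.1 h1)).symm
    · obtain ⟨d, hd, hda⟩ := h.trans t a ht a.2
      exact ⟨⟨d, hd⟩, Subtype.ext hda⟩
  · have := CASimple.card_orbit_conj ⊤ t {a : X | orderOf a = 2}
      (fun g _ => (Invol.order_conj g t).trans ht) (fun a ha => by
        obtain ⟨d, -, hda⟩ := h.trans t a ht ha
        exact ⟨d, mem_top d, hda⟩)
    rw [relIndex_top_right] at this
    exact this.symm

/-- The centraliser of an involution is a Sylow 2-subgroup. -/
theorem odd_index {t : X} (ht : orderOf t = 2) : Odd (centralizer ({t} : Set X)).index :=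
  h.card_D ht ▸ h.odd

theorem le_cent {N : Subgroup X} [N.Normal] (hN : IsPGroup 2 N) {t : X} (ht : orderOf t = 2) :
    N ≤ centralizer ({t} : Set X) := by
  set C := centralizer ({t} : Set X) with hC
  have hp : IsPGroup 2 (N ⊔ C : Subgroup X) := hN.to_sup_of_normal_left (h.cit t ht)
  obtain ⟨k, hk⟩ := IsPGroup.iff_card.1 hp
  have hd : C.relIndex (N ⊔ C) ∣ 2 ^ k := hk ▸ relIndex_dvd_card C (N ⊔ C)
  have hd' : C.relIndex (N ⊔ C) ∣ C.index :=
    Dvd.intro _ (relIndex_mul_index (le_sup_right : C ≤ N ⊔ C))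
  have h1 : C.relIndex (N ⊔ C) = 1 := Nat.eq_one_of_dvd_coprimes
    ((Nat.coprime_two_left.2 (h.odd_index ht)).pow_left k) hd hd'
  exact le_sup_left.trans (relIndex_eq_one.1 h1)

set_option maxHeartbeats 1000000 in
/-- There is a nontrivial normal 2-subgroup. -/
theorem exists_two_normal : ∃ N : Subgroup X, N.Normal ∧ IsPGroup 2 N ∧ N ≠ ⊥ := by
  classical
  by_contra hcon
  push Not at hcon
  obtain ⟨t, ht⟩ := h.exists_invol
  haveI : Fact (Nat.Prime 2) := ⟨Nat.prime_two⟩
  -- no normal subgroup of odd order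
  have hns : ¬ Group.IsSolvable X := by
    intro hsol
    haveI := hsol
    haveI : Nontrivial X := ⟨t, 1, Invol.ne_one ht⟩
    obtain ⟨M, p, hp, hMn, hM, -, -, -, hMp, -⟩ :=
      SolvBasic.exists_minimal_normal_abelian (N := (⊤ : Subgroup X)) inferInstance top_ne_bot
    haveI := Fact.mk hp
    by_cases hp2 : p = 2
    · subst hp2; exact hM (hcon M hMn hMp)
    · haveI := hMn
      have hodd : Odd (Nat.card M) := by
        obtain ⟨k, hk⟩ := hMp.exists_card_eq
        rw [hk]
        exact (hp.odd_of_ne_two hp2).pow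
      obtain ⟨A, hA, h8⟩ := h.eight
      haveI : IsMulCommutative A := .of_setLike_mul_comm fun a ha b hb => hA.2 a ha b hb
      have hAc : ¬ IsCyclic A := fun hc => by
        obtain ⟨g, hg⟩ := hc.exists_generator
        have := orderOf_eq_card_of_forall_mem_zpowers hg
        have h2 : orderOf g ∣ 2 := orderOf_dvd_of_pow_eq_one (Subtype.ext (by
          rw [Subgroup.coe_pow, pow_two, hA.1 g g.2, coe_one]))
        have := Nat.le_of_dvd two_pos h2
        omega
      have hA2 : IsPGroup 2 A := fun a => ⟨1, Subtype.ext (by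
        rw [pow_one, Subgroup.coe_pow, pow_two, hA.1 a a.2, coe_one])⟩
      obtain ⟨k, hk⟩ := hA2.exists_card_eq
      refine hM (le_bot_iff.1 ?_)
      rw [← CoprimeAct.generated_by_centralizers hAc (show A ≤ normalizer (M : Set X) by
        rw [normalizer_eq_top]; exact le_top) (hk ▸ (Nat.coprime_two_left.2 hodd).pow_left k)]
      refine iSup₂_le fun a ha c hc => ?_
      exact mem_bot.2 (CNSimple.eq_one_of_odd (h.cit a (Invol.order_two_of_sq (hA.1 a ha.1) ha.2)) hc.2
        (hodd.of_dvd_nat (Subgroup.orderOf_dvd_natCard M hc.1)))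
  obtain ⟨M, hMn, hM, hna, hC⟩ := CITStruct.exists_socle h.cit hcon hns
  haveI := hMn
  haveI := hM
  have hMns : ¬ Group.IsSolvable M := fun hs => by
    obtain ⟨a, b, hab⟩ := hna
    exact hab (IsSimpleGroup.comm_iff_isSolvable.2 hs a b)
  -- all involutions lie in the socle
  have hinv : ∀ a : X, orderOf a = 2 → a ∈ M := by
    intro a ha
    have hev : Even (Nat.card M) := by
      rw [← Nat.not_odd_iff_even]
      exact fun ho => hMns (OddChar.oddSolvable M ho)
    obtain ⟨z, hzM, hz⟩ := Invol.exists_invol hev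
    obtain ⟨d, -, hd⟩ := h.trans z a hz ha
    exact hd ▸ hMn.conj_mem z hzM d
  obtain ⟨A, hA, h8⟩ := h.eight
  have hAM : A ≤ M := fun a ha => by
    by_cases ha1 : a = 1
    · exact ha1 ▸ M.one_mem
    · exact hinv a (Invol.order_two_of_sq (hA.1 a ha) ha1)
  have hA' : Elem (A.subgroupOf M) := ⟨fun a ha => Subtype.ext (hA.1 a ha),
    fun a ha b hb => Subtype.ext (hA.2 a ha b hb)⟩
  have h8' : 8 ≤ Nat.card (A.subgroupOf M) := by
    rwa [Nat.card_congr (subgroupOfEquivOfLe hAM).toEquiv]
  have noPSL : ¬ IsOddPSL M := by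
    rintro ⟨F, i1, i2, hq, ⟨e⟩⟩
    refine not_eight_psl ?_ e hA' h8'
    rcases hq with h9 | ⟨hp, k, hk⟩
    · rw [h9]; exact ⟨4, rfl⟩
    · refine hp.odd_of_ne_two fun h2 => hMns ?_
      have h23 := h2
      haveI : Fact (Nat.Prime 2) := ⟨Nat.prime_two⟩
      by_contra
      exact absurd (CNSimple.five_le_of_psl (F := F) fun hs => hMns (by
        haveI := hs
        exact Group.isSolvable_of_surjective (f := e.symm.toMonoidHom) e.symm.surjective)) (by omega)
  rcases CNSimple.hSimple M hM (h.cit.subgroup M) hna with ⟨K, hK⟩ | hp | hl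
  · -- the TI case
    have htop : M = ⊤ := CITStruct.ti_top h.cit hK
    have T := hK.map ((MulEquiv.subgroupCongr htop).trans Subgroup.topEquiv)
    haveI : Nontrivial X := M.subtype_injective.nontrivial
    haveI : IsSimpleGroup X := IsSimpleGroup.isSimpleGroup_of_surjective
      ((MulEquiv.subgroupCongr htop).trans Subgroup.topEquiv).toMonoidHom
      ((MulEquiv.subgroupCongr htop).trans Subgroup.topEquiv).surjective
    set K' := K.map ((MulEquiv.subgroupCongr htop).trans Subgroup.topEquiv).toMonoidHom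
    obtain ⟨u, hu, huN⟩ := T.exists_invol_not_mem
    obtain ⟨z, hzK, hz, -⟩ := T.exists_central
    set x₀ : X ⧸ T.N := ((1 : X) : X ⧸ T.N) with hx₀
    set D₀ : Subgroup X := D ⊓ T.N with hD₀
    have hcard : Nat.card D₀ = T.m := by
      refine Nat.card_eq_of_bijective
        (fun d : D₀ => (⟨d * z * (d : X)⁻¹, (Invol.order_conj _ z).trans hz, T.conj_K d.2.2 hzK⟩ : T.J))
        ⟨fun d d' he => ?_, fun a => ?_⟩
      · have e : (d : X) * z * (d : X)⁻¹ = d' * z * (d' : X)⁻¹ := congrArg Subtype.val he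
        have h1 := h.free (mul_mem (inv_mem d'.2.1) d.2.1) hz (by
          calc (d' : X)⁻¹ * d * z = (d' : X)⁻¹ * (d * z * (d : X)⁻¹) * d := by group
            _ = (d' : X)⁻¹ * (d' * z * (d' : X)⁻¹) * d := by rw [e]
            _ = _ := by group)
        exact (Subtype.ext (inv_mul_eq_one.1 h1)).symm
      · obtain ⟨d, hd, hda⟩ := h.trans z a hz a.2.1
        exact ⟨⟨d, hd, T.mem_N_of_meet hzK (Invol.ne_one hz) (hda.symm ▸ a.2.2)⟩, Subtype.ext hda⟩
    obtain ⟨r, hr, hrm⟩ := Nat.exists_prime_and_dvd (show T.m ≠ 1 by have := T.two_le_m; omega)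
    haveI := Fact.mk hr
    have hrodd : r ≠ 2 := by
      rintro rfl
      exact Nat.not_even_iff_odd.2 T.odd_m (even_iff_two_dvd.2 hrm)
    obtain ⟨R₀⟩ : Nonempty (Sylow r D₀) := inferInstance
    set R : Subgroup X := (R₀ : Subgroup D₀).map D₀.subtype with hR
    have hRD : R ≤ D₀ := map_subtype_le _
    have hRp : IsPGroup r R := R₀.isPGroup'.map _
    -- a Sylow subgroup of the two-point stabiliser is one of the point stabiliser
    obtain ⟨RD⟩ : Nonempty (Sylow r (T.D u)) := inferInstance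
    set RD' : Subgroup T.N := ((RD : Subgroup (T.D u)).map (T.D u).subtype).subgroupOf T.N with hRD'
    obtain ⟨n, hn⟩ : ∃ n ∈ T.N, ∀ x ∈ R, n⁻¹ * x * n ∈ T.D u := by
      have hDN : T.D u ≤ T.N := inf_le_left
      have hRDp : IsPGroup r RD' := ((RD.isPGroup'.map _).comap_subtype)
      obtain ⟨S, hS⟩ := hRDp.exists_le_sylow
      have hSeq : (S : Subgroup T.N) = RD' := by
        refine (eq_of_le_of_card_ge hS ?_).symm
        have hK2 : IsPGroup 2 K' := (h.cit z hz).to_le (T.Ct_invol hz hzK).ge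
        obtain ⟨a, ha⟩ := hK2.exists_card_eq
        rw [S.card_eq_multiplicity, T.card_N, ha, Nat.factorization_mul (pow_ne_zero _ two_ne_zero)
            (by have := T.two_le_m; omega), Finsupp.add_apply,
          Nat.factorization_eq_zero_of_not_dvd (fun hd => hrodd
            ((Nat.prime_dvd_prime_iff_eq hr Nat.prime_two).1 (hr.dvd_of_dvd_pow hd))), zero_add,
          Nat.card_congr (subgroupOfEquivOfLe ((map_subtype_le _).trans hDN)).toEquiv,
          card_map_of_injective (T.D u).subtype_injective, RD.card_eq_multiplicity, T.card_D hu huN]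
      obtain ⟨S', hS'⟩ := (hRp.comap_subtype (K := T.N)).exists_le_sylow
      obtain ⟨n, hn⟩ := MulAction.exists_smul_eq T.N S S'
      refine ⟨n, n.2, fun x hx => ?_⟩
      have hxS' : (⟨x, (hRD hx).2⟩ : T.N) ∈ (S' : Subgroup T.N) := hS' hx
      rw [← hn, Sylow.smul_def, Sylow.pointwise_smul_def, mem_pointwise_smul_iff_inv_smul_mem] at hxS'
      change _ ∈ (S : Subgroup T.N) at hxS'
      rw [hSeq] at hxS'
      obtain ⟨w, -, hw⟩ := mem_subgroupOf.1 hxS'
      have hw' : (w : X) = (n : X)⁻¹ * x * n := by simpa using hw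
      exact hw' ▸ w.2
    obtain ⟨d₀, hd₀⟩ : ∃ d : R, d ≠ 1 := by
      have h1 : 1 < Nat.card R := by
        rw [hR, card_map_of_injective D₀.subtype_injective, R₀.card_eq_multiplicity, hcard]
        exact Nat.one_lt_pow (hr.factorization_pos_of_dvd (by have := T.two_le_m; omega) hrm).ne' hr.one_lt
      haveI := Finite.one_lt_card_iff_nontrivial.1 h1
      exact exists_ne 1
    set y : X ⧸ T.N := (n * u) • x₀ with hy
    have hnx : n • x₀ = x₀ := T.fix_base.2 hn.1
    have hyx : y ≠ x₀ := by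
      intro e
      rw [hy] at e
      exact huN ((mul_mem_cancel_left hn.1).1 (T.fix_base.1 e))
    have hRy : ∀ x ∈ R, x • y = y := by
      intro x hx
      have h1 := ((T.mem_D hu).1 (hn.2 x hx)).2
      have h2 := T.fix_base.2 h1
      calc x • y = (n * u) • ((u * (n⁻¹ * x * n) * u) • x₀) := by
            rw [hy, ← mul_smul, ← mul_smul]
            congr 1
            rw [show n * u * (u * (n⁻¹ * x * n) * u) = n * (u * u) * n⁻¹ * x * (n * u) by group,
              Invol.mul_self hu]
            group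
        _ = y := by rw [h2]
    have hRx : ∀ x ∈ R, x • x₀ = x₀ := fun x hx => T.fix_base.2 (hRD hx).2
    have hfix : ∀ c : X ⧸ T.N, (d₀ : X) • c = c → c = x₀ ∨ c = y := by
      intro c hc
      have hd' := hn.2 d₀ d₀.2
      have hne : n⁻¹ * (d₀ : X) * n ≠ 1 := fun e => hd₀ (Subtype.ext (by
        rw [coe_one, show (d₀ : X) = n * (n⁻¹ * d₀ * n) * n⁻¹ by group, e]; simp))
      rcases T.fix_two hu huN hd' hne (c := n⁻¹ • c) (by
          rw [mul_smul, mul_smul, smul_inv_smul, hc]) with e | e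
      · exact Or.inl (by rw [inv_smul_eq_iff] at e; rw [e, hnx])
      · exact Or.inr (by rw [inv_smul_eq_iff] at e; rw [e, hy, mul_smul])
    -- an element of `D` exchanging the two points
    obtain ⟨g, hg⟩ : ∃ g ∈ D, g • x₀ = y := by
      obtain ⟨d, hd, hdz⟩ := h.trans z (n * u * z * (n * u)⁻¹) hz ((Invol.order_conj _ z).trans hz)
      refine ⟨d, hd, ?_⟩
      have hh : (n * u)⁻¹ * d ∈ T.N := T.mem_N_of_meet hzK (Invol.ne_one hz) (by
        have e : (n * u)⁻¹ * d * z * ((n * u)⁻¹ * d)⁻¹ = z := by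
          calc (n * u)⁻¹ * d * z * ((n * u)⁻¹ * d)⁻¹ = (n * u)⁻¹ * (d * z * d⁻¹) * (n * u) := by group
            _ = _ := by rw [hdz]; group
        rw [e]; exact hzK)
      have e := T.fix_base.2 hh
      rw [mul_smul, inv_smul_eq_iff] at e
      exact e
    set Dy : Subgroup X := D₀.map (MulAut.conj g).toMonoidHom with hDy
    have hRDy : R ≤ Dy := by
      intro x hx
      refine Invol.mem_conj_map.2 ⟨D.mul_mem (D.mul_mem (D.inv_mem hg.1) (hRD hx).1) hg.1, ?_⟩
      refine T.fix_base.1 ?_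
      rw [mul_smul, mul_smul, hg.2, hRy x hx, inv_smul_eq_iff, hg.2]
    set Rg : Subgroup X := R.map (MulAut.conj g).toMonoidHom with hRg
    have hRgy : Rg ≤ Dy := map_mono hRD
    have hcDy : Nat.card Dy = Nat.card D₀ := card_map_of_injective (MulAut.conj g).injective
    have hsyl : ∀ Q : Subgroup X, Q ≤ Dy → IsPGroup r Q → Nat.card Q = Nat.card R →
        ∃ S : Sylow r Dy, (S : Subgroup Dy) = Q.subgroupOf Dy := fun Q hQ hQp hQc => by
      obtain ⟨S, hS⟩ := (hQp.comap_subtype (K := Dy)).exists_le_sylow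
      refine ⟨S, (eq_of_le_of_card_ge hS ?_).symm⟩
      show Nat.card (S : Subgroup Dy) ≤ Nat.card (Q.subgroupOf Dy)
      rw [Nat.card_congr (subgroupOfEquivOfLe hQ).toEquiv, hQc, hR,
        card_map_of_injective D₀.subtype_injective, R₀.card_eq_multiplicity, S.card_eq_multiplicity, hcDy]
    obtain ⟨S₁, hS₁⟩ := hsyl R hRDy hRp rfl
    obtain ⟨S₂, hS₂⟩ := hsyl Rg hRgy (hRp.map _) (card_map_of_injective (MulAut.conj g).injective)
    obtain ⟨a, ha⟩ := MulAction.exists_smul_eq Dy S₂ S₁
    obtain ⟨a', ha', haeq⟩ := a.2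
    have haD : (a : X) ∈ D := by
      rw [← haeq]; exact mul_mem (mul_mem hg.1 ha'.1) (inv_mem hg.1)
    set k := (a : X) * g with hk
    have hkR : ∀ x ∈ R, k * x * k⁻¹ ∈ R := by
      intro x hx
      have hmem : (⟨g * x * g⁻¹, hRgy ⟨x, hx, rfl⟩⟩ : Dy) ∈ (S₂ : Subgroup Dy) := by
        rw [hS₂]; exact ⟨x, hx, rfl⟩
      have h2 : a * ⟨g * x * g⁻¹, hRgy ⟨x, hx, rfl⟩⟩ * a⁻¹ ∈ (a • S₂ : Sylow r Dy) := by
        rw [Sylow.smul_def]; exact ⟨_, hmem, rfl⟩
      rw [ha] at h2
      change _ ∈ (S₁ : Subgroup Dy) at h2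
      rw [hS₁, mem_subgroupOf] at h2
      rw [hk, show (a : X) * g * x * ((a : X) * g)⁻¹ = (a : X) * (g * x * g⁻¹) * (a : X)⁻¹ by group]
      simpa using h2
    have hkx : k • x₀ = y := by
      have hay : (a : X) • y = y := by
        rw [← haeq]
        show (g * a' * g⁻¹) • y = y
        rw [mul_smul, mul_smul, show g⁻¹ • y = x₀ by rw [← hg.2, inv_smul_smul], T.fix_base.2 ha'.2, hg.2]
      rw [hk, mul_smul, hg.2, hay]
    have hky : k • y = x₀ := by
      have hmap : R.map (MulAut.conj k).toMonoidHom = R :=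
        eq_of_le_of_card_ge (by rintro _ ⟨x, hx, rfl⟩; exact hkR x hx)
          (card_map_of_injective (MulAut.conj k).injective).ge
      obtain ⟨x, hx, hxd⟩ : (d₀ : X) ∈ R.map (MulAut.conj k).toMonoidHom := hmap.symm ▸ d₀.2
      have hdk : (d₀ : X) • k • y = k • y := by
        rw [← mul_smul, ← hxd]
        show (k * x * k⁻¹ * k) • y = k • y
        rw [inv_mul_cancel_right, mul_smul, hRy x hx]
      rcases hfix _ hdk with e | e
      · exact e
      · exact absurd (MulAction.injective k (e.trans hkx.symm)) hyx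
    have hkodd : Odd (orderOf k) := h.odd.of_dvd_nat
      (Subgroup.orderOf_dvd_natCard D (mul_mem haD hg.1))
    obtain ⟨j, hj⟩ := hkodd
    have h2j : ∀ j : ℕ, k ^ (2 * j) • x₀ = x₀ := by
      intro j
      induction j with
      | zero => rw [mul_zero, pow_zero, one_smul]
      | succ j ih => rw [show 2 * (j + 1) = 2 * j + 2 by ring, pow_add, mul_smul, pow_two, mul_smul, hkx,
          hky, ih]
    have := congrArg (fun a => a • x₀) (pow_orderOf_eq_one k)
    rw [hj, pow_succ', mul_smul, h2j, hkx, one_smul] at this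
    exact hyx this
  · exact noPSL hp
  · rcases socle_cases h.cit hMns hC (Or.inr (Or.inr hl)) with htop | ⟨-, F, i1, i2, h9, ⟨e⟩⟩
    swap
    · exact not_eight_psl (by rw [h9]; exact ⟨4, rfl⟩) e hA' h8'
    obtain ⟨F, i1, i2, hF, ⟨e⟩⟩ := hl
    haveI : Fintype (Projectivization F (Fin 3 → F)) := Fintype.ofFinite _
    have hcard : Nat.card X = 20160 := by
      rw [← PlanePSL.card_psl hF, ← Nat.card_congr e.toEquiv, htop, card_top]
    have hD : Nat.card D = 315 := by
      obtain ⟨k, hk⟩ := (h.cit t ht).exists_card_eq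
      have := (centralizer ({t} : Set X)).index_mul_card
      rw [hk, hcard, ← h.card_D ht, show (20160 : ℕ) = 315 * 2 ^ 6 by norm_num] at this
      have h1 : Nat.card D ∣ 315 := (Nat.Coprime.dvd_of_dvd_mul_right
        ((Nat.coprime_two_right.2 h.odd).pow_right 6) (Dvd.intro _ this))
      have h2 : 315 ∣ Nat.card D := (Nat.Coprime.dvd_of_dvd_mul_right
        ((show Nat.Coprime 315 2 by norm_num).pow_right k) (Dvd.intro _ this.symm))
      exact Nat.dvd_antisymm h1 h2
    obtain ⟨g, hg⟩ := exists_fifteen hD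
    let i : D →* M := D.subtype.codRestrict M fun d => htop.symm ▸ mem_top _
    have hi : Function.Injective i := fun a b hab =>
      Subtype.ext (congrArg Subtype.val hab : ((i a : M) : X) = i b)
    exact S0819.result hF (e (i g)) (by rw [MulEquiv.orderOf_eq, orderOf_injective i hi, hg])

/-- All involutions commute. -/
theorem invol_comm {a b : X} (ha : orderOf a = 2) (hb : orderOf b = 2) : a * b = b * a := by
  haveI : Fact (Nat.Prime 2) := ⟨Nat.prime_two⟩
  obtain ⟨N, hNn, hN, hN1⟩ := h.exists_two_normal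
  haveI := hNn
  obtain ⟨n, hnN, hn⟩ := exists_invol_of_two_dvd (K := N) (by
    obtain ⟨k, hk⟩ := hN.exists_card_eq
    rcases Nat.eq_zero_or_pos k with rfl | hk0
    · exact absurd (card_eq_one.1 (by simpa using hk)) hN1
    · rw [hk]; exact dvd_pow_self 2 hk0.ne')
  have hall : ∀ c : X, orderOf c = 2 → c ∈ N := fun c hc => by
    obtain ⟨d, -, hd⟩ := h.trans n c hn hc
    exact hd ▸ hNn.conj_mem n hnN d
  exact mem_centralizer_singleton_iff.1 (h.le_cent hN hb (hall a ha))

/-- An involution inverts no nontrivial element of odd order. -/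
theorem not_inverts {v k : X} (hv : orderOf v = 2) (hk : Odd (orderOf k)) (he : v * k * v⁻¹ = k⁻¹) :
    k = 1 := by
  have h1 : k * v * k⁻¹ = k * k * v := by
    rw [← he, ← mul_assoc, ← mul_assoc]
    rw [show k * v * v * k * v⁻¹ = k * (v * v) * k * v⁻¹ by group, Invol.mul_self hv, mul_one,
      Invol.inv_self hv]
  have hc := h.invol_comm ((Invol.order_conj k v).trans hv) hv
  rw [h1] at hc
  have hkk : v * (k * k) * v⁻¹ = k * k := by
    calc v * (k * k) * v⁻¹ = v * (k * k * v) * (v⁻¹ * v⁻¹) := by group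
      _ = k * k * v * v * (v * v)⁻¹ := by rw [← hc]; group
      _ = k * k := by simp [mul_assoc, Invol.mul_self hv]
  have hinv : v * (k * k) * v⁻¹ = k⁻¹ * k⁻¹ := by rw [← he]; group
  rw [hinv] at hkk
  have h4 : k * k * (k * k) = 1 := by
    nth_rw 1 [← hkk]
    group
  have h2 : Odd (orderOf (k * k)) := by
    rw [← pow_two]
    exact hk.of_dvd_nat (orderOf_pow_dvd 2)
  have := Invol.eq_one_of_sq_of_odd h2 (by rw [pow_two]; exact h4)
  exact Invol.eq_one_of_sq_of_odd hk (by rw [pow_two]; exact this)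

/-- The centraliser of all involutions. -/
def core (_ : Reg D) : Subgroup X := centralizer {a : X | orderOf a = 2}

theorem core_normal : h.core.Normal := by
  refine normalizer_eq_top_iff.1 ((eq_top_iff' _).2 fun g => mem_normalizer_fintype fun x hx => ?_)
  refine mem_centralizer_iff.2 fun a ha => ?_
  have := mem_centralizer_iff.1 hx (g⁻¹ * a * g) (by
    show orderOf _ = 2
    rw [show g⁻¹ * a * g = g⁻¹ * a * g⁻¹⁻¹ by group, Invol.order_conj]; exact ha)
  calc a * (g * x * g⁻¹) = g * (g⁻¹ * a * g * x) * g⁻¹ := by group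
    _ = g * (x * (g⁻¹ * a * g)) * g⁻¹ := by rw [this]
    _ = _ := by group

theorem core_le {t : X} (ht : orderOf t = 2) : h.core ≤ centralizer ({t} : Set X) :=
  centralizer_le (Set.singleton_subset_iff.2 ht)

set_option maxHeartbeats 1000000 in
/-- The centralisers of all involutions coincide. -/
theorem cent_eq {t : X} (ht : orderOf t = 2) : centralizer ({t} : Set X) = h.core := by
  classical
  haveI : Fact (Nat.Prime 2) := ⟨Nat.prime_two⟩
  haveI := h.core_normal
  set S := h.core with hSdef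
  have hSp : IsPGroup 2 S := (h.cit t ht).to_le (h.core_le ht)
  have hmax : ∀ N : Subgroup X, N.Normal → IsPGroup 2 N → N ≤ S := fun N hNn hN x hx => by
    haveI := hNn
    exact mem_centralizer_iff.2 fun a ha =>
      (mem_centralizer_singleton_iff.1 (h.le_cent hN ha hx)).symm
  refine le_antisymm ?_ (h.core_le ht)
  intro y hy
  by_contra hyS
  -- a square root of an element of the core outside it
  obtain ⟨a, haC, haS, ha2⟩ : ∃ a ∈ centralizer ({t} : Set X), a ∉ S ∧ a * a ∈ S := by
    obtain ⟨k, hk⟩ := h.cit t ht ⟨y, hy⟩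
    have hk' : y ^ 2 ^ k = 1 := by simpa using congrArg Subtype.val hk
    have hex : ∃ j, y ^ 2 ^ j ∈ S := ⟨k, hk' ▸ S.one_mem⟩
    rcases Nat.eq_zero_or_pos (Nat.find hex) with h0 | h0
    · exact absurd (by simpa [h0] using Nat.find_spec hex) hyS
    refine ⟨y ^ 2 ^ (Nat.find hex - 1), pow_mem hy _, Nat.find_min hex (by omega), ?_⟩
    rw [← pow_add, ← two_mul, ← pow_succ', show Nat.find hex - 1 + 1 = Nat.find hex by omega]
    exact Nat.find_spec hex
  set f := QuotientGroup.mk' S with hf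
  have hfa : orderOf (f a) = 2 := Invol.order_two_of_sq
    (by rw [← map_mul]; exact (QuotientGroup.eq_one_iff _).2 ha2)
    (fun e => haS ((QuotientGroup.eq_one_iff _).1 e))
  -- Baer–Suzuki gives an element of odd prime order inverted modulo the core
  obtain ⟨k, r, hr, hr2, hk, hinv⟩ : ∃ (k : X) (r : ℕ), r.Prime ∧ r ≠ 2 ∧ orderOf k = r ∧
      a * k * a⁻¹ * k ∈ S := by
    by_contra hcon
    push Not at hcon
    obtain ⟨N, hNn, hN, hle⟩ := BaerSuzuki.baerSuzuki (p := 2) (zpowers (f a))
      (IsPGroup.of_card (n := 1) (by rw [Nat.card_zpowers, hfa, pow_one])) (fun q => by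
        set b := q * f a * q⁻¹ with hb
        have hbo : orderOf b = 2 := (Invol.order_conj q _).trans hfa
        have hpow : ∃ j, orderOf (f a * b) = 2 ^ j := by
          by_contra hnp
          push Not at hnp
          obtain ⟨r, hr, hrd, hr2⟩ : ∃ r, r.Prime ∧ r ∣ orderOf (f a * b) ∧ r ≠ 2 := by
            by_contra hc
            push Not at hc
            exact hnp _ (Nat.eq_prime_pow_of_unique_prime_dvd (orderOf_pos _).ne' fun {d} hd hdd =>
              hc d hd hdd)
          haveI := Fact.mk hr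
          have hpr : orderOf ((f a * b) ^ (orderOf (f a * b) / r)) = r :=
            orderOf_pow_orderOf_div (orderOf_pos _).ne' hrd
          obtain ⟨c, hc⟩ := QuotientGroup.mk'_surjective S ((f a * b) ^ (orderOf (f a * b) / r))
          have hcr : r ∣ orderOf c := (show r = orderOf (f c) by rw [hf, hc, hpr]) ▸ orderOf_map_dvd f c
          obtain ⟨s, hs⟩ := hcr
          have hsodd : ¬ r ∣ s := fun hrs => by
            -- `c ^ r` lies in the 2-group
            have hmem : c ^ r ∈ S := (QuotientGroup.eq_one_iff _).1 (by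
              show f (c ^ r) = 1
              rw [map_pow, hf, hc]
              exact orderOf_dvd_iff_pow_eq_one.1 hpr.dvd)
            obtain ⟨j, hj⟩ := IsPGroup.iff_orderOf.1 hSp ⟨_, hmem⟩
            rw [Subgroup.orderOf_mk, orderOf_pow_of_dvd hr.ne_zero (hs ▸ dvd_mul_right r s), hs,
              Nat.mul_div_cancel_left _ hr.pos] at hj
            exact hr2 ((Nat.prime_dvd_prime_iff_eq hr Nat.prime_two).1 (hr.dvd_of_dvd_pow (hj ▸ hrs)))
          have hs0 : s ≠ 0 := fun e => (orderOf_pos c).ne' (by rw [hs, e, mul_zero])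
          refine hcon (c ^ s) r hr hr2 (by
            rw [orderOf_pow_of_dvd hs0 (hs ▸ dvd_mul_left s r), hs, Nat.mul_div_cancel _ (Nat.pos_of_ne_zero hs0)]) ?_
          refine (QuotientGroup.eq_one_iff _).1 ?_
          show f (a * c ^ s * a⁻¹ * c ^ s) = 1
          rw [map_mul, map_mul, map_mul, map_inv, map_pow, hf, hc, ← pow_mul, ← hf,
            Invol.conj_pow (Invol.conj_mul hfa hbo), inv_mul_cancel]
        obtain ⟨j, hj⟩ := hpow
        have hcard : Nat.card (zpowers (f a) ⊔ (zpowers (f a)).map (MulAut.conj q).toMonoidHom :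
            Subgroup _) ∣ 2 ^ (j + 1) := by
          rw [MonoidHom.map_zpowers]
          show Nat.card (zpowers (f a) ⊔ zpowers b : Subgroup _) ∣ _
          have hn : zpowers (f a) ≤ normalizer ((zpowers (f a * b) : Subgroup _) : Set _) := by
            rw [zpowers_le]
            refine mem_normalizer_fintype ?_
            rintro _ ⟨i, rfl⟩
            rw [SetLike.mem_coe, ← conj_zpow, Invol.conj_mul hfa hbo, inv_zpow']
            exact ⟨_, rfl⟩
          have hle : zpowers (f a) ⊔ zpowers b ≤ zpowers (f a * b) ⊔ zpowers (f a) := by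
            refine sup_le le_sup_right (zpowers_le.2 ?_)
            have := mul_mem (inv_mem (mem_sup_right (S := zpowers (f a * b)) (mem_zpowers (f a))))
              (mem_sup_left (T := zpowers (f a)) (mem_zpowers (f a * b)))
            rwa [inv_mul_cancel_left] at this
          refine (card_dvd_of_le hle).trans ?_
          have h1 := AbPPrime.card_sup_dvd hn
          rw [Nat.card_zpowers, Nat.card_zpowers, hfa, hj, ← pow_succ] at h1
          exact h1
        obtain ⟨i, -, hi⟩ := (Nat.dvd_prime_pow Nat.prime_two).1 hcard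
        exact IsPGroup.of_card hi)
    have hNS : N.comap f ≤ S := hmax _ inferInstance (hN.comap_of_ker_isPGroup f (by
      rw [hf, QuotientGroup.ker_mk']; exact hSp))
    exact haS (hNS (hle (mem_zpowers _)))
  haveI := Fact.mk hr
  have hkodd : Odd (orderOf k) := hk ▸ hr.odd_of_ne_two hr2
  set Z := zpowers k with hZ
  have hcop : (Nat.card Z).Coprime (Nat.card S) := by
    obtain ⟨j, hj⟩ := hSp.exists_card_eq
    rw [Nat.card_zpowers, hj]
    exact (Nat.coprime_two_right.2 hkodd).pow_right j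
  haveI : IsMulCommutative Z := inferInstance
  obtain ⟨s, hs, hsZ⟩ := SchurZ.conj_in (A := Z) (K := S) (B := MulAut.conj a • Z)
    (by rw [normalizer_eq_top]; exact le_top) hcop (Or.inl (Group.isSolvable_of_comm fun p q => mul_comm' p q))
    (fun x hx => by
      rw [SolvBasic.mem_conjSmul] at hx
      obtain ⟨i, hi⟩ := hx
      have hx' : x = (a * k * a⁻¹) ^ i := by
        rw [conj_zpow, show k ^ i = a⁻¹ * x * a from hi]; group
      rw [hx']
      refine zpow_mem ?_ i
      rw [show a * k * a⁻¹ = a * k * a⁻¹ * k * k⁻¹ by group]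
      exact mul_mem (mem_sup_left hinv) (mem_sup_right (inv_mem (mem_zpowers k))))
    (SolvBasic.card_conjSmul _ _)
  set n := s⁻¹ * a with hn
  have hnk : n * k * n⁻¹ = k⁻¹ := by
    have h1 : a * k * a⁻¹ ∈ MulAut.conj a • Z := by
      rw [SolvBasic.mem_conjSmul, show a⁻¹ * (a * k * a⁻¹) * a = k by group]; exact mem_zpowers k
    rw [← hsZ, SolvBasic.mem_conjSmul] at h1
    have h2 : n * k * n⁻¹ * k ∈ Z := mul_mem (by
      rwa [show n * k * n⁻¹ = s⁻¹ * (a * k * a⁻¹) * s by rw [hn]; group]) (mem_zpowers k)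
    have h3 : n * k * n⁻¹ * k ∈ S := by
      refine (QuotientGroup.eq_one_iff _).1 ?_
      show f _ = 1
      have e : f n = f a := by
        rw [hn, map_mul, map_inv, show f s = 1 from (QuotientGroup.eq_one_iff s).2 hs, inv_one, one_mul]
      rw [map_mul, map_mul, map_mul, map_inv, e, ← map_inv, ← map_mul, ← map_mul, ← map_mul]
      exact (QuotientGroup.eq_one_iff _).2 hinv
    have h4 : n * k * n⁻¹ * k ∈ (⊥ : Subgroup X) :=
      (inf_eq_bot_of_coprime hcop).le ⟨h2, h3⟩
    exact eq_inv_of_mul_eq_one_left (mem_bot.1 h4)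
  -- the two-part of `n` inverts as well
  obtain ⟨e, m, hm, hne⟩ := Nat.exists_eq_two_pow_mul_odd (orderOf_pos n).ne'
  have hinvpow : ∀ i : ℕ, n ^ i * k * (n ^ i)⁻¹ = if Odd i then k⁻¹ else k := by
    intro i
    induction i with
    | zero => simp
    | succ i ih =>
      rw [pow_succ', show n * n ^ i * k * (n * n ^ i)⁻¹ = n * (n ^ i * k * (n ^ i)⁻¹) * n⁻¹ by group, ih]
      by_cases hi : Odd i
      · rw [if_pos hi, if_neg (by simp [Nat.odd_add_one, hi]),
          show n * k⁻¹ * n⁻¹ = (n * k * n⁻¹)⁻¹ by group, hnk, inv_inv]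
      · rw [if_neg hi, if_pos (by simp [Nat.odd_add_one, hi]), hnk]
  set n' := n ^ m with hn'
  have hn'k : n' * k * n'⁻¹ = k⁻¹ := by rw [hn', hinvpow m, if_pos hm]
  have ho : orderOf n' = 2 ^ e := by
    rw [hn', orderOf_pow_of_dvd hm.pos.ne' (hne ▸ dvd_mul_left m _), hne, Nat.mul_div_cancel _ hm.pos]
  have hk1 : k ≠ 1 := fun e => hr.one_lt.ne' (by rw [← hk, e, orderOf_one])
  have he2 : 2 ≤ e := by
    by_contra hc
    rcases (show e = 0 ∨ e = 1 by omega) with rfl | rfl
    · rw [pow_zero, orderOf_eq_one_iff] at ho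
      rw [ho] at hn'k
      have h2 : k = k⁻¹ := by simpa using hn'k
      exact hk1 (Invol.eq_one_of_sq_of_odd hkodd (by rw [pow_two]; nth_rw 2 [h2]; exact mul_inv_cancel k))
    · exact hk1 (h.not_inverts (by rw [ho, pow_one]) hkodd hn'k)
  have hio : orderOf (n' ^ 2 ^ (e - 1)) = 2 := by
    rw [orderOf_pow_of_dvd (pow_ne_zero _ two_ne_zero) (ho ▸ pow_dvd_pow 2 (Nat.sub_le e 1)), ho,
      Nat.pow_div (Nat.sub_le e 1) two_pos, show e - (e - 1) = 1 by omega, pow_one]
  have hic : n' ^ 2 ^ (e - 1) * k * (n' ^ 2 ^ (e - 1))⁻¹ = k := by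
    rw [hn', ← pow_mul, hinvpow, if_neg]
    exact Nat.not_odd_iff_even.2 ((Nat.even_pow.2 ⟨even_two, by omega⟩).mul_left m)
  exact hk1 (CNSimple.eq_one_of_odd (h.cit _ hio)
    (mem_centralizer_singleton_iff.2 (mul_inv_eq_iff_eq_mul.1 hic).symm) hkodd)

end Reg

end Cfsg.Agent.SEBrick.CITReg
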