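import Cfsg.Agent.Lib.SEBrick.CharFalse

/-!
The exceptional degree exceeds the square root of the group order.
-/

set_option autoImplicit false
set_option linter.style.haveILetI false
set_option linter.unusedSectionVars false

namespace Cfsg.Agent.SEBrick

open Cfsg Cfsg.Agent.Char Subgroup
open scoped ComplexConjugate

universe u

/-- A function invariant under a fixed-point-free automorphism of an abelian group. -/
theorem linear_fixed_trivial {Z : Type u} [Group Z] [Finite Z] (hcomm : ∀ a b : Z, a * b = b * a)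
    (φ : Z →* Z) (hφ : ∀ z, φ z = z → z = 1) {lam : Z → ℂ} (hlam : Cfsg.IsIrrCharacter Z lam)
    (hinv : ∀ z, lam (φ z) = lam z) (z : Z) : lam z = 1 := by
  letI : CommGroup Z := { ‹Group Z› with mul_comm := hcomm }
  haveI : Fintype Z := Fintype.ofFinite Z
  obtain ⟨f, hf⟩ := exists_hom_of_degree_one (IsIrrCharacter.isCharacter hlam) (degree_one_of_comm hcomm hlam)
  have hinj : Function.Injective fun x : Z => x⁻¹ * φ x := by
    intro x y hxy
    have : φ (x * y⁻¹) = x * y⁻¹ := by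
      rw [map_mul, map_inv]
      have hxy' : x⁻¹ * φ x = y⁻¹ * φ y := hxy
      have e : φ x = x * (y⁻¹ * φ y) := by rw [← hxy']; simp
      rw [e]; group
    exact mul_inv_eq_one.1 (hφ _ this)
  obtain ⟨x, hx⟩ := (Finite.injective_iff_surjective.1 hinj) z
  have hx' : x⁻¹ * φ x = z := hx
  have e := hinv x
  simp only [hf] at e ⊢
  rw [← hx', map_mul, map_inv, Units.ext e, inv_mul_cancel, Units.val_one]

variable {G : Type u} [Group G] [Fintype G] {H W S : Subgroup G} {t : G}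

/-- The action on an abelian part of `W`. -/
structure Act (C : Cfg H W S t) (Z : Subgroup G) (u : G) : Prop where
  lin : 8 ≤ (_root_.commutator S).index
  m7 : 7 ≤ (vset S).card
  Z_le : Z ≤ W
  Z_ne : Z ≠ ⊥
  Z_comm : ∀ a ∈ Z, ∀ b ∈ Z, a * b = b * a
  Z_norm : ∀ h ∈ H, ∀ z ∈ Z, h * z * h⁻¹ ∈ Z
  free : ∀ h ∈ H, h ∉ W ⊔ S → ∀ z ∈ Z, h * z = z * h → z = 1
  u_not : u ∉ H
  two : ∀ x ∈ W ⊔ S, u⁻¹ * x * u ∈ H → x ∈ W
  semireg : ∀ x ∈ W, x ≠ 1 → u⁻¹ * x * u ∈ H → ∀ z ∈ Z, x * z = z * x → z = 1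

variable {C : Cfg H W S t}

omit [Fintype G] in
theorem card_orbit_ge {X : Type u} [Group X] [Fintype X] {n : ℕ} (K : Subgroup X)
    (N : Subgroup X) [hN : N.Normal]
    (h : ∀ z ∈ K, z ≠ 1 → ∀ x, x * z = z * x → x ∈ N) (hK : K.Normal) (hn : N.index = n) :
    n ∣ Nat.card K - 1 := by
  classical
  let A : Type u := {z : K // z ≠ 1}
  letI : MulAction X A :=
    { smul := fun x z => ⟨⟨x * (z.1 : X) * x⁻¹, hK.conj_mem _ z.1.2 x⟩, fun e => z.2 (Subtype.ext (by
        have := congrArg Subtype.val e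
        simpa using (conj_eq_one_iff.1 this)))⟩
      one_smul := fun z => Subtype.ext (Subtype.ext (by
        show (1 : X) * (z.1 : X) * (1 : X)⁻¹ = _
        simp))
      mul_smul := fun a b z => Subtype.ext (Subtype.ext (by
        show a * b * (z.1 : X) * (a * b)⁻¹ = a * (b * (z.1 : X) * b⁻¹) * a⁻¹
        group)) }
  have hcard : Nat.card A = Nat.card K - 1 := by
    rw [Nat.card_eq_fintype_card, Nat.card_eq_fintype_card, Fintype.card_subtype_compl,
      Fintype.card_subtype_eq]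
  rw [← hcard, Nat.card_congr (MulAction.selfEquivSigmaOrbits X A), Nat.card_sigma]
  refine Finset.dvd_sum fun o _ => ?_
  rw [← hn, Nat.card_coe_set_eq, ← MulAction.index_stabilizer]
  refine index_dvd_of_le fun x hx => ?_
  set z := Quotient.out o with hz
  refine h _ z.1.2 (fun e => z.2 (Subtype.ext e)) x ?_
  have := congrArg (fun a : A => (a.1 : X)) (MulAction.mem_stabilizer_iff.1 hx)
  exact mul_inv_eq_iff_eq_mul.1 this

theorem card_H (C : Cfg H W S t) : Nat.card H = Nat.card ↥(W ⊔ S) * (vset S).card := by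
  classical
  haveI : Fintype H := Fintype.ofFinite H
  rw [Nat.card_eq_fintype_card (α := H),
    show Fintype.card H = (Finset.univ : Finset H).card from rfl,
    Finset.card_eq_sum_card_fiberwise (f := fun h : H => (h : G)⁻¹ * t * h) (t := vset S) fun h _ => by
      refine mem_vset.2 ⟨?_, ?_⟩
      · simpa using C.S_norm _ (inv_mem h.2) t C.t_mem
      · rw [← C.t_inv]; simpa using Invol.order_conj (h : G)⁻¹ t]
  rw [Finset.sum_congr rfl (g := fun _ => Nat.card ↥(W ⊔ S)) fun v hv => ?_]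
  · rw [Finset.sum_const, smul_eq_mul, mul_comm]
  obtain ⟨a, haH, ha⟩ := C.trans v (mem_vset.1 hv).1 (mem_vset.1 hv).2
  rw [← Fintype.card_subtype, ← Nat.card_eq_fintype_card]
  refine Nat.card_congr
    { toFun := fun h => ⟨(h.1 : G) * a⁻¹, by
        rw [← C.cent, mem_centralizer_singleton_iff]
        have e0 : a⁻¹ * t * a = (h.1 : G)⁻¹ * t * h.1 := ha.trans h.2.symm
        calc (h.1 : G) * a⁻¹ * t = (h.1 : G) * (a⁻¹ * t * a) * a⁻¹ := by group
          _ = t * ((h.1 : G) * a⁻¹) := by rw [e0]; group⟩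
      invFun := fun x => ⟨⟨(x : G) * a, mul_mem (C.U_le x.2) haH⟩, by
        show ((x : G) * a)⁻¹ * t * ((x : G) * a) = v
        have := mem_centralizer_singleton_iff.1 (C.cent.symm ▸ x.2 : (x : G) ∈ centralizer ({t} : Set G))
        rw [← ha]
        calc ((x : G) * a)⁻¹ * t * ((x : G) * a) = a⁻¹ * (x : G)⁻¹ * (t * (x : G)) * a := by group
          _ = a⁻¹ * t * a := by rw [← this]; group⟩
      left_inv := fun h => Subtype.ext (Subtype.ext (by simp))
      right_inv := fun x => Subtype.ext (by simp) }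

set_option maxHeartbeats 1000000 in
theorem false_of_act {Z : Subgroup G} {u : G} (A : Act C Z u) : False := by
  classical
  haveI : (Z.subgroupOf W).Normal :=
    ⟨fun z hz w => A.Z_norm w (C.W_le w.2) z hz⟩
  set ZW := Z.subgroupOf W with hZW
  have hZcomm : ∀ a b : ZW, a * b = b * a := fun a b =>
    Subtype.ext (Subtype.ext (A.Z_comm _ a.2 _ b.2))
  set m := (vset S).card with hm
  set U := W ⊔ S with hU
  -- conjugation by `h` on `Z`
  let cz : H → (ZW →* ZW) := fun h =>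
    { toFun := fun z => ⟨cj C.W_norm h z.1, by
        show (h : G)⁻¹ * ((z.1 : W) : G) * h ∈ Z
        simpa using A.Z_norm _ (inv_mem h.2) _ z.2⟩
      map_one' := Subtype.ext (map_one _)
      map_mul' := fun a b => Subtype.ext (map_mul _ _ _) }
  have fix : ∀ h : H, (∀ z ∈ Z, (h : G) * z = z * h → z = 1) → ∀ lam : ZW → ℂ,
      Cfsg.IsIrrCharacter ZW lam → (∀ z, lam (cz h z) = lam z) → ∀ z, lam z = 1 := by
    intro h hfix lam hlam hinv z
    refine linear_fixed_trivial hZcomm (cz h) (fun x hx => ?_) hlam hinv z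
    have e : (h : G)⁻¹ * ((x.1 : W) : G) * h = ((x.1 : W) : G) :=
      congrArg (fun y : ZW => ((y.1 : W) : G)) hx
    exact Subtype.ext (Subtype.ext (hfix _ x.2 (by
      calc (h : G) * ((x.1 : W) : G) = (h : G) * ((h : G)⁻¹ * ((x.1 : W) : G) * h) := by rw [e]
        _ = _ := by group)))
  -- the two-point part
  set K : Subgroup G := H.map (MulAut.conj u).toMonoidHom with hK
  have hKmem : ∀ x, x ∈ K ↔ u⁻¹ * x * u ∈ H := fun x => Invol.mem_conj_map
  set d0 := Nat.card ↥(U ⊓ K) with hd0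
  set Θ := Finset.univ.filter fun θ : Cfsg.IrrCharacter W => ¬ ∀ x ∈ ZW, (θ : W → ℂ) x = (θ : W → ℂ) 1
    with hΘ
  have hθfacts : ∀ θ ∈ Θ, IsFree C (θ : W → ℂ) ∧ d0 ≤ Cfsg.charDegree (θ : W → ℂ) := by
    intro θ hθ
    obtain ⟨lam, hlam⟩ := exists_restrict_constituent θ.2 ZW
    have hnt : ¬ ∀ z, (lam : ZW → ℂ) z = 1 := by
      intro htriv
      refine (Finset.mem_filter.1 hθ).2 fun x hx => ?_
      have hcl := clifford ZW θ.2 lam.2 hlam
      have horb : ∀ φ ∈ conjOrbit ZW (lam : ZW → ℂ), ∀ z, φ z = 1 := by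
        intro φ hφ z
        obtain ⟨g, rfl⟩ := (mem_conjOrbit ZW).1 hφ
        exact htriv _
      have hx1 := congrFun hcl ⟨x, hx⟩
      have h11 := congrFun hcl 1
      simp only [Pi.smul_apply, Finset.sum_apply] at hx1 h11
      rw [Finset.sum_congr rfl fun φ hφ => horb φ hφ _] at hx1 h11
      exact hx1.trans h11.symm
    refine ⟨fun h hh e => hnt ?_, ?_⟩
    · -- the conjugate of `lam` by `h` is a constituent
      let lam' : ZW → ℂ := fun z => (lam : ZW → ℂ) (cz h z)
      have hsurj : Function.Surjective (cz h) := fun z => ⟨cz h⁻¹ z, Subtype.ext (Subtype.ext (by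
        show (h : G)⁻¹ * (((h⁻¹ : H) : G)⁻¹ * ((z.1 : W) : G) * ((h⁻¹ : H) : G)) * h = _
        simp [mul_assoc]))⟩
      have hlam' : Cfsg.IsIrrCharacter ZW lam' := IsIrrCharacter.comp lam.2 (cz h) hsurj
      have hc' : Cfsg.classInner (fun z : ZW => (θ : W → ℂ) z) lam' ≠ 0 := by
        have e2 : Cfsg.classInner (fun z : ZW => (θ : W → ℂ) z) lam' =
            Cfsg.classInner (fun z : ZW => (θ : W → ℂ) z) (lam : ZW → ℂ) := by
          simp only [Cfsg.classInner]
          congr 1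
          refine Fintype.sum_equiv (Equiv.ofBijective _ ⟨(Finite.injective_iff_surjective.2 hsurj), hsurj⟩) _ _
            fun z => ?_
          have := congrFun e (z.1)
          simp only [Equiv.ofBijective_apply, lam']
          rw [← this]
          rfl
        rw [e2]; exact hlam
      obtain ⟨g, hg⟩ := (mem_conjOrbit ZW).1 (restrict_constituent_conj ZW θ.2 lam.2 hlam' hlam hc')
      -- `h * w` fixes `lam`
      let w : H := ⟨(g : G), C.W_le g.2⟩
      refine fix (w * h) ?_ _ lam.2 ?_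
      · refine A.free _ (w * h).2 fun hmem => hh ?_
        have hwU : (w : G) ∈ U := mem_sup_left g.2
        simpa [w] using mul_mem (inv_mem hwU) hmem
      · intro z
        have hzmem : g⁻¹ * z.1 * g ∈ ZW := by
          simpa using (inferInstance : ZW.Normal).conj_mem _ z.2 g⁻¹
        have h1 := congrFun hg ⟨_, hzmem⟩
        simp only [lam', conjChar] at h1
        refine (congrArg (lam : ZW → ℂ) (Subtype.ext (Subtype.ext ?_))).trans
          (h1.trans (congrArg (lam : ZW → ℂ) (Subtype.ext (Subtype.ext ?_))))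
        · show ((w * h : H) : G)⁻¹ * ((z.1 : W) : G) * (w * h : H) =
            (h : G)⁻¹ * ((g⁻¹ * z.1 * g : W) : G) * h
          simp [w, mul_assoc]
        · show ((g * (g⁻¹ * z.1 * g) * g⁻¹ : W) : G) = ((z.1 : W) : G)
          simp [mul_assoc]
    · have hl1 : (lam : ZW → ℂ) 1 = 1 := degree_one_of_comm hZcomm lam.2
      obtain ⟨n, hn⟩ := IsCharacter.exists_classInner_nat
        (IsCharacter.restrict (IsIrrCharacter.isCharacter θ.2) ZW) (IsIrrCharacter.isCharacter lam.2)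
      have hdeg := clifford_degree ZW θ.2 lam.2 hlam
      rw [hn, hl1, mul_one, CharX.irr_deg θ] at hdeg
      have hdeg' : Cfsg.charDegree (θ : W → ℂ) = n * (inertia ZW (lam : ZW → ℂ)).index := by
        exact_mod_cast hdeg
      have hn0 : n ≠ 0 := fun h0 => hlam (by rw [hn, h0, Nat.cast_zero])
      refine le_trans ?_ (hdeg' ▸ Nat.le_mul_of_pos_left _ (Nat.pos_of_ne_zero hn0))
      have hW : ∀ x : ↥(U ⊓ K), (x : G) ∈ W := fun x =>
        A.two _ (mem_inf.1 x.2).1 ((hKmem _).1 (mem_inf.1 x.2).2)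
      refine Nat.card_le_card_of_injective
        (fun x : ↥(U ⊓ K) => ((⟨(x : G), hW x⟩ : W) : W ⧸ inertia ZW (lam : ZW → ℂ))) fun x y hxy => ?_
      have hin := QuotientGroup.eq.1 hxy
      by_contra hne
      refine hnt (fix ⟨(y : G)⁻¹ * x, C.W_le (mul_mem (inv_mem (hW y)) (hW x))⟩ ?_ _ lam.2 fun z => ?_)
      · refine A.semireg _ (mul_mem (inv_mem (hW y)) (hW x)) ?_ ?_
        · intro e
          exact hne (Subtype.ext (inv_mul_eq_one.1 e).symm)
        · exact (hKmem _).1 (mul_mem (inv_mem (mem_inf.1 y.2).2) (mem_inf.1 x.2).2)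
      · refine Eq.trans (congrArg (lam : ZW → ℂ) (Subtype.ext (Subtype.ext ?_))) ((mem_inertia_iff ZW).1 hin z)
        show ((y : G)⁻¹ * x)⁻¹ * ((z.1 : W) : G) * ((y : G)⁻¹ * x) =
          ((⟨(x : G), hW x⟩ : W)⁻¹ * ⟨(y : G), hW y⟩ * z.1 * ((⟨(x : G), hW x⟩ : W)⁻¹ * ⟨(y : G), hW y⟩)⁻¹ : W)
        simp [mul_assoc]
  -- the families
  have hfam : ∀ θ : {θ // θ ∈ Θ}, Nonempty (Family C ((θ : Cfsg.IrrCharacter W) : W → ℂ)) := fun θ =>
    exists_family C θ.1.2 (hθfacts θ.1 θ.2).1 A.lin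
  let F := fun θ => (hfam θ).some
  set deg : Cfsg.IrrCharacter W → ℕ := fun θ => Cfsg.charDegree (θ : W → ℂ) with hdegdef
  have hreal : ∀ χ : Cfsg.IrrCharacter G, (χ : G → ℂ) t = ((((χ : G → ℂ) t).re : ℝ) : ℂ) := fun χ =>
    (Complex.conj_eq_iff_re.1 (char_invol_real (IsIrrCharacter.isCharacter χ.2) C.t_inv)).symm
  let Rr : {θ // θ ∈ Θ} → ℝ := fun θ => (F θ).R.re
  have hRr : ∀ θ, (F θ).R = ((Rr θ : ℝ) : ℂ) := fun θ => by
    refine (Complex.conj_eq_iff_re.1 ?_).symm
    rw [Family.R, map_sub, map_mul, map_mul, (F θ).e_real, CharX.irr_deg θ.1, map_natCast,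
      map_natCast, char_invol_real (IsIrrCharacter.isCharacter ((F θ).Φ _).2) C.t_inv]
  -- the column bound
  set g : Cfsg.IrrCharacter G → ℝ := fun χ => ((χ : G → ℂ) t).re ^ 2 with hg
  have hcol : ∑ χ : Cfsg.IrrCharacter G, g χ = (Nat.card U : ℝ) := by
    have h := column_orth_of_isConj (IsConj.refl t)
    rw [C.cent] at h
    apply Complex.ofReal_injective
    rw [Complex.ofReal_natCast, ← h, Complex.ofReal_sum]
    refine Finset.sum_congr rfl fun χ _ => ?_
    rw [char_invol_real (IsIrrCharacter.isCharacter χ.2) C.t_inv, hg]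
    push_cast
    rw [← hreal χ]; ring
  have hsq : ∀ θ : {θ // θ ∈ Θ}, ∑ ξ : Cfsg.IrrCharacter S, g ((F θ).Φ ξ) =
      (Nat.card S : ℝ) * (Rr θ ^ 2 + (deg θ.1 : ℝ) ^ 2 * m) := by
    intro θ
    apply Complex.ofReal_injective
    rw [Complex.ofReal_sum]
    refine Eq.trans (Finset.sum_congr rfl fun ξ _ => ?_) ((F θ).sum_sq.trans ?_)
    · rw [hg]; push_cast; rw [← hreal]; ring
    · rw [hRr θ, CharX.irr_deg θ.1, hm, hdegdef]; push_cast; ring
  have hconjθ : ∀ θ θ' : {θ // θ ∈ Θ}, ∀ ξ ξ', (F θ).Φ ξ = (F θ').Φ ξ' →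
      ∃ h : H, (fun w => ((θ' : Cfsg.IrrCharacter W) : W → ℂ) (cj C.W_norm h w)) =
        ((θ : Cfsg.IrrCharacter W) : W → ℂ) := by
    intro θ θ' ξ ξ' h
    by_contra! hne
    exact Family.disjoint C θ.1.2 θ'.1.2 hne (F θ) (F θ') A.lin ξ ξ' h
  have hfibre : ∀ χ : Cfsg.IrrCharacter G,
      ((Finset.univ : Finset ({θ // θ ∈ Θ} × Cfsg.IrrCharacter S)).filter
        fun p => (F p.1).Φ p.2 = χ).card ≤ m := by
    intro χ
    set fib := (Finset.univ : Finset ({θ // θ ∈ Θ} × Cfsg.IrrCharacter S)).filter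
      fun p => (F p.1).Φ p.2 = χ with hfib
    rcases fib.eq_empty_or_nonempty with he | ⟨p0, hp0⟩
    · simp [he]
    haveI : Fintype H := Fintype.ofFinite H
    set orb := (Finset.univ : Finset H).image
      (fun h => fun w => ((p0.1 : Cfsg.IrrCharacter W) : W → ℂ) (cj C.W_norm h w)) with horb
    have h1 : fib.card ≤ orb.card := by
      refine Finset.card_le_card_of_injOn (fun p => ((p.1 : Cfsg.IrrCharacter W) : W → ℂ)) (fun p hp => ?_) ?_
      · obtain ⟨h, hh⟩ := hconjθ p.1 p0.1 p.2 p0.2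
          ((Finset.mem_filter.1 hp).2.trans (Finset.mem_filter.1 hp0).2.symm)
        exact Finset.mem_image.2 ⟨h, Finset.mem_univ _, hh⟩
      · intro p hp q hq hpq
        have e1 : p.1 = q.1 := Subtype.ext (Subtype.ext hpq)
        have e2 : (F p.1).Φ p.2 = (F q.1).Φ q.2 :=
          (Finset.mem_filter.1 hp).2.trans (Finset.mem_filter.1 hq).2.symm
        rcases p with ⟨a, b⟩
        rcases q with ⟨a', b'⟩
        simp only at e1 e2
        subst e1
        rw [(F a).inj e2]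
    refine h1.trans ?_
    refine Nat.le_of_mul_le_mul_right (?_ : orb.card * Nat.card U ≤ m * Nat.card U) Nat.card_pos
    refine le_of_le_of_eq ?_ ((card_H C).trans (mul_comm _ _))
    rw [Nat.card_eq_fintype_card (α := H), ← Finset.card_univ, mul_comm]
    refine Finset.mul_card_image_le_card _ _ fun φ hφ => ?_
    obtain ⟨h0, -, rfl⟩ := Finset.mem_image.1 hφ
    rw [Nat.card_eq_fintype_card (α := U), ← Finset.card_univ]
    refine Finset.card_le_card_of_injOn (fun x : U => (⟨(x : G) * h0, mul_mem (C.U_le x.2) h0.2⟩ : H))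
      (fun x _ => ?_) (fun x _ y _ e => Subtype.ext (mul_right_cancel (congrArg Subtype.val e)))
    refine Finset.mem_filter.2 ⟨Finset.mem_univ _, funext fun w => ?_⟩
    rw [show cj C.W_norm (⟨(x : G) * h0, mul_mem (C.U_le x.2) h0.2⟩ : H) w =
      cj C.W_norm h0 (cj C.W_norm ⟨(x : G), C.U_le x.2⟩ w) from (cj_comp_apply C.W_norm (⟨(x : G), C.U_le x.2⟩ : H) h0 w).symm]
    refine cj_W_of_mem_U C (α := fun w => ((p0.1 : Cfsg.IrrCharacter W) : W → ℂ) (cj C.W_norm h0 w)) ?_
      x.2 w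
    exact IsCharacter.isClassFunction (IsCharacter.comp (IsIrrCharacter.isCharacter p0.1.1.2) _)
  have hsum : ∑ θ : {θ // θ ∈ Θ}, (Nat.card S : ℝ) * (Rr θ ^ 2 + (deg θ.1 : ℝ) ^ 2 * m) ≤
      (m : ℝ) * Nat.card U := by
    rw [Finset.sum_congr rfl fun θ _ => (hsq θ).symm, ← Fintype.sum_prod_type',
      ← Finset.sum_fiberwise Finset.univ (fun p : {θ // θ ∈ Θ} × Cfsg.IrrCharacter S => (F p.1).Φ p.2),
      ← hcol, Finset.mul_sum]
    refine Finset.sum_le_sum fun χ _ => ?_
    rw [Finset.sum_congr rfl (g := fun _ => g χ) fun p hp => by rw [(Finset.mem_filter.1 hp).2],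
      Finset.sum_const, nsmul_eq_mul]
    exact mul_le_mul_of_nonneg_right (Nat.cast_le.2 (hfibre χ)) (sq_nonneg _)
  -- the degrees in `Θ`
  set B := Nat.card (W ⧸ ZW) with hB
  have hsplit : (∑ θ ∈ Θ, deg θ ^ 2) + B = Nat.card W := by
    rw [← CharX.sum_deg_sq (G := W),
      ← Finset.sum_filter_add_sum_filter_not (s := (Finset.univ : Finset (Cfsg.IrrCharacter W)))
        (fun θ => ¬ ∀ x ∈ ZW, (θ : W → ℂ) x = (θ : W → ℂ) 1) (fun θ => deg θ ^ 2)]
    congr 1
    haveI : Fintype (Cfsg.IrrCharacter (W ⧸ ZW)) := Fintype.ofFinite _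
    rw [CharX.sum_trivialOn' ZW _ (fun χ => by simp) (fun χ => Cfsg.charDegree χ ^ 2), hB,
      ← CharX.sum_deg_sq (G := W ⧸ ZW)]
    refine Finset.sum_congr rfl fun χ _ => ?_
    congr 1
  have hZcard : 2 * m + 1 ≤ Nat.card ZW := by
    rw [Nat.card_congr (subgroupOfEquivOfLe A.Z_le).toEquiv]
    haveI : Fintype H := Fintype.ofFinite H
    haveI : (U.subgroupOf H).Normal := ⟨fun x hx h => by
      rw [mem_subgroupOf] at hx ⊢
      obtain ⟨a, b, hab⟩ : ∃ a b, CyclicTI.inc1 W S a * CyclicTI.inc2 W S b = ⟨(x : G), hx⟩ :=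
        ⟨_, _, CyclicTI.decomp C.split _⟩
      have hab' : (a : G) * b = (x : G) := congrArg Subtype.val hab
      rw [coe_mul, coe_mul, coe_inv, ← hab',
        show (h : G) * ((a : G) * b) * (h : G)⁻¹ = ((h : G) * a * (h : G)⁻¹) * ((h : G) * b * (h : G)⁻¹) by group]
      exact mul_mem (mem_sup_left (C.W_norm _ h.2 _ a.2)) (mem_sup_right (C.S_norm _ h.2 _ b.2))⟩
    have hidx : (U.subgroupOf H).index = m := by
      have h := (U.subgroupOf H).card_mul_index
      rw [Nat.card_congr (subgroupOfEquivOfLe C.U_le).toEquiv, card_H C] at h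
      exact Nat.eq_of_mul_eq_mul_left Nat.card_pos h
    have hdvd := card_orbit_ge (X := H) (Z.subgroupOf H) (U.subgroupOf H) (fun z hz hz1 x hx => by
      rw [mem_subgroupOf] at hz ⊢
      by_contra hxU
      exact hz1 (Subtype.ext (A.free x x.2 hxU z hz (congrArg Subtype.val hx))))
      ⟨fun z hz h => by rw [mem_subgroupOf] at hz ⊢; exact A.Z_norm h h.2 z hz⟩ hidx
    have hZH : Z ≤ H := A.Z_le.trans C.W_le
    rw [Nat.card_congr (subgroupOfEquivOfLe hZH).toEquiv] at hdvd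
    have hZodd : Odd (Nat.card Z) := C.W_odd.of_dvd_nat (Subgroup.card_dvd_of_le A.Z_le)
    have hm2 : Odd m := by
      haveI : Fact (Nat.Prime 2) := ⟨Nat.prime_two⟩
      let V : Subgroup G :=
        { carrier := {v | v ∈ S ∧ v * v = 1}
          one_mem' := ⟨S.one_mem, one_mul 1⟩
          mul_mem' := by
            rintro a b ⟨ha, ha2⟩ ⟨hb, hb2⟩
            refine ⟨mul_mem ha hb, ?_⟩
            have hab : a * b = b * a := by
              by_cases h : a = 1
              · simp [h]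
              · exact C.central a ha (orderOf_eq_prime (by rw [pow_two, ha2]) h) b hb
            calc a * b * (a * b) = a * (b * a) * b := by group
              _ = a * (a * b) * b := by rw [hab]
              _ = (a * a) * (b * b) := by group
              _ = 1 := by rw [ha2, hb2, one_mul]
          inv_mem' := by
            rintro a ⟨ha, ha2⟩
            exact ⟨inv_mem ha, by rw [← mul_inv_rev, ha2, inv_one]⟩ }
      obtain ⟨k, hk⟩ := (C.S_two.to_le (show V ≤ S from fun v hv => hv.1)).exists_card_eq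
      have hVc : Nat.card V = m + 1 := by
        rw [← Finset.card_insert_of_notMem (a := (1 : G)) (s := vset S) (fun h => by
          have := (mem_vset.1 h).2; simp at this), Nat.card_eq_fintype_card, Fintype.card_subtype]
        refine congrArg Finset.card (Finset.ext fun v => ?_)
        simp only [Finset.mem_filter, Finset.mem_univ, true_and, Finset.mem_insert, mem_vset]
        constructor
        · rintro ⟨hv, hv2⟩
          by_cases h : v = 1
          · exact Or.inl h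
          · exact Or.inr ⟨hv, orderOf_eq_prime (by rw [pow_two, hv2]) h⟩
        · rintro (rfl | ⟨hv, hvo⟩)
          · exact V.one_mem
          · exact ⟨hv, Invol.mul_self hvo⟩
      rcases k with _ | k
      · have := A.m7; rw [pow_zero] at hk; omega
      · refine ⟨2 ^ k - 1, ?_⟩
        have h1 := Nat.one_le_two_pow (n := k)
        rw [pow_succ] at hk
        generalize 2 ^ k = j at h1 hk ⊢
        omega
    have hZ1 : 1 < Nat.card Z := Subgroup.one_lt_card_iff_ne_bot _ |>.2 A.Z_ne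
    have h2 : 2 * m ∣ Nat.card Z - 1 := Nat.Coprime.mul_dvd_of_dvd_of_dvd
      (Nat.coprime_two_left.2 hm2) (by obtain ⟨k, hk⟩ := hZodd; exact ⟨k, by omega⟩) hdvd
    have := Nat.le_of_dvd (by omega) h2
    omega
  have hBW : B * Nat.card ZW = Nat.card W := (card_eq_card_quotient_mul_card_subgroup ZW).symm
  -- a character with a small common part
  have hW : (Nat.card U : ℝ) = (Nat.card W : ℝ) * Nat.card S := by
    rw [C.card_U]; push_cast; ring
  have hR2 : ∑ θ : {θ // θ ∈ Θ}, (2 * Rr θ ^ 2 - (deg θ.1 : ℝ) ^ 2) ≤ 0 := by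
    rw [← Finset.mul_sum, Finset.sum_add_distrib, ← Finset.sum_mul, hW] at hsum
    have hS0 : (0 : ℝ) < Nat.card S := Nat.cast_pos.2 Nat.card_pos
    set SR := ∑ θ : {θ // θ ∈ Θ}, Rr θ ^ 2
    set SD := ∑ θ : {θ // θ ∈ Θ}, (deg θ.1 : ℝ) ^ 2 with hSD
    have hSD' : SD = ((∑ θ ∈ Θ, deg θ ^ 2 : ℕ) : ℝ) := by
      rw [hSD, Nat.cast_sum, ← Finset.sum_coe_sort Θ]
      exact Finset.sum_congr rfl fun θ _ => by push_cast; rfl
    have e1 : SD + (B : ℝ) = Nat.card W := by rw [hSD']; exact_mod_cast hsplit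
    have e2 : (B : ℝ) * Nat.card ZW = Nat.card W := by exact_mod_cast hBW
    have e3 : 2 * (m : ℝ) + 1 ≤ Nat.card ZW := by exact_mod_cast hZcard
    have hB0 : (0 : ℝ) ≤ B := Nat.cast_nonneg _
    have h1 : SR + SD * m ≤ (m : ℝ) * Nat.card W := by
      refine le_of_mul_le_mul_left ?_ hS0
      linarith
    rw [Finset.sum_sub_distrib, ← Finset.mul_sum]
    nlinarith
  obtain ⟨θ, -, hθR⟩ : ∃ θ ∈ (Finset.univ : Finset {θ // θ ∈ Θ}),
      2 * Rr θ ^ 2 - (deg θ.1 : ℝ) ^ 2 ≤ 0 := by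
    refine Finset.exists_le_of_sum_le ?_ (by simpa using hR2)
    have hpos : 0 < ∑ θ ∈ Θ, deg θ ^ 2 := by
      have hB1 : 0 < B := Nat.card_pos
      nlinarith [A.m7]
    obtain ⟨θ, hθ, -⟩ := Finset.exists_ne_zero_of_sum_ne_zero hpos.ne'
    exact ⟨⟨θ, hθ⟩, Finset.mem_univ _⟩
  obtain ⟨d, -, hd⟩ := IsIrrCharacter.exists_degree ((F θ).Φ (Char.principal S)).2
  have hθ0 : 0 < deg θ.1 := CharX.irr_deg_pos θ.1
  -- the degree equation
  have hdeq := (F θ).degree_eq C (by rw [CharX.irr_deg θ.1]; exact Nat.cast_ne_zero.2 hθ0.ne')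
  obtain ⟨er, her, her1⟩ : ∃ er : ℝ, (F θ).e = (er : ℂ) ∧ (er = 1 ∨ er = -1) := by
    rcases (F θ).e_sign with h | h
    · exact ⟨1, by simp [h], Or.inl rfl⟩
    · exact ⟨-1, by simp [h], Or.inr rfl⟩
  rw [hd, hRr θ, her, CharX.irr_deg θ.1] at hdeq
  have hm7 : 7 ≤ m := A.m7
  have hGU : (Nat.card G : ℝ) = (H.index : ℝ) * Nat.card U * m := by
    rw [← H.index_mul_card, card_H C]; push_cast; ring
  have hdeqR : (Nat.card U : ℝ) * ((m : ℝ) - 1) * d =
      (Nat.card G : ℝ) * (2 * Rr θ + er * deg θ.1 * ((m : ℝ) - 1)) := by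
    apply Complex.ofReal_injective
    rw [Nat.cast_sub (by omega : 1 ≤ (vset S).card)] at hdeq
    push_cast at hdeq ⊢
    exact hdeq
  have hd2 : (d : ℝ) ^ 2 ≤ Nat.card G := by
    have h := Finset.single_le_sum (f := fun χ : Cfsg.IrrCharacter G => Cfsg.charDegree (χ : G → ℂ) ^ 2)
      (fun _ _ => Nat.zero_le _) (Finset.mem_univ ((F θ).Φ (Char.principal S)))
    rw [CharX.sum_deg_sq] at h
    have hcd : Cfsg.charDegree ((F θ).Φ (Char.principal S) : G → ℂ) = d := by
      apply Nat.cast_injective (R := ℂ); rw [← CharX.irr_deg, hd]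
    simp only [hcd] at h
    exact_mod_cast h
  -- the orbit of `u H`
  have horbit : Nat.card U ≤ (H.index - 1) * deg θ.1 := by
    refine le_trans ?_ (Nat.mul_le_mul_left _ (hθfacts θ.1 θ.2).2)
    have hst : MulAction.stabilizer ↥U ((u : G) : G ⧸ H) = K.subgroupOf U := by
      ext x
      rw [MulAction.mem_stabilizer_iff, mem_subgroupOf, hKmem]
      show (((x : G) * u : G) : G ⧸ H) = ((u : G) : G ⧸ H) ↔ _
      rw [eq_comm, QuotientGroup.eq, mul_assoc]
    have h1 := Subgroup.index_mul_card (MulAction.stabilizer ↥U ((u : G) : G ⧸ H))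
    rw [MulAction.index_stabilizer] at h1
    have h2 : Nat.card ↥(MulAction.stabilizer ↥U ((u : G) : G ⧸ H)) = d0 := by
      rw [hst, hd0, ← inf_subgroupOf_left, Nat.card_congr (subgroupOfEquivOfLe inf_le_left).toEquiv]
    rw [h2] at h1
    rw [← h1]
    refine Nat.mul_le_mul_right _ ?_
    refine (Set.ncard_le_ncard (t := {((1 : G) : G ⧸ H)}ᶜ) ?_).trans (le_of_eq ?_)
    · rintro _ ⟨x, rfl⟩ hx
      have hx' : (((x : G) * u : G) : G ⧸ H) = ((1 : G) : G ⧸ H) := hx
      rw [eq_comm, QuotientGroup.eq, inv_one, one_mul] at hx'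
      exact A.u_not (by simpa using mul_mem (inv_mem (C.U_le x.2)) hx')
    · rw [Set.ncard_compl, Set.ncard_singleton]
      rfl
  -- the final count
  have hU0 : (0 : ℝ) < Nat.card U := Nat.cast_pos.2 Nat.card_pos
  have hidx : 1 ≤ H.index := Nat.one_le_iff_ne_zero.2 H.index_ne_zero_of_finite
  have horbR : (Nat.card U : ℝ) ≤ ((H.index : ℝ) - 1) * deg θ.1 := by
    have := (Nat.cast_le (α := ℝ)).2 horbit
    rwa [Nat.cast_mul, Nat.cast_sub hidx, Nat.cast_one] at this
  have hθ1 : (1 : ℝ) ≤ deg θ.1 := by exact_mod_cast hθ0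
  have hmR : (7 : ℝ) ≤ m := by exact_mod_cast hm7
  have hO : (1 : ℝ) ≤ H.index := by exact_mod_cast hidx
  set X := 2 * Rr θ + er * deg θ.1 * ((m : ℝ) - 1) with hX
  have hXsq : ((deg θ.1 : ℝ) * ((m : ℝ) - 3)) ^ 2 ≤ X ^ 2 := by
    have hRabs : |Rr θ| ≤ deg θ.1 := abs_le_of_sq_le_sq (by nlinarith) (by positivity)
    obtain ⟨hl, hu'⟩ := abs_le.1 hRabs
    rcases her1 with e | e <;> rw [hX, e]
    · exact pow_le_pow_left₀ (by nlinarith) (by nlinarith) 2
    · rw [← neg_sq (2 * Rr θ + _)]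
      exact pow_le_pow_left₀ (by nlinarith) (by nlinarith) 2
  have hfd : ((m : ℝ) - 1) * d = (H.index : ℝ) * m * X := by
    refine mul_left_cancel₀ hU0.ne' ?_
    rw [hGU] at hdeqR
    linarith
  have h1 : (H.index : ℝ) * m * ((deg θ.1 : ℝ) * ((m : ℝ) - 3)) ^ 2 ≤ ((m : ℝ) - 1) ^ 2 * Nat.card U := by
    refine le_of_mul_le_mul_left ?_ (show (0 : ℝ) < (H.index : ℝ) * m from mul_pos (by linarith) (by linarith))
    have h2 : (((m : ℝ) - 1) * d) ^ 2 ≤ ((m : ℝ) - 1) ^ 2 * Nat.card G := by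
      rw [mul_pow]; exact mul_le_mul_of_nonneg_left hd2 (sq_nonneg _)
    rw [hfd, hGU] at h2
    have h3 := mul_le_mul_of_nonneg_left hXsq (sq_nonneg ((H.index : ℝ) * m))
    nlinarith
  have h4 : (H.index : ℝ) * m * ((deg θ.1 : ℝ) * ((m : ℝ) - 3)) ^ 2 ≤
      ((m : ℝ) - 1) ^ 2 * ((H.index : ℝ) * deg θ.1) :=
    h1.trans (mul_le_mul_of_nonneg_left (horbR.trans (by nlinarith)) (sq_nonneg _))
  have h5 : (m : ℝ) * (deg θ.1 : ℝ) * ((m : ℝ) - 3) ^ 2 ≤ ((m : ℝ) - 1) ^ 2 := by
    refine le_of_mul_le_mul_left ?_ (show (0 : ℝ) < (H.index : ℝ) * deg θ.1 from mul_pos (by linarith) (by linarith))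
    linarith
  have h6 : (m : ℝ) * ((m : ℝ) - 3) ^ 2 ≤ ((m : ℝ) - 1) ^ 2 :=
    le_trans (mul_le_mul_of_nonneg_right (le_mul_of_one_le_right (by linarith) hθ1) (sq_nonneg _)) h5
  nlinarith

end Cfsg.Agent.SEBrick
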