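import Cfsg.Agent.Lib.SEBrick.CaseBBad
import Cfsg.Agent.Lib.SEBrick.CharMain
import Cfsg.Agent.Lib.PLocal.FixedPointFree

/-!
No configuration where all involutions of `H` centralise `W`.
-/

set_option autoImplicit false
set_option linter.style.haveILetI false
set_option linter.unusedSectionVars false

namespace Cfsg.Agent.SEBrick

open Cfsg Subgroup Cfsg.Agent.Functors
open scoped Pointwise

universe u

variable {G : Type u} [Group G] [Finite G] {H W : Subgroup G}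

/-- A nontrivial element has a power of prime order. -/
theorem exists_prime_pow {a : G} (h1 : a ≠ 1) :
    ∃ (l n : ℕ), l.Prime ∧ (a ^ n) ^ l = 1 ∧ a ^ n ≠ 1 := by
  obtain ⟨l, hl, c, hc⟩ := Nat.exists_prime_and_dvd (fun e => h1 (orderOf_eq_one_iff.1 e) : orderOf a ≠ 1)
  refine ⟨l, c, hl, by rw [← pow_mul, mul_comm, ← hc, pow_orderOf_eq_one], fun e => ?_⟩
  have h2 := Nat.le_of_dvd (Nat.pos_of_ne_zero fun e' => (orderOf_pos a).ne' (by rw [hc, e', mul_zero]))
    (orderOf_dvd_of_pow_eq_one e)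
  have h3 := hl.two_le
  have h4 := orderOf_pos a
  nlinarith

theorem isPGroup_of_mem {q : ℕ} {R : Subgroup G} (hR : IsPGroup q R) {a : G} (ha : a ∈ R) :
    IsPGroup q (zpowers a) := hR.to_le (zpowers_le.2 ha)

theorem odd_of_pgroup {q : ℕ} [hq : Fact q.Prime] (hq2 : q ≠ 2) {a : G} (ha : IsPGroup q (zpowers a)) :
    Odd (orderOf a) := by
  obtain ⟨k, hk⟩ := ha.exists_card_eq
  rw [Nat.card_zpowers] at hk
  exact hk ▸ (hq.out.odd_of_ne_two hq2).pow

namespace BHyp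

variable (h : BHyp H W)
include h

theorem not_two {r : ℕ} [Fact r.Prime] {g : G} (hg : g ∈ H) (hgU : g ∉ h.U) (hgr : IsPGroup r (zpowers g)) :
    r ≠ 2 := by
  rintro rfl
  obtain ⟨k, hk⟩ := hgr.exists_card_eq
  rw [Nat.card_zpowers] at hk
  exact hgU (h.two_mem_U hg hk)

/-- An element of `H` outside `U` has a power of prime power order outside `U`. -/
theorem exists_r {g : G} (hg : g ∈ H) (hgU : g ∉ h.U) :
    ∃ (r n : ℕ), r.Prime ∧ IsPGroup r (zpowers (g ^ n)) ∧ g ^ n ∉ h.U := by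
  induction hn : orderOf g using Nat.strong_induction_on generalizing g with
  | _ N ih =>
  subst hn
  obtain ⟨r, hr, hrd⟩ := Nat.exists_prime_and_dvd
    (fun e => hgU (orderOf_eq_one_iff.1 e ▸ h.U.one_mem) : orderOf g ≠ 1)
  haveI := Fact.mk hr
  obtain ⟨k, n, hn, hkn⟩ := Nat.exists_eq_pow_mul_and_not_dvd (orderOf_pos g).ne' r hr.ne_one
  have hk : k ≠ 0 := fun e => hn (by rwa [hkn, e, pow_zero, one_mul] at hrd)
  by_cases hU : g ^ n ∈ h.U
  · have hU' : g ^ r ^ k ∉ h.U := fun hm => hgU (by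
      have hcop : Nat.Coprime n (r ^ k) := ((hr.coprime_iff_not_dvd.2 hn).symm).pow_right k
      have := Nat.gcd_eq_gcd_ab n (r ^ k)
      rw [hcop.gcd_eq_one] at this
      rw [← zpow_one g, show (1 : ℤ) = ((1 : ℕ) : ℤ) from rfl, this, zpow_add, zpow_mul, zpow_mul,
        zpow_natCast, zpow_natCast]
      exact h.U.mul_mem (h.U.zpow_mem hU _) (h.U.zpow_mem hm _))
    have hlt : orderOf (g ^ r ^ k) < orderOf g := by
      rw [orderOf_pow_of_dvd (pow_ne_zero _ hr.ne_zero) (hkn ▸ dvd_mul_right _ _)]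
      exact Nat.div_lt_self (orderOf_pos g) (Nat.one_lt_pow hk hr.one_lt)
    obtain ⟨r', m, hr', hp, hm⟩ := ih _ hlt (H.pow_mem hg _) hU' rfl
    exact ⟨r', r ^ k * m, hr', by rwa [pow_mul], by rwa [pow_mul]⟩
  · exact ⟨r, n, hr, isPGroup_zpowers' (k := k) (by rw [← pow_mul, mul_comm, ← hkn, pow_orderOf_eq_one]), hU⟩

section prime

variable {r : ℕ} [hr : Fact r.Prime] {g₀ : G} (hg₀ : g₀ ∈ H) (hg₀U : g₀ ∉ h.U)
  (hg₀r : IsPGroup r (zpowers g₀))
include hg₀ hg₀U hg₀r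

/-- Elements of `W` of `r`-power order fix the base point only. -/
theorem no_fix {a : G} (ha : a ∈ W) (ha1 : a ≠ 1) (har : IsPGroup r (zpowers a)) {x : G ⧸ H}
    (hax : a • x = x) : x = h.base :=
  h.good_fix ha ha1 har (h.good_of_dvd hg₀ hg₀U hg₀r ha ha1 har) hax

/-- The same for the conjugates of `W`. -/
theorem no_fix_at {a : G} (ha1 : a ≠ 1) (har : IsPGroup r (zpowers a)) {c x : G ⧸ H} (hc : a ∈ Wat W c)
    (hax : a • x = x) : x = c := by
  induction c using QuotientGroup.induction_on with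
  | _ k =>
    have hy : IsPGroup r (zpowers (k⁻¹ * a * k)) := by
      obtain ⟨j, hj⟩ := har.exists_card_eq
      refine IsPGroup.of_card (n := j) ?_
      rw [Nat.card_zpowers] at hj ⊢
      rw [show k⁻¹ * a * k = k⁻¹ * a * k⁻¹⁻¹ by group, Invol.order_conj, hj]
    have := BHyp.no_fix h hg₀ hg₀U hg₀r (h.mem_Wat.1 hc) (fun e => ha1 (by
        rw [show a = k * (k⁻¹ * a * k) * k⁻¹ by group, e]; simp)) hy (x := k⁻¹ • x) (by
      rw [← mul_smul, show k⁻¹ * a * k * k⁻¹ = k⁻¹ * a by group, mul_smul, hax])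
    rw [inv_smul_eq_iff] at this
    rw [this, base, MulAction.Quotient.smul_mk, smul_eq_mul, mul_one]

theorem cent_le_r {a : G} (ha : a ∈ H) (ha1 : a ≠ 1) (har : IsPGroup r (zpowers a)) {x : G ⧸ H}
    (hx : x ≠ h.base) (hax : a • x = x) : centralizer ({a} : Set G) ≤ H := by
  have hr2 := h.not_two hg₀ hg₀U hg₀r
  have hab : a • h.base = h.base := h.base_fix.2 ha
  refine h.cent_le_of_inverted ha ha1 (odd_of_pgroup hr2 har) (odd_card_of_orders fun i hi hi2 => ?_) ?_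
  · obtain ⟨c, hc⟩ := Invol.se_exists_fix h.se hi2
    have hm := h.core_at hi2 hc (odd_of_pgroup hr2 har) (mem_centralizer_singleton_iff.1 hi).symm
    exact hx ((BHyp.no_fix_at h hg₀ hg₀U hg₀r ha1 har hm hax).trans
      (BHyp.no_fix_at h hg₀ hg₀U hg₀r ha1 har hm hab).symm)
  · intro y hy hay
    obtain ⟨v, R, hv, hvb, hvy, haR, hRr, hRH, hRy, hvR, -⟩ := h.exists_swap_sylow hy ha hay har
    refine ⟨v, hv, hvb, hvy, ?_⟩
    let φ : R →* R := MonoidHom.mk' (fun b => ⟨v * b * v⁻¹, hvR b b.2⟩) fun b c => Subtype.ext (by simp [mul_assoc])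
    have hfp : MonoidHom.FixedPointFree φ := fun b hb => by
      by_contra hb1
      have hb1' : (b : G) ≠ 1 := fun e => hb1 (Subtype.ext e)
      have he : v * (b : G) * v⁻¹ = b := congrArg Subtype.val hb
      obtain ⟨c, hc⟩ := Invol.se_exists_fix h.se hv
      have hm := h.core_at hv hc (odd_of_pgroup hr2 (isPGroup_of_mem hRr b.2)) (commute_of_conj_eq he).symm
      exact hy ((BHyp.no_fix_at h hg₀ hg₀U hg₀r hb1' (isPGroup_of_mem hRr b.2) hm (hRy b b.2)).trans
        (BHyp.no_fix_at h hg₀ hg₀U hg₀r hb1' (isPGroup_of_mem hRr b.2) hm (h.base_fix.2 (hRH b.2))).symm)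
    have hii : Function.Involutive φ := fun b => Subtype.ext (by
      show v * (v * (b : G) * v⁻¹) * v⁻¹ = b
      rw [show v * (v * (b : G) * v⁻¹) * v⁻¹ = (v * v) * b * (v * v)⁻¹ by group, Invol.mul_self hv]
      simp)
    exact congrArg Subtype.val (congrFun (hfp.coe_eq_inv_of_involutive hii) ⟨a, haR⟩)

/-- What commutes with an `r`-element fixes its fixed points. -/
theorem cent_fix_r {a : G} (ha : a ∈ H) (ha1 : a ≠ 1) (har : IsPGroup r (zpowers a)) {x : G ⧸ H}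
    (hx : x ≠ h.base) (hax : a • x = x) {z : G} (hz : z * a = a * z) : z • x = x := by
  induction x using QuotientGroup.induction_on with
  | _ k =>
    set b := k⁻¹ * a * k with hb
    have hbH : b ∈ H := fix_iff.1 hax
    have hkb : k⁻¹ • h.base ≠ h.base := fun e => hx (by
      rw [inv_smul_eq_iff] at e
      rw [e, base, MulAction.Quotient.smul_mk, smul_eq_mul, mul_one])
    have hbr : IsPGroup r (zpowers b) := by
      obtain ⟨j, hj⟩ := har.exists_card_eq
      refine IsPGroup.of_card (n := j) ?_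
      rw [Nat.card_zpowers] at hj ⊢
      rw [hb, show k⁻¹ * a * k = k⁻¹ * a * k⁻¹⁻¹ by group, Invol.order_conj, hj]
    refine fix_iff.2 (BHyp.cent_le_r h hg₀ hg₀U hg₀r hbH (fun e => ha1 (by
        rw [show a = k * b * k⁻¹ by rw [hb]; group, e]; simp)) hbr hkb ?_ (mem_centralizer_singleton_iff.2 ?_))
    · rw [← mul_smul, hb, show k⁻¹ * a * k * k⁻¹ = k⁻¹ * a by group, mul_smul, h.base_fix.2 ha]
    · rw [hb]
      calc k⁻¹ * z * k * (k⁻¹ * a * k) = k⁻¹ * (z * a) * k := by group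
        _ = k⁻¹ * (a * z) * k := by rw [hz]
        _ = _ := by group

/-- The stabiliser of a second point has an `r`-element outside `U`. -/
theorem exists_D_r {y : G ⧸ H} (hy : y ≠ h.base) :
    ∃ d ∈ H, d • y = y ∧ IsPGroup r (zpowers d) ∧ d ∉ h.U := by
  obtain ⟨d, hdH, hdy, hdg⟩ := h.exists_D_mul hy hg₀
  obtain ⟨k, n, hn, hkn⟩ := Nat.exists_eq_pow_mul_and_not_dvd (orderOf_pos d).ne' r hr.out.ne_one
  refine ⟨d ^ n, H.pow_mem hdH n, (MulAction.stabilizer G y).pow_mem hdy n,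
    isPGroup_zpowers' (k := k) (by rw [← pow_mul, mul_comm, ← hkn, pow_orderOf_eq_one]), fun hm => hg₀U ?_⟩
  haveI : (h.U.subgroupOf H).Normal :=
    normal_subgroupOf_of_le_normalizer (le_normalizer_of fun g hg x hx => h.U_norm hg hx)
  set π := QuotientGroup.mk' (h.U.subgroupOf H) with hπ
  have hπ1 : ∀ x : H, π x = 1 ↔ (x : G) ∈ h.U := fun x => QuotientGroup.eq_one_iff x
  have he : π ⟨d, hdH⟩ = π ⟨g₀, hg₀⟩ := by
    rw [← inv_mul_eq_one, ← map_inv, ← map_mul, hπ1]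
    exact hdg
  refine (hπ1 ⟨g₀, hg₀⟩).1 ?_
  obtain ⟨j, hj⟩ := hg₀r.exists_card_eq
  rw [Nat.card_zpowers] at hj
  have h1 : π ⟨g₀, hg₀⟩ ^ r ^ j = 1 := by
    rw [← map_pow, hπ1]
    show g₀ ^ r ^ j ∈ h.U
    rw [← hj, pow_orderOf_eq_one]
    exact h.U.one_mem
  have h2 : π ⟨g₀, hg₀⟩ ^ n = 1 := by rw [← he, ← map_pow, hπ1]; exact hm
  have h3 := Nat.dvd_gcd (orderOf_dvd_of_pow_eq_one h1) (orderOf_dvd_of_pow_eq_one h2)
  rw [((hr.out.coprime_iff_not_dvd.2 hn).pow_left j).gcd_eq_one] at h3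
  exact orderOf_eq_one_iff.1 (Nat.dvd_one.1 h3)

/-- `W` has no element of order `r`. -/
theorem W_coprime : ¬ r ∣ Nat.card W := by
  intro hd
  obtain ⟨⟨w, hw⟩, hwo⟩ := exists_prime_orderOf_dvd_card' (G := W) r hd
  rw [Subgroup.orderOf_mk] at hwo
  have hwr : w ^ r = 1 := hwo ▸ pow_orderOf_eq_one w
  obtain ⟨y, hy⟩ := h.exists_ne_base
  obtain ⟨d, hdH, hdy, hdr, hdU⟩ := BHyp.exists_D_r h hg₀ hg₀U hg₀r hy
  obtain ⟨R, hR, hdR⟩ := exists_isSylowIn_ge hdr (zpowers_le.2 hdH)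
  obtain ⟨n, hn, hnR⟩ := exists_conj_le_of_isSylowIn hR (isPGroup_zpowers hwr) (zpowers_le.2 (h.W_le hw))
  haveI : (W.subgroupOf R).Normal := normal_subgroupOf_of_le_normalizer (hR.le.trans h.W_normal)
  haveI : Group.IsNilpotent R := hR.isPGroup.isNilpotent
  have hne : W.subgroupOf R ≠ ⊥ := fun e => by
    have hm : (⟨n * w * n⁻¹, hnR ⟨w, mem_zpowers w, rfl⟩⟩ : R) ∈ W.subgroupOf R := h.W_norm n hn w hw
    rw [e, mem_bot] at hm
    have h1 : w = 1 := conj_eq_one_iff.1 (congrArg Subtype.val hm)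
    rw [h1, orderOf_one] at hwo
    exact hr.out.ne_one hwo.symm
  obtain ⟨z, hz, hz1⟩ := (Subgroup.bot_or_exists_ne_one (W.subgroupOf R ⊓ center R)).resolve_left
    (SolvStruct.inf_center_ne_bot hne)
  have hc : (z : G) * d = d * z :=
    (congrArg Subtype.val (mem_center_iff.1 hz.2 ⟨d, hdR (mem_zpowers d)⟩)).symm
  exact hy (BHyp.no_fix h hg₀ hg₀U hg₀r (mem_subgroupOf.1 hz.1) (fun e => hz1 (Subtype.ext e))
    (isPGroup_of_mem hR.isPGroup z.2)
    (BHyp.cent_fix_r h hg₀ hg₀U hg₀r hdH (fun e => hdU (e ▸ h.U.one_mem)) hdr hy hdy hc))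

theorem r_mem_U {a : G} (ha : a ∈ h.U) (har : IsPGroup r (zpowers a)) : a = 1 := by
  by_contra ha1
  obtain ⟨n, hn, hn1⟩ := exists_root har ha1
  refine BHyp.W_coprime h hg₀ hg₀U hg₀r ?_
  rw [← orderOf_eq_prime hn hn1]
  exact Subgroup.orderOf_dvd_natCard W
    (W.pow_mem (h.odd_U ha (odd_of_pgroup (h.not_two hg₀ hg₀U hg₀r) har)) n)

/-- Every `r`-element of `H` fixes a second point. -/
theorem exists_fix {a : G} (ha : a ∈ H) (har : IsPGroup r (zpowers a)) : ∃ x, x ≠ h.base ∧ a • x = x := by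
  obtain ⟨y, hy⟩ := h.exists_ne_base
  set D := H ⊓ MulAction.stabilizer G y with hD
  obtain ⟨R₁, hR₁, -⟩ := exists_isSylowIn_ge (p := r) (A := (⊥ : Subgroup G)) (H := D) IsPGroup.of_bot bot_le
  obtain ⟨R, hR, hle⟩ := exists_isSylowIn_ge hR₁.isPGroup (hR₁.le.trans inf_le_left)
  haveI : (h.U.subgroupOf H).Normal :=
    normal_subgroupOf_of_le_normalizer (le_normalizer_of fun g hg x hx => h.U_norm hg hx)
  set π := QuotientGroup.mk' (h.U.subgroupOf H) with hπ
  have hπ1 : ∀ x : H, π x = 1 ↔ (x : G) ∈ h.U := fun x => QuotientGroup.eq_one_iff x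
  have h1 : Nat.card R ∣ Nat.card (H ⧸ h.U.subgroupOf H) := by
    refine card_dvd_of_injective (π.comp (inclusion hR.le))
      ((injective_iff_map_eq_one (π.comp (inclusion hR.le))).2 fun x hx => Subtype.ext ?_)
    exact BHyp.r_mem_U h hg₀ hg₀U hg₀r ((hπ1 _).1 hx) (isPGroup_of_mem hR.isPGroup x.2)
  have h2 : Nat.card (H ⧸ h.U.subgroupOf H) ∣ Nat.card D := by
    refine card_dvd_of_surjective (π.comp (inclusion (inf_le_left : D ≤ H))) fun x => ?_
    obtain ⟨⟨g, hg⟩, rfl⟩ := QuotientGroup.mk'_surjective _ x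
    obtain ⟨d, hdH, hdy, hdg⟩ := h.exists_D_mul hy hg
    refine ⟨⟨d, hdH, hdy⟩, ?_⟩
    rw [← inv_mul_eq_one]
    show (π ⟨d, hdH⟩)⁻¹ * π ⟨g, hg⟩ = 1
    rw [← map_inv, ← map_mul, hπ1]
    exact hdg
  have h3 : Nat.card R₁ * R₁.relIndex D = Nat.card D := by
    rw [← relIndex_bot_left, ← relIndex_bot_left]
    exact relIndex_mul_relIndex _ _ _ bot_le hR₁.le
  obtain ⟨j, hj⟩ := hR.isPGroup.exists_card_eq
  have h4 : Nat.card R ∣ Nat.card R₁ := by
    have := (h1.trans h2).trans h3.symm.dvd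
    rw [hj] at this ⊢
    exact ((hr.out.coprime_iff_not_dvd.2 hR₁.2.2).pow_left j).dvd_of_dvd_mul_right this
  have heq : R₁ = R := eq_of_le_of_card_ge hle (Nat.le_of_dvd Nat.card_pos h4)
  obtain ⟨n, hn, hnR⟩ := exists_conj_le_of_isSylowIn hR har (zpowers_le.2 ha)
  have hfix : (n * a * n⁻¹) • y = y := (hR₁.le (heq ▸ hnR ⟨a, mem_zpowers a, rfl⟩)).2
  refine ⟨n⁻¹ • y, fun e => hy ?_, ?_⟩
  · rw [inv_smul_eq_iff] at e
    rw [e, h.base_fix.2 hn]
  · calc a • n⁻¹ • y = n⁻¹ • ((n * a * n⁻¹) • y) := by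
          rw [← mul_smul, ← mul_smul, show n⁻¹ * (n * a * n⁻¹) = a * n⁻¹ by group]
      _ = n⁻¹ • y := by rw [hfix]

end prime

/-- A good element of prime order of `W` commutes with no element outside `U`. -/
theorem free_elem {g z : G} (hg : g ∈ H) (hgU : g ∉ h.U) {l : ℕ} [Fact l.Prime] (hz : z ∈ W) (hz1 : z ≠ 1)
    (hzl : z ^ l = 1) (hgood : Good H z) (hc : g * z = z * g) : False := by
  obtain ⟨r, n, hr, hp, hU⟩ := h.exists_r hg hgU
  haveI := Fact.mk hr
  have hgn := H.pow_mem hg n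
  obtain ⟨x, hx, hax⟩ := BHyp.exists_fix h hgn hU hp hgn hp
  exact hx (h.good_fix hz hz1 (isPGroup_zpowers hzl) hgood (BHyp.cent_fix_r h hgn hU hp hgn
    (fun e => hU (e ▸ h.U.one_mem)) hp hx hax ((show Commute g z from hc).pow_left n).eq.symm))

/-- An element of `H` outside `U` commutes with no nontrivial 2-element of `H`. -/
theorem two_free {g s : G} (hgU : g ∉ h.U) (hs : s ∈ H) (hs2 : IsPGroup 2 (zpowers s))
    (hc : g * s = s * g) : s = 1 := by
  by_contra hs1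
  haveI : Fact (Nat.Prime 2) := ⟨Nat.prime_two⟩
  obtain ⟨n, hn, hn1⟩ := exists_root hs2 hs1
  exact hgU (h.mem_U (H.pow_mem hs n) (orderOf_eq_prime hn hn1)
    ((show Commute g s from hc).pow_right n).eq)

theorem exists_outside : ∃ g ∈ H, g ∉ h.U := by
  classical
  haveI : Fintype G := Fintype.ofFinite G
  obtain ⟨a, ha, b, hb, hab⟩ := Finset.one_lt_card.1 (lt_of_lt_of_le (by norm_num) h.seven)
  simp only [Finset.mem_filter, Finset.mem_univ, true_and] at ha hb
  obtain ⟨y, hy⟩ := h.exists_ne_base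
  obtain ⟨d, hdH, -, hd⟩ := h.D_trans hy ha.1 ha.2 hb.1 hb.2
  exact ⟨d, hdH, fun hm => hab (by rw [← hd, h.U_comm ha.1 ha.2 hm, mul_inv_cancel_right])⟩

/-- The Sylow 2-subgroup of `U` is a normal direct factor. -/
theorem exists_S : ∃ S : Subgroup G, S ≤ h.U ∧ IsPGroup 2 S ∧ (∀ w ∈ W, ∀ s ∈ S, w * s = s * w) ∧
    W ⊔ S = h.U ∧ (∀ a ∈ h.U, IsPGroup 2 (zpowers a) → a ∈ S) ∧ ∀ g ∈ H, ∀ s ∈ S, g * s * g⁻¹ ∈ S := by
  haveI : Fact (Nat.Prime 2) := ⟨Nat.prime_two⟩
  obtain ⟨S, hS, -⟩ := exists_isSylowIn_ge (p := 2) (A := (⊥ : Subgroup G)) (H := h.U) IsPGroup.of_bot bot_le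
  have hSH : S ≤ H := hS.le.trans h.U_le
  -- an element of prime order normalising `S`
  obtain ⟨g₁, hg₁, hg₁U⟩ := h.exists_outside
  obtain ⟨u₀, hu₀, hN⟩ := frattini hS (fun x hx => h.U_norm hg₁ hx)
  have hg₂U : u₀ * g₁ ∉ h.U := fun hm => hg₁U ((h.U.mul_mem_cancel_left hu₀).1 hm)
  have hg₂H : u₀ * g₁ ∈ H := H.mul_mem (h.U_le hu₀) hg₁
  obtain ⟨r, n, hr, hp, hU⟩ := h.exists_r hg₂H hg₂U
  haveI := Fact.mk hr
  obtain ⟨m, hm, hm1⟩ := exists_root hp (fun e => hU (e ▸ h.U.one_mem))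
  have hgn := H.pow_mem hg₂H n
  set a := ((u₀ * g₁) ^ n) ^ m with ha
  have haH : a ∈ H := H.pow_mem hgn m
  have haU : a ∉ h.U := fun hmem => hm1 (BHyp.r_mem_U h hgn hU hp hmem (isPGroup_zpowers hm))
  have haS : a ∈ normalizer (S : Set G) := Subgroup.pow_mem _ (Subgroup.pow_mem _ hN n) m
  -- the Fitting subgroup of `W`
  set F := (Cfsg.fittingSubgroup W).map W.subtype with hF
  have hFW : F ≤ W := map_subtype_le _
  have hFn : H ≤ normalizer (F : Set G) := le_normalizer_of fun g hg x hx => by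
    have hchar : (Cfsg.fittingSubgroup W).Characteristic := FittingCores.fitting_characteristic
    let φ : W ≃* W := W.normalizerMonoidHom ⟨g, h.W_normal hg⟩
    obtain ⟨y, hy, rfl⟩ := hx
    refine ⟨φ y, ?_, rfl⟩
    rw [← (Subgroup.characteristic_iff_map_eq.1 hchar) φ]
    exact ⟨y, hy, rfl⟩
  set N := S ⊔ F with hNdef
  have haN : a ∈ normalizer (N : Set G) := mem_normalizer_of fun x hx =>
    (show N.map (MulAut.conj a).toMonoidHom ≤ N by
      rw [hNdef, Subgroup.map_sup]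
      refine sup_le_sup ?_ ?_
      · rintro _ ⟨s, hs, rfl⟩; exact conj_mem_of haS hs
      · rintro _ ⟨s, hs, rfl⟩; exact conj_mem_of (hFn haH) hs) ⟨x, hx, rfl⟩
  have hfix : ∀ x ∈ N, a * x * a⁻¹ = x → x = 1 := by
    intro x hx hax
    have hx' : x ∈ ((S : Set G) * (F : Set G)) := by
      rw [← coe_mul_of_left_le_normalizer_right S F (hSH.trans hFn)]
      exact hx
    obtain ⟨s, hs, f, hf, rfl⟩ := hx'
    change a * (s * f) * a⁻¹ = s * f at hax
    show s * f = 1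
    have he : s⁻¹ * (a * s * a⁻¹) = f * (a * f * a⁻¹)⁻¹ := by
      have hax' : a * s * a⁻¹ * (a * f * a⁻¹) = s * f := by
        rw [← hax]; group
      rw [eq_mul_inv_iff_mul_eq.2 hax']
      group
    have hs1 : s⁻¹ * (a * s * a⁻¹) = 1 := by
      have h1 : s⁻¹ * (a * s * a⁻¹) ∈ S := S.mul_mem (S.inv_mem hs) (conj_mem_of haS hs)
      have h2 : s⁻¹ * (a * s * a⁻¹) ∈ W :=
        hFW (he ▸ F.mul_mem hf (F.inv_mem (conj_mem_of (hFn haH) hf)))
      obtain ⟨k, hk⟩ := IsPGroup.iff_orderOf.1 hS.isPGroup ⟨_, h1⟩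
      rw [Subgroup.orderOf_mk] at hk
      have hodd := odd_order h.W_odd h2
      rcases Nat.eq_zero_or_pos k with rfl | hk0
      · exact orderOf_eq_one_iff.1 (by rw [hk, pow_zero])
      · rw [hk] at hodd
        exact absurd hodd (Nat.not_odd_iff_even.2 (Nat.even_pow.2 ⟨even_two, hk0.ne'⟩))
    have hsc : a * s * a⁻¹ = s := (inv_mul_eq_one.1 hs1).symm
    obtain rfl : s = 1 := h.two_free haU (hSH hs) (isPGroup_of_mem hS.isPGroup hs) (commute_of_conj_eq hsc)
    rw [one_mul]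
    by_contra hf1
    obtain ⟨l, c, hl, hlc, hc1⟩ := exists_prime_pow hf1
    haveI := Fact.mk hl
    have hfc : f ^ c ∈ W := W.pow_mem (hFW hf) c
    refine h.free_elem haH haU hfc hc1 hlc ?_ ?_
    · -- elements of the Fitting subgroup are good
      by_contra hbad
      obtain ⟨y, hy, hyf⟩ := F.pow_mem hf c
      change (y : G) = f ^ c at hyf
      haveI := FittingCores.fitting_nilpotent (G := W)
      have hyl : y ^ l = 1 := Subtype.ext (by rw [SubmonoidClass.coe_pow, hyf, hlc]; rfl)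
      obtain ⟨P, hP⟩ := (isPGroup_zpowers hyl).comap_subtype.exists_le_sylow
        (G := Cfsg.fittingSubgroup W) (p := l)
      have hyO : y ∈ Cfsg.pCore l W :=
        FittingCores.sylow_le_pCore_of_nilpotent FittingCores.fitting_normal l P
          ⟨⟨y, hy⟩, hP (mem_zpowers y), rfl⟩
      set O := (Cfsg.pCore l W).map W.subtype with hO
      have hfO : f ^ c ∈ O := ⟨y, hyO, hyf⟩
      have hOn : ∀ g ∈ H, ∀ x ∈ O, g * x * g⁻¹ ∈ O := by
        intro g hg x hx
        have hchar : (Cfsg.pCore l W).Characteristic := FittingCores.pCore_characteristic l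
        let φ : W ≃* W := W.normalizerMonoidHom ⟨g, h.W_normal hg⟩
        obtain ⟨z, hz, rfl⟩ := hx
        refine ⟨φ z, ?_, rfl⟩
        rw [← (Subgroup.characteristic_iff_map_eq.1 hchar) φ]
        exact ⟨z, hz, rfl⟩
      obtain ⟨T₀, hT₀, hOT⟩ := exists_isSylowIn_ge
        ((FittingCores.pCore_isPGroup (G := W) l).map W.subtype) (map_subtype_le _)
      refine h.bad_sylow hfc hc1 (isPGroup_zpowers hlc) hbad hT₀ ?_
      exact (centralizer_le hOT).trans ((centralizer_le_normalizer _).trans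
        (h.norm O (map_subtype_le _) (fun e => hc1 (mem_bot.1 (e ▸ hfO))) hOn).le)
    · refine (((show Commute a f from ?_)).pow_right c).eq
      exact commute_of_conj_eq (by rwa [one_mul] at hax)
  let σ : MulAut N := N.normalizerMonoidHom ⟨a, haN⟩
  have hσ : σ ^ r = 1 := by
    rw [← map_pow, show (⟨a, haN⟩ : normalizer (N : Set G)) ^ r = 1 from Subtype.ext hm, map_one]
  haveI : Group.IsNilpotent N := FixedPointFreeThompson.isNilpotent σ hr hσ fun x hx =>
    Subtype.ext (hfix x x.2 (congrArg Subtype.val hx))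
  have hcent : ∀ s ∈ S, ∀ w ∈ W, s * w = w * s := by
    intro s hs w hw
    obtain ⟨k, hk⟩ := IsPGroup.iff_orderOf.1 hS.isPGroup ⟨s, hs⟩
    rw [Subgroup.orderOf_mk] at hk
    refine commute_of_fitting h.W_odd (fun x hx => h.W_norm s (hSH hs) x hx) ?_ (fun f hf => ?_) hw
    · rw [hk]; exact (Nat.coprime_two_left.2 h.W_odd).pow_left k
    · exact congrArg Subtype.val (FixedPointFreeThompson.commute_of_nilpotent (p := 2) (k := k)
        (x := (⟨s, (le_sup_left : S ≤ N) hs⟩ : N)) (g := ⟨f, (le_sup_right : F ≤ N) hf⟩)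
        (by rwa [Subgroup.orderOf_mk])
        (by rw [Subgroup.orderOf_mk]; exact Nat.coprime_two_right.2 (odd_order h.W_odd (hFW hf)))).symm
  have hsup : W ⊔ S = h.U := by
    refine le_antisymm (sup_le h.W_le_U hS.le) ?_
    haveI : (W.subgroupOf h.U).Normal := normal_subgroupOf_of_le_normalizer (h.U_le.trans h.W_normal)
    have hQ : IsPGroup 2 (h.U ⧸ W.subgroupOf h.U) := by
      intro x
      induction x using QuotientGroup.induction_on with
      | _ x =>
        obtain ⟨e, m, hm, hem⟩ := Nat.exists_eq_two_pow_mul_odd (orderOf_pos x).ne'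
        refine ⟨e, ?_⟩
        rw [← QuotientGroup.mk_pow, QuotientGroup.eq_one_iff, mem_subgroupOf]
        refine h.odd_U (x ^ 2 ^ e).2 ?_
        rw [Subgroup.orderOf_coe, orderOf_pow_of_dvd (pow_ne_zero _ two_ne_zero) (hem ▸ dvd_mul_right _ m), hem,
          Nat.mul_div_cancel_left _ (Nat.two_pow_pos e)]
        exact hm
    obtain ⟨k, hk⟩ := hQ.exists_card_eq
    have h1 : ((W ⊔ S).subgroupOf h.U).index ∣ 2 ^ k :=
      hk ▸ index_dvd_of_le (fun x hx => mem_sup_left (mem_subgroupOf.1 hx))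
    have h2 : ((W ⊔ S).subgroupOf h.U).index ∣ S.relIndex h.U :=
      index_dvd_of_le (fun x hx => mem_sup_right (mem_subgroupOf.1 hx))
    have h3 := Nat.dvd_gcd h1 h2
    rw [(((Nat.prime_two.coprime_iff_not_dvd).2 hS.2.2).pow_left k).gcd_eq_one] at h3
    exact subgroupOf_eq_top.1 (index_eq_one.1 (Nat.dvd_one.1 h3))
  have htwo : ∀ b ∈ h.U, IsPGroup 2 (zpowers b) → b ∈ S := by
    intro b hb hb2
    obtain ⟨c, hc, hcS⟩ := exists_conj_le_of_isSylowIn hS hb2 (zpowers_le.2 hb)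
    have hcn : c ∈ normalizer (S : Set G) := by
      have hle : W ⊔ S ≤ normalizer (S : Set G) := sup_le
        (fun w hw => mem_normalizer_of fun s hs => by rw [← hcent s hs w hw, mul_inv_cancel_right]; exact hs)
        le_normalizer
      exact hle (hsup ▸ hc)
    exact (mem_normalizer_iff.1 hcn b).2 (hcS ⟨b, mem_zpowers b, rfl⟩)
  refine ⟨S, hS.le, hS.isPGroup, fun w hw s hs => (hcent s hs w hw).symm, hsup, htwo, fun g hg s hs => ?_⟩
  refine htwo _ (h.U_norm hg (hS.le hs)) ?_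
  obtain ⟨k, hk⟩ := IsPGroup.iff_orderOf.1 hS.isPGroup ⟨s, hs⟩
  rw [Subgroup.orderOf_mk] at hk
  exact IsPGroup.of_card (n := k) (by rw [Nat.card_zpowers, Invol.order_conj, hk])

/-- All involutions of `H` cannot centralise `W`. -/
theorem false_of_BHyp : False := by
  classical
  haveI : Fintype G := Fintype.ofFinite G
  haveI : Fact (Nat.Prime 2) := ⟨Nat.prime_two⟩
  obtain ⟨S, hSU, hS2, hWS, hsup, htwo, hSn⟩ := h.exists_S
  obtain ⟨t, htH, ht⟩ := h.exists_invol
  have hinv : ∀ v ∈ H, orderOf v = 2 → v ∈ S := fun v hv hv2 =>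
    htwo v (h.invol_mem_U hv hv2) (IsPGroup.of_card (n := 1) (by rw [Nat.card_zpowers, hv2, pow_one]))
  have htrans : ∀ v ∈ S, orderOf v = 2 → ∃ g ∈ H, g⁻¹ * t * g = v := by
    intro v hv hv2
    obtain ⟨y, hy⟩ := h.exists_ne_base
    obtain ⟨d, hdH, -, hd⟩ := h.D_trans hy (h.U_le (hSU hv)) hv2 htH ht
    exact ⟨d, hdH, by rw [← hd]; group⟩
  have hcentral : ∀ v ∈ S, orderOf v = 2 → ∀ s ∈ S, v * s = s * v :=
    fun v hv hv2 s hs => (h.U_comm (h.U_le (hSU hv)) hv2 (hSU hs)).symm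
  have C : Cfg H W S t := ⟨h.se, h.W_le, hSU.trans h.U_le, h.W_norm, hSn, hWS, h.W_odd, hS2,
    hinv t htH ht, ht, hinv, hcentral, htrans, by rw [h.cent_eq_U htH ht, hsup]⟩
  obtain ⟨Z, hZW, hZ1, hZc, hZn, hZg⟩ := h.exists_Z
  obtain ⟨u₁, hu₁⟩ := h.exists_out
  have hm7 : 7 ≤ (vset S).card := by
    refine le_trans h.seven (Finset.card_le_card fun v hv => ?_)
    simp only [Finset.mem_filter, Finset.mem_univ, true_and] at hv
    exact mem_vset.2 ⟨hinv v hv.1 hv.2, hv.2⟩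
  have hfix : ∀ x : G, u₁⁻¹ * x * u₁ ∈ H → x • u₁ • h.base = u₁ • h.base := fun x hx => by
    have := h.base_fix.2 hx
    rwa [mul_smul, mul_smul, inv_smul_eq_iff] at this
  have hu₁b : u₁ • h.base ≠ h.base := fun e => hu₁ (h.base_fix.1 e)
  have hlin : 8 ≤ (_root_.commutator S).index := by
    have hSH : S ≤ H := hSU.trans h.U_le
    set S' := (_root_.commutator S).map S.subtype with hS'
    have hS'n : ∀ g ∈ H, ∀ x ∈ S', g * x * g⁻¹ ∈ S' := by
      intro g hg x hx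
      have hchar : (_root_.commutator S).Characteristic := inferInstance
      let φ : S ≃* S := S.normalizerMonoidHom ⟨g, le_normalizer_of hSn hg⟩
      obtain ⟨y, hy, rfl⟩ := hx
      refine ⟨φ y, ?_, rfl⟩
      rw [← (Subgroup.characteristic_iff_map_eq.1 hchar) φ]
      exact ⟨y, hy, rfl⟩
    obtain ⟨x₀, hx₀⟩ : ∃ x₀ : S, x₀ ∉ _root_.commutator S := by
      haveI : Group.IsNilpotent S := hS2.isNilpotent
      haveI : Nontrivial S := (nontrivial_iff_ne_bot S).2 fun e =>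
        Invol.ne_one ht (mem_bot.1 (e ▸ hinv t htH ht))
      exact SetLike.exists_of_lt (Group.IsSolvable.commutator_lt_top_of_nontrivial S) |>.imp fun x hx => hx.2
    -- an element outside `U` fixes no nontrivial coset
    have hno : ∀ g ∈ H, g ∉ h.U → g * (x₀ : G) * g⁻¹ * (x₀ : G)⁻¹ ∉ S' := by
      intro g hg hgU hmem
      obtain ⟨r, n, hr, hp, hU⟩ := h.exists_r hg hgU
      haveI := Fact.mk hr
      have hgn := H.pow_mem hg n
      have hall : ∀ j : ℕ, g ^ j * (x₀ : G) * (g ^ j)⁻¹ * (x₀ : G)⁻¹ ∈ S' := by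
        intro j
        induction j with
        | zero => simpa using S'.one_mem
        | succ j ih =>
          have := S'.mul_mem (hS'n g hg _ ih) hmem
          rwa [show g * (g ^ j * (x₀ : G) * (g ^ j)⁻¹ * (x₀ : G)⁻¹) * g⁻¹ *
            (g * (x₀ : G) * g⁻¹ * (x₀ : G)⁻¹) = g ^ (j + 1) * (x₀ : G) * (g ^ (j + 1))⁻¹ * (x₀ : G)⁻¹ by
              rw [pow_succ' g]; group] at this
      have hcop : (Nat.card (zpowers (g ^ n))).Coprime (Nat.card S) := by
        obtain ⟨i, hi⟩ := hp.exists_card_eq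
        obtain ⟨j, hj⟩ := hS2.exists_card_eq
        rw [hi, hj]
        exact ((Nat.coprime_primes hr Nat.prime_two).2 (h.not_two hgn hU hp)).pow i j
      obtain ⟨c, hc, hcm⟩ := CoprimeAct.exists_mem_centralizer (A := zpowers (g ^ n)) (K := S)
        (zpowers_le.2 (le_normalizer_of hSn hgn)) hcop
        (Or.inl (Group.isSolvable_of_comm fun a b => mul_comm' a b))
        (map_subtype_le _ : S' ≤ S) (hSH.trans (le_normalizer_of hS'n))
        (zpowers_le.2 (le_normalizer_of hS'n hgn)) (k := x₀) x₀.2 (fun a ha => by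
          obtain ⟨i, rfl⟩ := mem_powers_iff_mem_zpowers.2 ha
          show (g ^ n) ^ i * _ * ((g ^ n) ^ i)⁻¹ * _ ∈ S'
          rw [← pow_mul]
          exact hall _)
      obtain ⟨hcS, hcC⟩ := mem_inf.1 hc
      have hc1 : c = 1 := h.two_free hU (hSH hcS) (isPGroup_of_mem hS2 hcS)
        (mem_centralizer_iff.1 hcC (g ^ n) (mem_zpowers _))
      rw [hc1, mul_one, inv_mem_iff] at hcm
      obtain ⟨y, hy, hyx⟩ := hcm
      exact hx₀ ((Subtype.ext hyx : y = x₀) ▸ hy)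
    choose! f hf hft using htrans
    let φ : G → S ⧸ _root_.commutator S := fun v =>
      if hv : f v ∈ H then ((⟨(f v)⁻¹ * x₀ * f v, by simpa using hSn _ (inv_mem hv) x₀ x₀.2⟩ : S) :
        S ⧸ _root_.commutator S) else 1
    have hmem : ∀ z : S, z ∈ _root_.commutator S ↔ (z : G) ∈ S' := fun z =>
      ⟨fun hz => ⟨z, hz, rfl⟩, fun ⟨y, hy, hyz⟩ => (Subtype.ext hyz : y = z) ▸ hy⟩
    haveI : Fintype (S ⧸ _root_.commutator S) := Fintype.ofFinite _
    have hle : (vset S).card ≤ (Finset.univ.erase (1 : S ⧸ _root_.commutator S)).card := by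
      refine Finset.card_le_card_of_injOn φ (fun v hv => Finset.mem_erase.2 ⟨?_, Finset.mem_univ _⟩) ?_
      · have hv' := mem_vset.1 hv
        simp only [φ, dif_pos (hf v hv'.1 hv'.2)]
        rw [Ne, QuotientGroup.eq_one_iff, hmem]
        intro hm
        have := hS'n _ (hf v hv'.1 hv'.2) _ hm
        rw [show f v * ((f v)⁻¹ * (x₀ : G) * f v) * (f v)⁻¹ = x₀ by group] at this
        exact hx₀ ((hmem x₀).2 this)
      · intro v hv w hw hvw
        have hv' := mem_vset.1 (Finset.mem_coe.1 hv)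
        have hw' := mem_vset.1 (Finset.mem_coe.1 hw)
        simp only [φ, dif_pos (hf v hv'.1 hv'.2), dif_pos (hf w hw'.1 hw'.2)] at hvw
        rw [QuotientGroup.eq, hmem] at hvw
        set a := f v
        set b := f w
        have hab : b * a⁻¹ ∈ H := H.mul_mem (hf w hw'.1 hw'.2) (H.inv_mem (hf v hv'.1 hv'.2))
        by_cases hU : b * a⁻¹ ∈ h.U
        · have hc := h.U_comm htH ht hU
          rw [← hft v hv'.1 hv'.2, ← hft w hw'.1 hw'.2]
          show a⁻¹ * t * a = b⁻¹ * t * b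
          calc a⁻¹ * t * a = a⁻¹ * ((b * a⁻¹)⁻¹ * (b * a⁻¹ * t)) * a := by group
            _ = a⁻¹ * ((b * a⁻¹)⁻¹ * (t * (b * a⁻¹))) * a := by rw [hc]
            _ = _ := by group
        · exfalso
          refine hno (b * a⁻¹) hab hU ?_
          have := hS'n b (hf w hw'.1 hw'.2) _ hvw
          simp only [coe_mul, coe_inv] at this
          have h2 := S'.inv_mem this
          have h3 := hS'n (x₀ : G) (hSH x₀.2) _ h2
          rw [show (x₀ : G) * (b * ((a⁻¹ * (x₀ : G) * a)⁻¹ * (b⁻¹ * (x₀ : G) * b)) * b⁻¹)⁻¹ * (x₀ : G)⁻¹ =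
            b * a⁻¹ * (x₀ : G) * (b * a⁻¹)⁻¹ * (x₀ : G)⁻¹ by group] at h3
          exact h3
    rw [Finset.card_erase_of_mem (Finset.mem_univ _), Finset.card_univ, ← Nat.card_eq_fintype_card] at hle
    rw [index_eq_card]
    omega
  refine false_of_act (C := C) (Z := Z) (u := u₁) ⟨hlin, hm7, hZW, hZ1, hZc, hZn, ?_, hu₁, ?_, ?_⟩
  · intro g hg hgU z hz hc
    by_contra hz1
    rw [hsup] at hgU
    obtain ⟨l, k, hl, hlk, hk1⟩ := exists_prime_pow hz1
    haveI := Fact.mk hl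
    exact h.free_elem hg hgU (W.pow_mem (hZW hz) k) hk1 hlk (hZg _ (Z.pow_mem hz k) hk1)
      ((show Commute g z from hc).pow_right k).eq
  · intro x hx hxu
    rw [hsup] at hx
    exact h.odd_U hx (h.odd_of_two hu₁b (hfix x hxu) (h.base_fix.2 (h.U_le hx)))
  · intro x hx hx1 hxu z hz hc
    by_contra hz1
    obtain ⟨l, k, hl, hlk, hk1⟩ := exists_prime_pow hx1
    haveI := Fact.mk hl
    exact hu₁b (h.good_fix (W.pow_mem hx k) hk1 (isPGroup_zpowers hlk)
      (h.good_of_commute (W.pow_mem hx k) hk1 (hZW hz) ((show Commute x z from hc).pow_left k).eq.symm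
        (hZg z hz hz1))
      ((MulAction.stabilizer G (u₁ • h.base)).pow_mem (hfix x hxu) k))

end BHyp

end Cfsg.Agent.SEBrick
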