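import Cfsg.Agent.Lib.SEBrick.CaseBBadStruct

/-!
A prime dividing the index of `U` in `H` has only good elements in `W`.
-/

set_option autoImplicit false
set_option linter.style.haveILetI false
set_option linter.unusedSectionVars false

namespace Cfsg.Agent.SEBrick

open Cfsg Subgroup Cfsg.Agent.Functors

universe u

variable {G : Type u} [Group G] [Finite G] {H W : Subgroup G}

/-- A nontrivial element of prime power order has a power of prime order. -/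
theorem exists_root {q : ℕ} [hq : Fact q.Prime] {a : G} (ha : IsPGroup q (zpowers a)) (h1 : a ≠ 1) :
    ∃ n : ℕ, (a ^ n) ^ q = 1 ∧ a ^ n ≠ 1 := by
  obtain ⟨k, hk⟩ := ha.exists_card_eq
  rw [Nat.card_zpowers] at hk
  rcases Nat.eq_zero_or_pos k with rfl | hk0
  · exact absurd (orderOf_eq_one_iff.1 (by rw [hk, pow_zero])) h1
  refine ⟨q ^ (k - 1), ?_, fun e => ?_⟩
  · rw [← pow_mul, ← pow_succ, Nat.sub_add_cancel hk0, ← hk, pow_orderOf_eq_one]
  · have := orderOf_dvd_of_pow_eq_one e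
    rw [hk, Nat.pow_dvd_pow_iff_le_right hq.out.one_lt] at this
    omega

/-- An element of prime order with a nontrivial power in a subgroup lies in it. -/
theorem zpow_eq_one_of_mem {q : ℕ} [hq : Fact q.Prime] {a : G} (ha : a ^ q = 1) {K : Subgroup G}
    (haK : a ∉ K) {n : ℤ} (hn : a ^ n ∈ K) : a ^ n = 1 := by
  by_contra h1
  have ha1 : a ≠ 1 := fun e => haK (e ▸ K.one_mem)
  have hle : zpowers (a ^ n) ≤ zpowers a := zpowers_le.2 ⟨n, rfl⟩
  have h2 : (a ^ n) ^ q = 1 := by rw [← zpow_natCast, ← zpow_mul, mul_comm, zpow_mul, zpow_natCast, ha, one_zpow]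
  have heq := eq_of_le_of_card_ge hle (by
    rw [Nat.card_zpowers, Nat.card_zpowers, orderOf_eq_prime ha ha1, orderOf_eq_prime h2 h1])
  exact haK (zpowers_le.2 hn (heq ▸ mem_zpowers a))

theorem isPGroup_zpowers' {q : ℕ} [Fact q.Prime] {a : G} {k : ℕ} (ha : a ^ q ^ k = 1) :
    IsPGroup q (zpowers a) := by
  obtain ⟨j, -, hj⟩ := (Nat.dvd_prime_pow Fact.out).1 (orderOf_dvd_of_pow_eq_one ha)
  exact IsPGroup.of_card (n := j) (by rw [Nat.card_zpowers, hj])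

theorem conj_eq_of_commute {a b : G} (h : a * b = b * a) : a * b * a⁻¹ = b := by
  rw [h, mul_inv_cancel_right]

theorem commute_of_conj_eq {a b : G} (h : a * b * a⁻¹ = b) : a * b = b * a :=
  mul_inv_eq_iff_eq_mul.1 h

theorem conj_zpow' {a b : G} (n : ℤ) : a * b ^ n * a⁻¹ = (a * b * a⁻¹) ^ n :=
  (conj_zpow).symm

namespace BHyp

variable (h : BHyp H W)
include h

namespace TData

variable {q : ℕ} [hq : Fact q.Prime] {u : G} {T : Subgroup G} (D : h.TData q u T)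
include D

theorem conj_into {R : Subgroup G} (hR : IsPGroup q R) (hRH : R ≤ H) :
    ∃ d ∈ H, ∀ r ∈ R, d * r * d⁻¹ ∈ T := by
  obtain ⟨d, hd, hle⟩ := exists_conj_le_of_isSylowIn D.sylow hR hRH
  exact ⟨d, hd, fun r hr => hle ⟨r, hr, rfl⟩⟩

theorem abelian {R : Subgroup G} (hR : IsPGroup q R) (hRH : R ≤ H) {a b : G} (ha : a ∈ R) (hb : b ∈ R) :
    a * b = b * a := by
  obtain ⟨d, -, hd⟩ := TData.conj_into h D hR hRH
  have := D.comm _ (hd a ha) _ (hd b hb)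
  rw [show d * a * d⁻¹ * (d * b * d⁻¹) = d * (a * b) * d⁻¹ by group,
    show d * b * d⁻¹ * (d * a * d⁻¹) = d * (b * a) * d⁻¹ by group] at this
  exact (mul_right_inj d).1 ((mul_left_inj d⁻¹).1 this)

theorem memW {ω x : G} (hω : ω ∈ W) (hωq : ω ^ q = 1) (hω1 : ω ≠ 1) (hx : x ∈ W) (hxq : x ^ q = 1)
    (hc : ω * x = x * ω) : x ∈ zpowers ω := by
  have hs : ∀ a ∈ ({ω, x} : Set G), ∀ b ∈ ({ω, x} : Set G), a * b = b * a := by
    rintro a (rfl | rfl) b (rfl | rfl)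
    · rfl
    · exact hc
    · exact hc.symm
    · rfl
  obtain ⟨d, hd, hdT⟩ := TData.conj_into h D (isPGroup_closure hs (by rintro a (rfl | rfl) <;> assumption))
    ((closure_le _).2 (by rintro a (rfl | rfl) <;> exact h.W_le ‹_›))
  have hm : ∀ a ∈ W, a ∈ ({ω, x} : Set G) → d * a * d⁻¹ ∈ T ⊓ W := fun a haW ha =>
    ⟨hdT a (subset_closure ha), h.W_norm d hd a haW⟩
  haveI := D.cyclicW
  obtain ⟨i, hi⟩ := mem_zpowers_of_cyclic (q := q)
    (a := (⟨_, hm x hx (Or.inr rfl)⟩ : (T ⊓ W : Subgroup G))) (b := ⟨_, hm ω hω (Or.inl rfl)⟩)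
    (Subtype.ext (by show (d * x * d⁻¹) ^ q = 1; rw [conj_pow, hxq]; group))
    (Subtype.ext (by show (d * ω * d⁻¹) ^ q = 1; rw [conj_pow, hωq]; group))
    (fun e => hω1 (conj_eq_one_iff.1 (congrArg Subtype.val e)))
  have hi' : (d * ω * d⁻¹) ^ i = d * x * d⁻¹ := congrArg Subtype.val hi
  rw [conj_zpow, mul_left_inj, mul_right_inj] at hi'
  exact ⟨i, hi'⟩

theorem mem_span {ω e x : G} (hω : ω ∈ W) (hωq : ω ^ q = 1) (hω1 : ω ≠ 1) (he : e ∈ H) (heW : e ∉ W)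
    (heq : e ^ q = 1) (hx : x ∈ H) (hxq : x ^ q = 1) (hωe : ω * e = e * ω) (hωx : ω * x = x * ω)
    (hex : e * x = x * e) : ∃ i j : ℤ, x = ω ^ i * e ^ j := by
  have hs : ∀ a ∈ ({e, x} : Set G), ∀ b ∈ ({e, x} : Set G), a * b = b * a := by
    rintro a (rfl | rfl) b (rfl | rfl)
    · rfl
    · exact hex
    · exact hex.symm
    · rfl
  obtain ⟨d, hd, hdT⟩ := TData.conj_into h D (isPGroup_closure hs (by rintro a (rfl | rfl) <;> assumption))
    ((closure_le _).2 (by rintro a (rfl | rfl) <;> assumption))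
  obtain ⟨j, hj⟩ := D.root _ (hdT e (subset_closure (Or.inl rfl)))
    (fun hm => heW (by simpa [mul_assoc] using h.W_norm d⁻¹ (inv_mem hd) _ hm))
    (by rw [conj_pow, heq]; group) _ (hdT x (subset_closure (Or.inr rfl))) (by rw [conj_pow, hxq]; group)
  rw [conj_zpow, show d * x * d⁻¹ * (d * e ^ j * d⁻¹)⁻¹ = d * (x * (e ^ j)⁻¹) * d⁻¹ by group] at hj
  have hmem : x * (e ^ j)⁻¹ ∈ W := by simpa [mul_assoc] using h.W_norm d⁻¹ (inv_mem hd) _ hj
  obtain ⟨i, hi⟩ := TData.memW h D hω hωq hω1 hmem (by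
    have hc : Commute x (e ^ j)⁻¹ := ((show Commute x e from hex.symm).zpow_right j).inv_right
    rw [hc.mul_pow, hxq, one_mul, inv_pow, ← zpow_natCast, ← zpow_mul, mul_comm, zpow_mul, zpow_natCast,
      heq, one_zpow, inv_one])
    ((show Commute ω x from hωx).mul_right ((show Commute ω e from hωe).zpow_right j).inv_right).eq
  exact ⟨i, j, by rw [show ω ^ i = x * (e ^ j)⁻¹ from hi, inv_mul_cancel_right]⟩

theorem exists_u {ω e : G} (hω : ω ∈ W) (hωq : ω ^ q = 1) (he : e ∈ H) (heq : e ^ q = 1)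
    (hωe : ω * e = e * ω) :
    ∃ v : G, orderOf v = 2 ∧ v ∉ H ∧ v * ω * v⁻¹ = ω ∧ v * e * v⁻¹ * e ∈ W ∧
      v * e * v⁻¹ ∈ H ∧ (v * e * v⁻¹) ^ q = 1 ∧ (v * e * v⁻¹) * e = e * (v * e * v⁻¹) := by
  have hs : ∀ a ∈ ({ω, e} : Set G), ∀ b ∈ ({ω, e} : Set G), a * b = b * a := by
    rintro a (rfl | rfl) b (rfl | rfl)
    · rfl
    · exact hωe
    · exact hωe.symm
    · rfl
  obtain ⟨d, hd, hdT⟩ := TData.conj_into h D (isPGroup_closure hs (by rintro a (rfl | rfl) <;> assumption))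
    ((closure_le _).2 (by rintro a (rfl | rfl); exacts [h.W_le hω, he]))
  have h1 := D.fixW _ (hdT ω (subset_closure (Or.inl rfl))) (h.W_norm d hd ω hω)
  have h2 := D.inverts _ (hdT e (subset_closure (Or.inr rfl)))
  have h3 := D.conj _ (hdT e (subset_closure (Or.inr rfl)))
  refine ⟨d⁻¹ * u * d⁻¹⁻¹, (Invol.order_conj _ u).trans D.inv, fun hm => D.u_not ?_, ?_, ?_, ?_, ?_, ?_⟩
  · have := H.mul_mem (H.mul_mem hd hm) (H.inv_mem hd)
    simpa [mul_assoc] using this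
  · calc d⁻¹ * u * d⁻¹⁻¹ * ω * (d⁻¹ * u * d⁻¹⁻¹)⁻¹ = d⁻¹ * (u * (d * ω * d⁻¹) * u⁻¹) * d := by group
      _ = _ := by rw [h1]; group
  · rw [show d⁻¹ * u * d⁻¹⁻¹ * e * (d⁻¹ * u * d⁻¹⁻¹)⁻¹ * e
      = d⁻¹ * (u * (d * e * d⁻¹) * u⁻¹ * (d * e * d⁻¹)) * d⁻¹⁻¹ by group]
    exact h.W_norm _ (inv_mem hd) _ h2
  · rw [show d⁻¹ * u * d⁻¹⁻¹ * e * (d⁻¹ * u * d⁻¹⁻¹)⁻¹ = d⁻¹ * (u * (d * e * d⁻¹) * u⁻¹) * d by group]
    exact H.mul_mem (H.mul_mem (H.inv_mem hd) (D.sylow.le h3)) hd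
  · rw [conj_pow, heq]; group
  · have hc := D.comm _ h3 _ (hdT e (subset_closure (Or.inr rfl)))
    calc d⁻¹ * u * d⁻¹⁻¹ * e * (d⁻¹ * u * d⁻¹⁻¹)⁻¹ * e
        = d⁻¹ * (u * (d * e * d⁻¹) * u⁻¹ * (d * e * d⁻¹)) * d := by group
      _ = _ := by rw [hc]; group

/-- An element of order `q` outside `W` inverted by an involution outside `H`. -/
theorem exists_inverted {e₀ : G} (he₀ : e₀ ∈ H) (he₀q : IsPGroup q (zpowers e₀)) (he₀U : e₀ ∉ h.U)
    (hq2 : q ≠ 2) : ∃ ω e : G, ω ∈ W ∧ ω ^ q = 1 ∧ ω ≠ 1 ∧ e ∈ H ∧ e ∉ W ∧ e ^ q = 1 ∧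
      ω * e = e * ω ∧ u * ω * u⁻¹ = ω ∧ u * e * u⁻¹ = e⁻¹ := by
  obtain ⟨d, hd, hdT⟩ := TData.conj_into h D he₀q (zpowers_le.2 he₀)
  set t := d * e₀ * d⁻¹ with ht
  have htT : t ∈ T := hdT e₀ (mem_zpowers e₀)
  have htU : t ∉ h.U := fun hm => he₀U (by
    have := h.U_norm (inv_mem hd) hm
    simpa [ht, mul_assoc] using this)
  set s := t⁻¹ * (u * t * u⁻¹) with hs
  have hsT : s ∈ T := T.mul_mem (T.inv_mem htT) (D.conj t htT)
  have hui : u⁻¹ = u := Invol.inv_self D.inv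
  have husu : u * s * u⁻¹ = s⁻¹ := by
    rw [hs, show u * (t⁻¹ * (u * t * u⁻¹)) * u⁻¹ = (u * t⁻¹ * u⁻¹) * ((u * u) * t * (u * u)⁻¹) by group,
      Invol.mul_self D.inv]
    group
  have hodd : ∀ a ∈ T, Odd (orderOf a) := fun a ha => by
    obtain ⟨k, hk⟩ := (IsPGroup.iff_orderOf.1 D.sylow.isPGroup) ⟨a, ha⟩
    rw [Subgroup.orderOf_mk] at hk
    exact hk ▸ (hq.out.odd_of_ne_two hq2).pow
  have hinvfix : ∀ a ∈ T, a ∈ W → u * a * u⁻¹ = a⁻¹ → a = 1 := fun a ha haW e =>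
    Invol.eq_one_of_sq_of_odd (hodd a ha) (by
      rw [pow_two]; nth_rw 1 [← D.fixW a ha haW, e]; exact inv_mul_cancel a)
  have hs1 : s ≠ 1 := fun e => htU (h.W_le_U (by
    have h2 := D.inverts t htT
    rw [hs, inv_mul_eq_one] at e
    rw [← e] at h2
    obtain ⟨k, hk⟩ := hodd t htT
    have h3 : t ^ (2 * (k + 1)) ∈ W := by
      rw [pow_mul, pow_two]; exact W.pow_mem h2 _
    rwa [show 2 * (k + 1) = orderOf t + 1 by omega, pow_succ, pow_orderOf_eq_one, one_mul] at h3))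
  obtain ⟨n, hn, hn1⟩ := exists_root (D.sylow.isPGroup.to_le (zpowers_le.2 hsT)) hs1
  have hsn : u * s ^ n * u⁻¹ = (s ^ n)⁻¹ := by rw [← conj_pow, husu, inv_pow]
  obtain ⟨ω₀, hω₀, hω₀1⟩ := (Subgroup.bot_or_exists_ne_one (T ⊓ W)).resolve_left D.meet
  obtain ⟨k, hk, hk1⟩ := exists_root (D.sylow.isPGroup.to_le (zpowers_le.2 hω₀.1)) hω₀1
  refine ⟨ω₀ ^ k, s ^ n, W.pow_mem hω₀.2 k, hk, hk1, D.sylow.le (T.pow_mem hsT n),
    fun hm => hn1 (hinvfix _ (T.pow_mem hsT n) hm hsn), hn, D.comm _ (T.pow_mem hω₀.1 k) _ (T.pow_mem hsT n),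
    D.fixW _ (T.pow_mem hω₀.1 k) (W.pow_mem hω₀.2 k), hsn⟩

/-- A `q`-element of `W` lies in the conjugates of `W` at all its fixed points. -/
theorem fix_Wat (hq2 : q ≠ 2) {w : G} (hw : w ∈ W) (hwq : IsPGroup q (zpowers w)) {x : G ⧸ H}
    (hx : x ≠ h.base) (hwx : w • x = x) : w ∈ Wat W x := by
  rcases eq_or_ne w 1 with rfl | hw1
  · exact (Wat W x).one_mem
  obtain ⟨v, R, hv, hvb, hvx, hwR, hRp, hRH, hRx, hvR, -⟩ := h.exists_swap_sylow hx (h.W_le hw) hwx hwq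
  obtain ⟨n, hωq, hω1⟩ := exists_root hwq hw1
  set ω := w ^ n with hωdef
  have hωW : ω ∈ W := W.pow_mem hw n
  have hωR : ω ∈ R := R.pow_mem hwR n
  have hvv : ∀ a : G, v * (v * a * v⁻¹) * v⁻¹ = a := fun a => by
    rw [show v * (v * a * v⁻¹) * v⁻¹ = (v * v) * a * (v * v)⁻¹ by group, Invol.mul_self hv]; simp
  set ω' := v * ω * v⁻¹ with hω'
  have hω'R : ω' ∈ R := hvR ω hωR
  have hω'q : ω' ^ q = 1 := by rw [hω', conj_pow, hωq]; group
  have hωω' : ω * ω' = ω' * ω := TData.abelian h D hRp hRH hωR hω'R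
  by_cases hω'W : ω' ∈ W
  · -- a common element: pass to the normaliser of its group
    set L := normalizer ((zpowers ω : Subgroup G) : Set G) with hL
    have hvL : v ∈ L := mem_normalizer_of fun a ha => by
      obtain ⟨i, rfl⟩ := ha
      show v * ω ^ i * v⁻¹ ∈ zpowers ω
      rw [conj_zpow']
      exact zpow_mem (TData.memW h D hωW hωq hω1 hω'W hω'q hωω') i
    have hLH : ¬ L ≤ H := fun hle => hx (hvb ▸ h.base_fix.2 (hle hvL))
    have hcL : ∀ a : G, a * ω = ω * a → a ∈ L := fun a ha => mem_normalizer_of fun b hb => by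
      obtain ⟨i, rfl⟩ := hb
      show a * ω ^ i * a⁻¹ ∈ zpowers ω
      rw [conj_zpow', conj_eq_of_commute ha]
      exact zpow_mem (mem_zpowers ω) i
    obtain ⟨-, -, hWat, -⟩ := h.local_L
      (h.toMin.normalizer_ne_top (zpowers_ne_bot.2 hω1) (odd_of_le h.W_odd (zpowers_le.2 hωW)))
      (fun a ha ha2 => hcL a (h.cent a ha ha2 ω hωW).symm) hLH
    obtain ⟨t, htH, ht⟩ := h.exists_invol
    refine (hWat (v * t * v⁻¹) (L.mul_mem (L.mul_mem hvL (hcL t (h.cent t htH ht ω hωW).symm)) (L.inv_mem hvL))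
      ((Invol.order_conj v t).trans ht) x ?_ w (hcL w ((Commute.refl w).pow_right n).eq)).2 hw
    rw [Invol.inv_self hv, mul_smul, mul_smul, hvx, h.base_fix.2 htH, hvb]
  · exfalso
    obtain ⟨u₁, hu₁, -, hu₁ω, hu₁W, hu₁H, hu₁q, hu₁c⟩ :=
      TData.exists_u h D hωW hωq (hRH hω'R) hω'q hωω'
    set ω'' := u₁ * ω' * u₁⁻¹ with hω''
    set g := u₁ * v with hg
    have hgω : g * ω * g⁻¹ = ω'' := by rw [hω'', hω', hg]; group
    have hgω' : g * ω' * g⁻¹ = ω := by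
      rw [hg, show u₁ * v * ω' * (u₁ * v)⁻¹ = u₁ * (v * ω' * v⁻¹) * u₁⁻¹ by group, hω', hvv, hu₁ω]
    have hωω'' : ω * ω'' = ω'' * ω := by
      nth_rw 1 2 [← hu₁ω]
      rw [hω'']
      calc u₁ * ω * u₁⁻¹ * (u₁ * ω' * u₁⁻¹) = u₁ * (ω * ω') * u₁⁻¹ := by group
        _ = _ := by rw [hωω']; group
    have hgH : g ∉ H := fun hm => hω'W (by
      have := h.W_norm g hm ω hωW
      rw [hgω] at this
      exact (W.mul_mem_cancel_left this).1 hu₁W)
    have hx₁ : g • h.base ≠ h.base := fun e => hgH (h.base_fix.1 e)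
    have hfix : ∀ a : G, g⁻¹ * a * g ∈ H → a • g • h.base = g • h.base := fun a ha => by
      have := h.base_fix.2 ha
      rwa [mul_smul, mul_smul, inv_smul_eq_iff] at this
    obtain ⟨i, hi⟩ := TData.memW h D hωW hωq hω1 hu₁W (by
        rw [(show Commute ω'' ω' from hu₁c).mul_pow, hu₁q, hω'q, one_mul])
      ((show Commute ω ω'' from hωω'').mul_right hωω').eq
    change ω ^ i = ω'' * ω' at hi
    have hωfix : ω • g • h.base = g • h.base := hfix ω (by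
      rw [show g⁻¹ * ω * g = ω' by nth_rw 1 [← hgω']; group]; exact hRH hω'R)
    have hω'fix : ω' • g • h.base = g • h.base := by
      have h2 : ω'' • g • h.base = g • h.base := hfix ω'' (by
        rw [← hgω, show g⁻¹ * (g * ω * g⁻¹) * g = ω by group]; exact h.W_le hωW)
      rw [show ω' = ω''⁻¹ * ω ^ i by rw [hi]; group, mul_smul, inv_smul_eq_iff, h2]
      exact (zpowers_le.2 (show ω ∈ MulAction.stabilizer G (g • h.base) from hωfix)) ⟨i, rfl⟩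
    have hs : ∀ a ∈ ({ω, ω'} : Set G), ∀ b ∈ ({ω, ω'} : Set G), a * b = b * a := by
      rintro a (rfl | rfl) b (rfl | rfl)
      · rfl
      · exact hωω'
      · exact hωω'.symm
      · rfl
    obtain ⟨w₀, R', hw₀, hw₀b, hw₀x, hAR, hR'p, hR'H, -, hw₀R, -⟩ := h.exists_swap_sylow_ge hx₁
      (A := closure {ω, ω'}) ((closure_le _).2 (by rintro a (rfl | rfl); exacts [h.W_le hωW, hRH hω'R]))
      (fun a ha => ((closure_le (MulAction.stabilizer G (g • h.base))).2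
        (by rintro b (rfl | rfl); exacts [hωfix, hω'fix])) ha)
      (isPGroup_closure hs (by rintro a (rfl | rfl) <;> assumption))
    have hωR' : ω ∈ R' := hAR (subset_closure (Or.inl rfl))
    have hω'R' : ω' ∈ R' := hAR (subset_closure (Or.inr rfl))
    set k₀ := w₀ * g with hk₀
    have hk₀H : k₀ ∈ H := h.base_fix.1 (by rw [hk₀, mul_smul, hw₀x])
    set a := w₀ * ω * w₀⁻¹ with ha
    have haR : a ∈ R' := hw₀R ω hωR'
    have haq : a ^ q = 1 := by rw [ha, conj_pow, hωq]; group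
    have hk₀ω' : k₀ * ω' * k₀⁻¹ = a := by
      rw [hk₀, show w₀ * g * ω' * (w₀ * g)⁻¹ = w₀ * (g * ω' * g⁻¹) * w₀⁻¹ by group, hgω']
    have haW' : a * ω'⁻¹ ∈ W := by
      refine h.odd_U ?_ ?_
      · rw [← hk₀ω']; exact D.quot k₀ hk₀H ω' (hR'H hω'R')
      · obtain ⟨j, hj⟩ := (IsPGroup.iff_orderOf.1 hR'p) ⟨_, R'.mul_mem haR (R'.inv_mem hω'R')⟩
        rw [Subgroup.orderOf_mk] at hj
        exact hj ▸ (hq.out.odd_of_ne_two hq2).pow
    obtain ⟨k, hk⟩ := TData.memW h D hωW hωq hω1 haW' (by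
        rw [(show Commute a ω'⁻¹ from TData.abelian h D hR'p hR'H haR (R'.inv_mem hω'R')).mul_pow, haq,
          inv_pow, hω'q, inv_one, one_mul])
      (TData.abelian h D hR'p hR'H hωR' (R'.mul_mem haR (R'.inv_mem hω'R')))
    change ω ^ k = a * ω'⁻¹ at hk
    have hak : a = ω ^ k * ω' := by rw [hk, inv_mul_cancel_right]
    have haW : a ∉ W := fun hm => hω'W ((W.mul_mem_cancel_left (W.zpow_mem hωW k)).1 (hak ▸ hm))
    have hw₀w₀ : w₀ * a * w₀⁻¹ = ω := by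
      rw [ha, show w₀ * (w₀ * ω * w₀⁻¹) * w₀⁻¹ = (w₀ * w₀) * ω * (w₀ * w₀)⁻¹ by group, Invol.mul_self hw₀]
      simp
    set b := w₀ * ω' * w₀⁻¹ with hb
    have hωab : ω = a ^ k * b := by
      nth_rw 1 [← hw₀w₀]
      rw [hak, show w₀ * (ω ^ k * ω') * w₀⁻¹ = (w₀ * ω ^ k * w₀⁻¹) * (w₀ * ω' * w₀⁻¹) by group, conj_zpow',
        ← ha, ← hb, ← hak]
    have hk₀ω : k₀ * ω * k₀⁻¹ = a ^ (i + k) * ω⁻¹ := by
      have hc : Commute a ω := TData.abelian h D hR'p hR'H haR hωR'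
      rw [hk₀, show w₀ * g * ω * (w₀ * g)⁻¹ = w₀ * (g * ω * g⁻¹) * w₀⁻¹ by group, hgω,
        show ω'' = ω ^ i * ω'⁻¹ by rw [hi, mul_inv_cancel_right],
        show w₀ * (ω ^ i * ω'⁻¹) * w₀⁻¹ = (w₀ * ω ^ i * w₀⁻¹) * (w₀ * ω' * w₀⁻¹)⁻¹ by group, conj_zpow',
        ← ha, ← hb, show b = (a ^ k)⁻¹ * ω by nth_rw 1 [hωab]; group]
      rw [mul_inv_rev, inv_inv, ← mul_assoc, zpow_add, mul_assoc, mul_assoc,
        ((hc.zpow_left k).inv_right).eq]
    have hmem := h.W_norm k₀ hk₀H ω hωW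
    rw [hk₀ω] at hmem
    have hone : a ^ (i + k) = 1 :=
      zpow_eq_one_of_mem haq haW ((W.mul_mem_cancel_right (W.inv_mem hωW)).1 hmem)
    rw [hone, one_mul] at hk₀ω
    -- a 2-element inverting `ω` and centralising `ω'` modulo `W`
    obtain ⟨e, r, hr, her⟩ := Nat.exists_eq_two_pow_mul_odd (orderOf_pos k₀).ne'
    have hinv : k₀ ^ r * ω * (k₀ ^ r)⁻¹ = ω⁻¹ := by
      have h2 : Commute (k₀ * k₀) ω := commute_of_conj_eq (by
        calc k₀ * k₀ * ω * (k₀ * k₀)⁻¹ = k₀ * (k₀ * ω * k₀⁻¹) * k₀⁻¹ := by group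
          _ = k₀ * ω⁻¹ * k₀⁻¹ := by rw [hk₀ω]
          _ = (k₀ * ω * k₀⁻¹)⁻¹ := by group
          _ = ω := by rw [hk₀ω, inv_inv])
      obtain ⟨j, hj⟩ := hr
      rw [hj, pow_succ, pow_mul, pow_two,
        show (k₀ * k₀) ^ j * k₀ * ω * ((k₀ * k₀) ^ j * k₀)⁻¹ =
          (k₀ * k₀) ^ j * (k₀ * ω * k₀⁻¹) * ((k₀ * k₀) ^ j)⁻¹ by group, hk₀ω,
        conj_eq_of_commute ((h2.pow_left j).inv_right).eq]
    have hmod : ∀ m : ℕ, k₀ ^ m * ω' * (k₀ ^ m)⁻¹ * ω'⁻¹ ∈ W := by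
      intro m
      induction m with
      | zero => simpa using W.one_mem
      | succ m ih =>
        have h1 : k₀ * ω' * k₀⁻¹ * ω'⁻¹ ∈ W := by rw [hk₀ω']; exact haW'
        have := W.mul_mem (h.W_norm k₀ hk₀H _ ih) h1
        rwa [show k₀ * (k₀ ^ m * ω' * (k₀ ^ m)⁻¹ * ω'⁻¹) * k₀⁻¹ * (k₀ * ω' * k₀⁻¹ * ω'⁻¹) =
          k₀ ^ (m + 1) * ω' * (k₀ ^ (m + 1))⁻¹ * ω'⁻¹ by rw [pow_succ' k₀ m]; group] at this
    have hord : orderOf (k₀ ^ r) = 2 ^ e := by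
      rw [orderOf_pow_of_dvd (by rcases hr with ⟨j, hj⟩; omega) (her ▸ dvd_mul_left r _), her,
        Nat.mul_div_cancel _ (by rcases hr with ⟨j, hj⟩; omega)]
    have hne : k₀ ^ r ≠ 1 := fun e1 => by
      rw [e1, one_mul, inv_one, mul_one] at hinv
      exact hω1 (Invol.eq_one_of_sq_of_odd (odd_order h.W_odd hωW)
        (by rw [pow_two]; nth_rw 1 [hinv]; exact inv_mul_cancel ω))
    refine hω'W (h.cit (H.pow_mem hk₀H r) hord hne (hRH hω'R) ?_ ?_)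
    · obtain ⟨j, hj⟩ := (IsPGroup.iff_orderOf.1 hRp) ⟨ω', hω'R⟩
      rw [Subgroup.orderOf_mk] at hj
      exact hj ▸ (hq.out.odd_of_ne_two hq2).pow
    · have := h.W_norm _ (H.inv_mem (H.pow_mem hk₀H r)) _ (W.inv_mem (hmod r))
      rwa [show (k₀ ^ r)⁻¹ * (k₀ ^ r * ω' * (k₀ ^ r)⁻¹ * ω'⁻¹)⁻¹ * (k₀ ^ r)⁻¹⁻¹ =
        (k₀ ^ r)⁻¹ * (ω' * k₀ ^ r * ω'⁻¹) by group] at this

/-- A `q`-element of a conjugate of `W` fixing the base point lies in `W`. -/
theorem bad_at (hq2 : q ≠ 2) {a : G} (ha : a ∈ H) (haq : IsPGroup q (zpowers a)) {c : G ⧸ H}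
    (hc : a ∈ Wat W c) : a ∈ W := by
  induction c using QuotientGroup.induction_on with
  | _ k =>
    set y := k⁻¹ * a * k with hy
    have hyW : y ∈ W := h.mem_Wat.1 hc
    by_cases hkH : k ∈ H
    · have := h.W_norm k hkH y hyW
      rwa [hy, show k * (k⁻¹ * a * k) * k⁻¹ = a by group] at this
    have hyq : IsPGroup q (zpowers y) := by
      obtain ⟨j, hj⟩ := haq.exists_card_eq
      refine IsPGroup.of_card (n := j) ?_
      rw [Nat.card_zpowers] at hj ⊢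
      rw [hy, show k⁻¹ * a * k = k⁻¹ * a * k⁻¹⁻¹ by group, Invol.order_conj, hj]
    have hne : k⁻¹ • h.base ≠ h.base := fun e => hkH (inv_mem_iff.1 (h.base_fix.1 e))
    have hyfix : y • k⁻¹ • h.base = k⁻¹ • h.base := by
      rw [← mul_smul, hy, show k⁻¹ * a * k * k⁻¹ = k⁻¹ * a by group, mul_smul, h.base_fix.2 ha]
    have := TData.fix_Wat h D hq2 hyW hyq hne hyfix
    have h2 := (h.Wat_smul (a := k)).2 this
    rw [← mul_smul, mul_inv_cancel, one_smul, hy, show k * (k⁻¹ * a * k) * k⁻¹ = a by group] at h2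
    exact h.mem_Wat_base.1 h2

/-- An element of order `q` outside `W` commutes with no involution. -/
theorem odd_cent (hq2 : q ≠ 2) {a : G} (ha : a ∈ H) (haW : a ∉ W) (haq : a ^ q = 1) :
    Odd (Nat.card (centralizer ({a} : Set G))) := by
  refine odd_card_of_orders fun i hi hi2 => ?_
  obtain ⟨c, hc⟩ := Invol.se_exists_fix h.se hi2
  have hodd : Odd (orderOf a) := by
    rw [orderOf_eq_prime haq fun e => haW (e ▸ W.one_mem)]
    exact hq.out.odd_of_ne_two hq2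
  exact haW (TData.bad_at h D hq2 ha (isPGroup_zpowers haq)
    (h.core_at hi2 hc hodd (mem_centralizer_singleton_iff.1 hi).symm))

/-- A swapping involution centralising `ω` inverts `e` as soon as it does so modulo `ω`. -/
theorem unipotent (hq2 : q ≠ 2) {ω e : G} (hω : ω ∈ W) (hωq : ω ^ q = 1) (hω1 : ω ≠ 1) (he : e ∈ H)
    (heW : e ∉ W) (heq : e ^ q = 1) (hωe : ω * e = e * ω) {u₁ : G} (hu₁ : orderOf u₁ = 2)
    (hu₁H : u₁ ∉ H) (hu₁ω : u₁ * ω * u₁⁻¹ = ω) (hu₁e : u₁ * e * u₁⁻¹ = e⁻¹) {x : G ⧸ H}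
    (hx : x ≠ h.base) {v : G} (hv : orderOf v = 2) (hvb : v • h.base = x) (hvω : v * ω * v⁻¹ = ω)
    (hve : v * e * v⁻¹ * e ∈ zpowers ω) : v * e * v⁻¹ = e⁻¹ := by
  obtain ⟨b, hb⟩ := hve
  change ω ^ b = v * e * v⁻¹ * e at hb
  suffices hb1 : ω ^ b = 1 by rw [hb1] at hb; exact eq_inv_of_mul_eq_one_left hb.symm
  have hbq : (ω ^ b) ^ q = 1 := by
    rw [← zpow_natCast, ← zpow_mul, mul_comm, zpow_mul, zpow_natCast, hωq, one_zpow]
  set g := u₁ * v with hg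
  have hgω : g * ω * g⁻¹ = ω := by
    rw [hg, show u₁ * v * ω * (u₁ * v)⁻¹ = u₁ * (v * ω * v⁻¹) * u₁⁻¹ by group, hvω, hu₁ω]
  have hge : g * e * g⁻¹ = ω ^ b * e := by
    rw [hg, show u₁ * v * e * (u₁ * v)⁻¹ = (u₁ * (v * e * v⁻¹ * e) * u₁⁻¹) * (u₁ * e * u₁⁻¹)⁻¹ by group,
      ← hb, conj_zpow', hu₁ω, hu₁e, inv_inv]
  have hs : ∀ a ∈ ({ω, e} : Set G), ∀ c ∈ ({ω, e} : Set G), a * c = c * a := by
    rintro a (rfl | rfl) c (rfl | rfl)
    · rfl
    · exact hωe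
    · exact hωe.symm
    · rfl
  set E := closure ({ω, e} : Set G) with hE
  have hωE : ω ∈ E := subset_closure (Or.inl rfl)
  have heE : e ∈ E := subset_closure (Or.inr rfl)
  have hEp : IsPGroup q E := isPGroup_closure hs (by rintro a (rfl | rfl) <;> assumption)
  have hEH : E ≤ H := (closure_le _).2 (by rintro a (rfl | rfl); exacts [h.W_le hω, he])
  by_cases hgH : g ∈ H
  · -- the `q`-part of `g` commutes with `e`
    have key : ∀ n : ℕ, g ^ n * e * (g ^ n)⁻¹ = (ω ^ b) ^ n * e := by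
      intro n
      induction n with
      | zero => simp
      | succ n ih =>
        rw [pow_succ' g, show g * g ^ n * e * (g * g ^ n)⁻¹ = g * (g ^ n * e * (g ^ n)⁻¹) * g⁻¹ by group, ih,
          show g * ((ω ^ b) ^ n * e) * g⁻¹ = (g * (ω ^ b) ^ n * g⁻¹) * (g * e * g⁻¹) by group, ← conj_pow,
          conj_zpow', hgω, hge, pow_succ, mul_assoc]
    obtain ⟨k, r, hr, hkr⟩ := Nat.exists_eq_pow_mul_and_not_dvd (orderOf_pos g).ne' q hq.out.ne_one
    have hg₁ : IsPGroup q (zpowers (g ^ r)) := isPGroup_zpowers' (k := k) (by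
      rw [← pow_mul, mul_comm, ← hkr, pow_orderOf_eq_one])
    have hgE : zpowers (g ^ r) ≤ normalizer (E : Set G) := zpowers_le.2 (pow_mem (mem_normalizer_of fun a ha =>
      (show E.map (MulAut.conj g).toMonoidHom ≤ E by
        rw [hE, MonoidHom.map_closure, closure_le]
        rintro _ ⟨a, ha', rfl⟩
        rcases ha' with ha' | ha' <;> rw [ha']
        · show g * ω * g⁻¹ ∈ E
          rw [hgω]; exact hωE
        · show g * e * g⁻¹ ∈ E
          rw [hge]; exact E.mul_mem (E.zpow_mem hωE b) heE) ⟨a, ha, rfl⟩) r)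
    have hc := TData.abelian h D (hEp.to_sup_of_normal_left' hg₁ hgE)
      (sup_le hEH (zpowers_le.2 (H.pow_mem hgH r))) (mem_sup_right (mem_zpowers (g ^ r))) (mem_sup_left heE)
    have h1 := key r
    rw [hc, mul_inv_cancel_right, right_eq_mul] at h1
    have h2 := Nat.dvd_gcd (orderOf_dvd_of_pow_eq_one hbq) (orderOf_dvd_of_pow_eq_one h1)
    rw [(hq.out.coprime_iff_not_dvd.2 hr).gcd_eq_one] at h2
    exact orderOf_eq_one_iff.1 (Nat.dvd_one.1 h2)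
  · exfalso
    have hx₁ : g • h.base ≠ h.base := fun e' => hgH (h.base_fix.1 e')
    have hfix : ∀ a : G, g⁻¹ * a * g ∈ H → a • g • h.base = g • h.base := fun a ha => by
      have := h.base_fix.2 ha
      rwa [mul_smul, mul_smul, inv_smul_eq_iff] at this
    have hgω' : g⁻¹ * ω * g = ω := by nth_rw 1 [← hgω]; group
    have hωfix : ω • g • h.base = g • h.base := hfix ω (by rw [hgω']; exact h.W_le hω)
    have hefix : e • g • h.base = g • h.base := hfix e (by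
      rw [show g⁻¹ * e * g = (g⁻¹ * ω * g) ^ (-b) * e by
        have h1 : g⁻¹ * (ω ^ b * e) * g = e := by rw [← hge]; group
        have h2 : g⁻¹ * ω ^ b * g = ω ^ b := by
          have := conj_zpow' (a := g⁻¹) (b := ω) b
          rw [inv_inv, hgω'] at this
          exact this
        rw [hgω', zpow_neg, eq_inv_mul_iff_mul_eq]
        calc ω ^ b * (g⁻¹ * e * g) = (g⁻¹ * ω ^ b * g) * (g⁻¹ * e * g) := by rw [h2]
          _ = g⁻¹ * (ω ^ b * e) * g := by group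
          _ = e := h1, hgω']
      exact H.mul_mem (H.zpow_mem (h.W_le hω) _) he)
    obtain ⟨w₀, R', hw₀, hw₀b, hw₀x, hAR, hR'p, hR'H, -, hw₀R, -⟩ := h.exists_swap_sylow_ge hx₁ hEH
      (fun a ha => ((closure_le (MulAction.stabilizer G (g • h.base))).2
        (by rintro c (rfl | rfl); exacts [hωfix, hefix])) ha) hEp
    have hωR' := hAR hωE
    have heR' := hAR heE
    set k₀ := w₀ * g with hk₀
    have hk₀H : k₀ ∈ H := h.base_fix.1 (by rw [hk₀, mul_smul, hw₀x])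
    have hw₀H : w₀ ∉ H := fun hm => hx₁ (hw₀b ▸ h.base_fix.2 hm)
    have hk₀ω : k₀ * ω * k₀⁻¹ = w₀ * ω * w₀⁻¹ := by
      rw [hk₀, show w₀ * g * ω * (w₀ * g)⁻¹ = w₀ * (g * ω * g⁻¹) * w₀⁻¹ by group, hgω]
    have hw₀ωW : w₀ * ω * w₀⁻¹ ∈ W := hk₀ω ▸ h.W_norm k₀ hk₀H ω hω
    have hω₁ : w₀ * ω * w₀⁻¹ ∈ zpowers ω := TData.memW h D hω hωq hω1 hw₀ωW
      (by rw [conj_pow, hωq]; group) (TData.abelian h D hR'p hR'H hωR' (hw₀R ω hωR'))
    set L := normalizer ((zpowers ω : Subgroup G) : Set G) with hL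
    have hnorm : ∀ a : G, a * ω * a⁻¹ ∈ zpowers ω → a ∈ L := fun a ha => mem_normalizer_of fun c hc => by
      obtain ⟨i, rfl⟩ := hc
      show a * ω ^ i * a⁻¹ ∈ zpowers ω
      rw [conj_zpow']
      exact zpow_mem ha i
    have hLH : ¬ L ≤ H := fun hle => hu₁H (hle (hnorm u₁ (by rw [hu₁ω]; exact mem_zpowers ω)))
    obtain ⟨-, hcent, -, -⟩ := h.local_L
      (h.toMin.normalizer_ne_top (zpowers_ne_bot.2 hω1) (odd_of_le h.W_odd (zpowers_le.2 hω)))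
      (fun a ha ha2 => hnorm a (by rw [(h.cent a ha ha2 ω hω).symm, mul_inv_cancel_right]; exact mem_zpowers ω))
      hLH
    have hw₀ω : w₀ * ω = ω * w₀ :=
      hcent w₀ (hnorm w₀ hω₁) hw₀ ω ⟨hω, hnorm ω (by rw [mul_inv_cancel_right]; exact mem_zpowers ω)⟩
    -- `w₀` centralises `e`
    set e₁ := w₀ * e * w₀⁻¹ with he₁
    have he₁R : e₁ ∈ R' := hw₀R e heR'
    have hk₀e : k₀ * e * k₀⁻¹ = ω ^ b * e₁ := by
      rw [hk₀, show w₀ * g * e * (w₀ * g)⁻¹ = w₀ * (g * e * g⁻¹) * w₀⁻¹ by group, hge,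
        show w₀ * (ω ^ b * e) * w₀⁻¹ = (w₀ * ω ^ b * w₀⁻¹) * (w₀ * e * w₀⁻¹) by group, conj_zpow',
        conj_eq_of_commute hw₀ω, ← he₁]
    have hmod : ω ^ b * e₁ * e⁻¹ ∈ W := by
      refine h.odd_U ?_ ?_
      · rw [← hk₀e]; exact D.quot k₀ hk₀H e he
      · obtain ⟨j, hj⟩ := (IsPGroup.iff_orderOf.1 hR'p)
          ⟨_, R'.mul_mem (R'.mul_mem (R'.zpow_mem hωR' b) he₁R) (R'.inv_mem heR')⟩
        rw [Subgroup.orderOf_mk] at hj
        exact hj ▸ (hq.out.odd_of_ne_two hq2).pow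
    rw [mul_assoc] at hmod
    obtain ⟨c, hc⟩ := TData.memW h D hω hωq hω1 ((W.mul_mem_cancel_left (W.zpow_mem hω b)).1 hmod) (by
        rw [(show Commute e₁ e⁻¹ from TData.abelian h D hR'p hR'H he₁R (R'.inv_mem heR')).mul_pow,
          he₁, conj_pow, heq, inv_pow, heq]; group)
      (TData.abelian h D hR'p hR'H hωR' (R'.mul_mem he₁R (R'.inv_mem heR')))
    change ω ^ c = e₁ * e⁻¹ at hc
    have he₁' : e₁ = ω ^ c * e := by rw [hc, inv_mul_cancel_right]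
    have h2 : ω ^ c * ω ^ c = 1 := by
      have e2 : w₀ * e₁ * w₀⁻¹ = e := by
        rw [he₁, show w₀ * (w₀ * e * w₀⁻¹) * w₀⁻¹ = (w₀ * w₀) * e * (w₀ * w₀)⁻¹ by group, Invol.mul_self hw₀]
        simp
      rw [he₁', show w₀ * (ω ^ c * e) * w₀⁻¹ = (w₀ * ω ^ c * w₀⁻¹) * (w₀ * e * w₀⁻¹) by group, conj_zpow',
        conj_eq_of_commute hw₀ω, ← he₁, he₁', ← mul_assoc, mul_eq_right] at e2
      exact e2
    have hc1 : ω ^ c = 1 := Invol.eq_one_of_sq_of_odd (odd_order h.W_odd (W.zpow_mem hω c))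
      (by rw [pow_two]; exact h2)
    rw [hc1, one_mul] at he₁'
    exact absurd (TData.odd_cent h D hq2 he heW heq) (Nat.not_odd_iff_even.2
      (Invol.even_of_invol_mem hw₀ (mem_centralizer_singleton_iff.2 (commute_of_conj_eq he₁'))))

/-- At a further fixed point of an element of order `q` outside `W`. -/
theorem swapper (hq2 : q ≠ 2) {a : G} (ha : a ∈ H) (haq : a ^ q = 1) {x : G ⧸ H}
    (hx : x ≠ h.base) (hax : a • x = x) :
    ∃ v : G, orderOf v = 2 ∧ v • h.base = x ∧ v • x = h.base ∧ (v * a * v⁻¹ = a⁻¹ ∨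
      ∃ ω ∈ W, ω ^ q = 1 ∧ ω ≠ 1 ∧ ω * a = a * ω ∧ ω • x = x ∧ v * ω * v⁻¹ = ω ∧
        v * a * v⁻¹ * a = ω) := by
  obtain ⟨v, R, hv, hvb, hvx, haR, hRp, hRH, hRx, hvR, -⟩ :=
    h.exists_swap_sylow hx ha hax (isPGroup_zpowers haq)
  refine ⟨v, hv, hvb, hvx, ?_⟩
  set r := v * a * v⁻¹ * a with hr
  have hvaR := hvR a haR
  have hrR : r ∈ R := R.mul_mem hvaR haR
  have hc := TData.abelian h D hRp hRH hvaR haR
  have hvr : v * r * v⁻¹ = r := by
    rw [hr, show v * (v * a * v⁻¹ * a) * v⁻¹ = (v * v) * a * (v * v)⁻¹ * (v * a * v⁻¹) by group,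
      Invol.mul_self hv, one_mul, inv_one, mul_one]
    exact hc.symm
  rcases eq_or_ne r 1 with hr1 | hr1
  · exact Or.inl (eq_inv_of_mul_eq_one_left hr1)
  refine Or.inr ⟨r, ?_, ?_, hr1, TData.abelian h D hRp hRH hrR haR, hRx r hrR, hvr, rfl⟩
  · obtain ⟨c, hc⟩ := Invol.se_exists_fix h.se hv
    have hodd : Odd (orderOf r) := by
      obtain ⟨j, hj⟩ := (IsPGroup.iff_orderOf.1 hRp) ⟨r, hrR⟩
      rw [Subgroup.orderOf_mk] at hj
      exact hj ▸ (hq.out.odd_of_ne_two hq2).pow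
    exact TData.bad_at h D hq2 (hRH hrR) (hRp.to_le (zpowers_le.2 hrR))
      (h.core_at hv hc hodd (commute_of_conj_eq hvr).symm)
  · rw [hr, (show Commute (v * a * v⁻¹) a from hc).mul_pow, conj_pow, haq]
    group

/-- Subgroups of order `q` of `W` commuting with an element are conjugate under its centraliser. -/
theorem exists_conj_W {a ω ω₁ : G} (hω : ω ∈ W) (hωq : ω ^ q = 1) (hω1 : ω ≠ 1) (hωa : ω * a = a * ω)
    (hω₁ : ω₁ ∈ W) (hω₁q : ω₁ ^ q = 1) (hω₁1 : ω₁ ≠ 1) (hω₁a : ω₁ * a = a * ω₁) :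
    ∃ n ∈ W, n * a = a * n ∧ ∃ i : ℤ, ω = (n * ω₁ * n⁻¹) ^ i := by
  set C := W ⊓ centralizer ({a} : Set G) with hC
  obtain ⟨S, hS, hωS⟩ := exists_isSylowIn_ge (p := q) (H := C) (isPGroup_zpowers hωq)
    (zpowers_le.2 ⟨hω, mem_centralizer_singleton_iff.2 hωa⟩)
  obtain ⟨n, hn, hnS⟩ := exists_conj_le_of_isSylowIn hS (isPGroup_zpowers hω₁q)
    (zpowers_le.2 ⟨hω₁, mem_centralizer_singleton_iff.2 hω₁a⟩)
  refine ⟨n, hn.1, mem_centralizer_singleton_iff.1 hn.2, ?_⟩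
  have hm : n * ω₁ * n⁻¹ ∈ S := hnS ⟨ω₁, mem_zpowers ω₁, rfl⟩
  obtain ⟨i, hi⟩ := TData.memW h D (hS.le hm).1 (by rw [conj_pow, hω₁q]; group)
    (fun e => hω₁1 (conj_eq_one_iff.1 e)) hω hωq
    (TData.abelian h D hS.isPGroup ((hS.le.trans inf_le_left).trans h.W_le) hm (hωS (mem_zpowers ω)))
  exact ⟨i, hi.symm⟩

/-- The element inverted by `u₁` has centraliser in `H` and fixes two points only. -/
theorem cent_fix (hq2 : q ≠ 2) {ω e : G} (hω : ω ∈ W) (hωq : ω ^ q = 1) (hω1 : ω ≠ 1) (he : e ∈ H)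
    (heW : e ∉ W) (heq : e ^ q = 1) (hωe : ω * e = e * ω) {u₁ : G} (hu₁ : orderOf u₁ = 2)
    (hu₁H : u₁ ∉ H) (hu₁ω : u₁ * ω * u₁⁻¹ = ω) (hu₁e : u₁ * e * u₁⁻¹ = e⁻¹) :
    centralizer ({e} : Set G) ≤ H ∧ ∀ x : G ⧸ H, x ≠ h.base → e • x = x → x = u₁ • h.base := by
  have hinv : ∀ x : G ⧸ H, x ≠ h.base → e • x = x →
      ∃ v : G, orderOf v = 2 ∧ v • h.base = x ∧ v • x = h.base ∧ v * e * v⁻¹ = e⁻¹ := by
    intro x hx hex
    obtain ⟨v, hv, hvb, hvx, hinv | ⟨ω₁, hω₁, hω₁q, hω₁1, hω₁e, hω₁x, hvω₁, hve⟩⟩ :=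
      TData.swapper h D hq2 he heq hx hex
    · exact ⟨v, hv, hvb, hvx, hinv⟩
    refine ⟨v, hv, hvb, hvx, ?_⟩
    obtain ⟨n, hn, hne, i, hi⟩ := TData.exists_conj_W h D hω hωq hω1 hωe hω₁ hω₁q hω₁1 hω₁e
    set v' := n * v * n⁻¹ with hv'
    have hv'm : v' * (n * ω₁ * n⁻¹) * v'⁻¹ = n * ω₁ * n⁻¹ := by
      rw [hv', show n * v * n⁻¹ * (n * ω₁ * n⁻¹) * (n * v * n⁻¹)⁻¹ = n * (v * ω₁ * v⁻¹) * n⁻¹ by group, hvω₁]
    have hv'ω : v' * ω * v'⁻¹ = ω := by rw [hi, conj_zpow', hv'm]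
    have hne' : n⁻¹ * e * n = e := by rw [mul_assoc, ← hne, inv_mul_cancel_left]
    have hv'e : v' * e * v'⁻¹ = n * (v * e * v⁻¹) * n⁻¹ := by
      calc v' * e * v'⁻¹ = n * v * (n⁻¹ * e * n) * v⁻¹ * n⁻¹ := by rw [hv']; group
        _ = _ := by rw [hne']; group
    have hv'e1 : v' * e * v'⁻¹ * e ∈ zpowers ω := by
      have e1 : v' * e * v'⁻¹ * e = n * ω₁ * n⁻¹ := by
        rw [hv'e, ← hve]
        calc n * (v * e * v⁻¹) * n⁻¹ * e = n * (v * e * v⁻¹) * (n⁻¹ * e * n) * n⁻¹ := by group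
          _ = _ := by rw [hne']; group
      rw [e1]
      refine TData.memW h D hω hωq hω1 (h.W_norm n (h.W_le hn) ω₁ hω₁) (by rw [conj_pow, hω₁q]; group) ?_
      rw [hi]
      exact (((Commute.refl (n * ω₁ * n⁻¹)).zpow_left i)).eq
    have hx' : n • x ≠ h.base := fun e' => hx (by
      rw [← inv_smul_eq_iff.2 e'.symm]
      exact h.base_fix.2 (H.inv_mem (h.W_le hn)))
    have := TData.unipotent h D hq2 hω hωq hω1 he heW heq hωe hu₁ hu₁H hu₁ω hu₁e hx'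
      ((Invol.order_conj n v).trans hv) (by
        rw [mul_smul, mul_smul, h.base_fix.2 (H.inv_mem (h.W_le hn)), hvb]) hv'ω hv'e1
    rw [hv'e] at this
    calc v * e * v⁻¹ = n⁻¹ * (n * (v * e * v⁻¹) * n⁻¹) * n := by group
      _ = (n⁻¹ * e * n)⁻¹ := by rw [this]; group
      _ = e⁻¹ := by rw [hne']
  have hodd : Odd (orderOf e) := by
    rw [orderOf_eq_prime heq fun e' => heW (e' ▸ W.one_mem)]
    exact hq.out.odd_of_ne_two hq2
  have hC := h.cent_le_of_inverted he (fun e' => heW (e' ▸ W.one_mem)) hodd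
    (TData.odd_cent h D hq2 he heW heq) hinv
  refine ⟨hC, fun x hx hex => ?_⟩
  obtain ⟨v, hv, hvb, hvx, hve⟩ := hinv x hx hex
  have hmem : u₁ * v ∈ H := hC (mem_centralizer_singleton_iff.2 (mul_inv_eq_iff_eq_mul.1 (by
    rw [show u₁ * v * e * (u₁ * v)⁻¹ = u₁ * (v * e * v⁻¹) * u₁⁻¹ by group, hve,
      show u₁ * e⁻¹ * u₁⁻¹ = (u₁ * e * u₁⁻¹)⁻¹ by group, hu₁e, inv_inv])))
  have := h.base_fix.2 hmem
  rw [mul_smul, hvb] at this
  rw [← this, ← mul_smul, Invol.mul_self hu₁, one_smul]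

/-- The translates by `ω` have centraliser in `H` as well. -/
theorem cent_translate (hq2 : q ≠ 2) {ω e : G} (hω : ω ∈ W) (hωq : ω ^ q = 1) (hω1 : ω ≠ 1) (he : e ∈ H)
    (heW : e ∉ W) (heq : e ^ q = 1) (hωe : ω * e = e * ω) {u₁ : G} (hu₁ : orderOf u₁ = 2)
    (hu₁H : u₁ ∉ H) (hu₁ω : u₁ * ω * u₁⁻¹ = ω) (hu₁e : u₁ * e * u₁⁻¹ = e⁻¹) (i : ℤ) :
    centralizer ({ω ^ i * e} : Set G) ≤ H := by
  obtain ⟨-, hfix⟩ := TData.cent_fix h D hq2 hω hωq hω1 he heW heq hωe hu₁ hu₁H hu₁ω hu₁e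
  set a := ω ^ i * e with haDef
  have haH : a ∈ H := H.mul_mem (H.zpow_mem (h.W_le hω) i) he
  have haW : a ∉ W := fun hm => heW ((W.mul_mem_cancel_left (W.zpow_mem hω i)).1 hm)
  have hωa : Commute ω a := ((Commute.refl ω).zpow_right i).mul_right hωe
  have haq : a ^ q = 1 := by
    rw [haDef, ((show Commute ω e from hωe).zpow_left i).mul_pow, heq, ← zpow_natCast, ← zpow_mul, mul_comm,
      zpow_mul, zpow_natCast, hωq, one_zpow, one_mul]
  have ha1 : a ≠ 1 := fun e' => haW (e' ▸ W.one_mem)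
  have hodd : Odd (orderOf a) := by rw [orderOf_eq_prime haq ha1]; exact hq.out.odd_of_ne_two hq2
  set A := centralizer ({a} : Set G) with hA
  have hAodd : Odd (Nat.card A) := TData.odd_cent h D hq2 haH haW haq
  intro b hb
  by_contra hbH
  set y := u₁ • h.base with hy
  set C := W ⊓ A with hC
  have key : ∀ c ∈ A, c • h.base ≠ h.base → ∃ n ∈ C, n • c • h.base = y := by
    intro c hc hcb
    have hac : a • c • h.base = c • h.base := by
      rw [← mul_smul, ← mem_centralizer_singleton_iff.1 hc, mul_smul, h.base_fix.2 haH]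
    obtain ⟨v, hv, -, hvx, hinv | ⟨ω₁, hω₁, hω₁q, hω₁1, hω₁a, hω₁x, -, -⟩⟩ :=
      TData.swapper h D hq2 haH haq hcb hac
    · exact (h.false_of_inverted haH ha1 hodd hAodd hc hv hvx hinv).elim
    obtain ⟨n, hn, hna, j, hj⟩ := TData.exists_conj_W h D hω hωq hω1 hωa.eq hω₁ hω₁q hω₁1 hω₁a
    refine ⟨n, ⟨hn, mem_centralizer_singleton_iff.2 hna⟩, ?_⟩
    set x := n • c • h.base with hx
    have hωx : ω • x = x := by
      have h1 : (n * ω₁ * n⁻¹) • x = x := by rw [hx, mul_smul, mul_smul, inv_smul_smul, hω₁x]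
      rw [hj]
      exact (zpowers_le.2 (show _ ∈ MulAction.stabilizer G x from h1)) ⟨j, rfl⟩
    have hax : a • x = x := by rw [hx, ← mul_smul, ← hna, mul_smul, hac]
    have hex : e • x = x := by
      rw [show e = (ω ^ i)⁻¹ * a by rw [haDef, inv_mul_cancel_left], mul_smul, hax, inv_smul_eq_iff]
      exact ((zpowers_le.2 (show ω ∈ MulAction.stabilizer G x from hωx)) ⟨i, rfl⟩).symm
    refine hfix x (fun e' => hcb ?_) hex
    rw [hx, smul_eq_iff_eq_inv_smul] at e'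
    exact e'.trans (h.base_fix.2 (H.inv_mem (h.W_le hn)))
  set O : Set (G ⧸ H) := MulAction.orbit A h.base with hO
  set P : Set (G ⧸ H) := MulAction.orbit C y with hP
  have hPb : h.base ∉ P := by
    rintro ⟨⟨n, hn⟩, hnb⟩
    change n • y = h.base at hnb
    rw [smul_eq_iff_eq_inv_smul, h.base_fix.2 (H.inv_mem (h.W_le hn.1))] at hnb
    exact hu₁H (h.base_fix.1 hnb)
  have hOP : O = insert h.base P := by
    ext x
    constructor
    · rintro ⟨⟨c, hc⟩, rfl⟩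
      change c • h.base ∈ _
      by_cases hcb : c • h.base = h.base
      · exact Or.inl hcb
      · obtain ⟨n, hn, hny⟩ := key c hc hcb
        exact Or.inr ⟨⟨n⁻¹, C.inv_mem hn⟩, by
          show n⁻¹ • y = c • h.base
          rw [← hny, inv_smul_smul]⟩
    · rintro (rfl | ⟨⟨n, hn⟩, rfl⟩)
      · exact MulAction.mem_orbit_self _
      · obtain ⟨n₀, hn₀, hn₀y⟩ := key b hb (fun e' => hbH (h.base_fix.1 e'))
        exact ⟨⟨n * (n₀ * b), A.mul_mem hn.2 (A.mul_mem hn₀.2 hb)⟩, by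
          show (n * (n₀ * b)) • h.base = n • y
          rw [mul_smul, mul_smul, hn₀y]⟩
  have h1 : Odd O.ncard := by
    rw [hO, ← MulAction.index_stabilizer]
    exact hAodd.of_dvd_nat (index_dvd_card _)
  have h2 : Odd P.ncard := by
    rw [hP, ← MulAction.index_stabilizer]
    exact (odd_of_le hAodd inf_le_right).of_dvd_nat (index_dvd_card _)
  rw [hOP, Set.ncard_insert_of_notMem hPb (Set.toFinite P), Nat.odd_add_one] at h1
  exact h1 h2

end TData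

/-- At a prime dividing the index of `U` every element of `W` of prime power order is good. -/
theorem good_of_dvd {q : ℕ} [hq : Fact q.Prime] {e₀ : G} (he₀ : e₀ ∈ H) (he₀U : e₀ ∉ h.U)
    (he₀q : IsPGroup q (zpowers e₀)) {w : G} (hw : w ∈ W) (hw1 : w ≠ 1) (hwq : IsPGroup q (zpowers w)) :
    Good H w := by
  by_contra hbad
  have hb : h.Bad q := ⟨w, hw, hw1, hwq, hbad⟩
  have hq2 := Bad.prime_ne_two h hb
  obtain ⟨u, T, D⟩ := h.exists_data hb
  obtain ⟨ω, e, hω, hωq, hω1, he, heW, heq, hωe, huω, hue⟩ := TData.exists_inverted h D he₀ he₀q he₀U hq2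
  have hs : ∀ a ∈ ({ω, e} : Set G), ∀ b ∈ ({ω, e} : Set G), a * b = b * a := by
    rintro a (rfl | rfl) b (rfl | rfl)
    · rfl
    · exact hωe
    · exact hωe.symm
    · rfl
  set E := closure ({ω, e} : Set G) with hE
  haveI : IsMulCommutative E := isMulCommutative_closure hs
  have hωE : ω ∈ E := subset_closure (Or.inl rfl)
  have heE : e ∈ E := subset_closure (Or.inr rfl)
  have hEq : ∀ a ∈ E, a ^ q = 1 := pow_eq_one_closure hs (by rintro a (rfl | rfl) <;> assumption)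
  have hEH : E ≤ H := (closure_le _).2 (by rintro a (rfl | rfl); exacts [h.W_le hω, he])
  have hnc : ¬ IsCyclic E := fun hcy => by
    obtain ⟨i, hi⟩ := mem_zpowers_of_cyclic (q := q) (a := (⟨e, heE⟩ : E)) (b := ⟨ω, hωE⟩)
      (Subtype.ext heq) (Subtype.ext hωq) (fun e' => hω1 (congrArg Subtype.val e'))
    exact heW ((show ω ^ i = e from congrArg Subtype.val hi) ▸ W.zpow_mem hω i)
  obtain ⟨Z, hZW, hZ1, -, hZn, hZg⟩ := h.exists_Z
  have hqZ : ¬ q ∣ Nat.card Z := fun hd => by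
    obtain ⟨z, hz⟩ := exists_prime_orderOf_dvd_card' (G := Z) q hd
    have hzq : (z : G) ^ q = 1 := by rw [← hz, ← Subgroup.orderOf_coe, pow_orderOf_eq_one]
    refine Bad.not_good h hb (hZW z.2) (isPGroup_zpowers hzq) (hZg z z.2 fun e' => ?_)
    rw [← Subgroup.orderOf_coe, e', orderOf_one] at hz
    exact hq.out.ne_one hz.symm
  obtain ⟨k, hk⟩ := (show IsPGroup q E from fun a => ⟨1, Subtype.ext (by simpa using hEq a a.2)⟩).exists_card_eq
  have hgen := CoprimeAct.generated_by_centralizers hnc (hEH.trans (le_normalizer_of hZn))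
    (hk ▸ (hq.out.coprime_iff_not_dvd.2 hqZ).pow_left k)
  obtain ⟨a, haE, ha1, z, hzZ, hz1, hza⟩ : ∃ a ∈ E, a ≠ 1 ∧ ∃ z ∈ Z, z ≠ 1 ∧ z * a = a * z := by
    by_contra! hno
    refine hZ1 (le_bot_iff.1 (hgen ▸ iSup₂_le fun a ha => fun z hz => mem_bot.2 ?_))
    by_contra hz1
    exact hno a ha.1 ha.2 z hz.1 hz1 (mem_centralizer_singleton_iff.1 hz.2)
  obtain ⟨i, j, hij⟩ := TData.mem_span h D hω hωq hω1 he heW heq (hEH haE) (hEq a haE) hωe
    (setLike_mul_comm hωE haE) (setLike_mul_comm heE haE)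
  by_cases hj : e ^ j ∈ W
  · rw [zpow_eq_one_of_mem heq heW hj, mul_one] at hij
    exact Bad.not_good h hb (hij ▸ W.zpow_mem hω i) (isPGroup_zpowers (hEq a haE))
      (h.good_of_commute (hij ▸ W.zpow_mem hω i) ha1 (hZW hzZ) hza (hZg z hzZ hz1))
  set e₁ := e ^ j with he₁
  have he₁q : e₁ ^ q = 1 := by
    rw [he₁, ← zpow_natCast, ← zpow_mul, mul_comm, zpow_mul, zpow_natCast, heq, one_zpow]
  have hωe₁ : ω * e₁ = e₁ * ω := ((show Commute ω e from hωe).zpow_right j).eq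
  have hue₁ : u * e₁ * u⁻¹ = e₁⁻¹ := by rw [he₁, conj_zpow', hue, inv_zpow]
  have hue₂ : u * e₁⁻¹ * u⁻¹ = e₁⁻¹⁻¹ := by
    rw [show u * e₁⁻¹ * u⁻¹ = (u * e₁ * u⁻¹)⁻¹ by group, hue₁]
  have hC := TData.cent_translate h D hq2 hω hωq hω1 (H.inv_mem (H.zpow_mem he j))
    (fun hm => hj (inv_mem_iff.1 hm)) (by rw [inv_pow, he₁q, inv_one])
    (show Commute ω e₁ from hωe₁).inv_right.eq D.inv D.u_not huω hue₂ i
  have hzu : u * z * u⁻¹ ∈ H := hC (mem_centralizer_singleton_iff.2 (by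
    have ea : u * a * u⁻¹ = ω ^ i * e₁⁻¹ := by
      rw [hij, show u * (ω ^ i * e₁) * u⁻¹ = (u * ω ^ i * u⁻¹) * (u * e₁ * u⁻¹) by group, conj_zpow', huω,
        hue₁]
    rw [← ea]
    calc u * z * u⁻¹ * (u * a * u⁻¹) = u * (z * a) * u⁻¹ := by group
      _ = u * (a * z) * u⁻¹ := by rw [hza]
      _ = _ := by group))
  set y := u • h.base with hy
  have hzy : z • y = y := by
    have := h.base_fix.2 hzu
    rw [Invol.inv_self D.inv, mul_smul, mul_smul] at this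
    calc z • y = (u * u) • z • y := by rw [Invol.mul_self D.inv, one_smul]
      _ = u • u • z • y := mul_smul _ _ _
      _ = y := by rw [hy, this]
  obtain ⟨l, hl, hld⟩ := Nat.exists_prime_and_dvd (fun e' => hz1 (orderOf_eq_one_iff.1 e') : orderOf z ≠ 1)
  haveI := Fact.mk hl
  obtain ⟨c, hc⟩ := hld
  have hzc : orderOf (z ^ c) = l := by
    rw [orderOf_pow_of_dvd (fun e' => (orderOf_pos z).ne' (by rw [hc, e', mul_zero])) (hc ▸ dvd_mul_left c l),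
      hc, Nat.mul_div_cancel _ (Nat.pos_of_ne_zero fun e' => (orderOf_pos z).ne' (by rw [hc, e', mul_zero]))]
  have hzc1 : z ^ c ≠ 1 := fun e' => hl.ne_one (by rw [← hzc, e', orderOf_one])
  exact D.u_not (h.base_fix.1 (h.good_fix (hZW (Z.pow_mem hzZ c)) hzc1
    (isPGroup_zpowers (hzc ▸ pow_orderOf_eq_one (z ^ c))) (hZg _ (Z.pow_mem hzZ c) hzc1)
    ((MulAction.stabilizer G y).pow_mem (show z ∈ MulAction.stabilizer G y from hzy) c)))

end BHyp

end Cfsg.Agent.SEBrick
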