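import Cfsg.Agent.Lib.SEBrick.CaseBGood
import Cfsg.Agent.Lib.FiniteGroup.CyclicPGroup
import Cfsg.Agent.S1225

/-!
The structure of `H` at a prime with an element of `W` whose centraliser leaves `H`.
-/

set_option autoImplicit false
set_option linter.style.haveILetI false
set_option linter.unusedSectionVars false

namespace Cfsg.Agent.SEBrick

open Cfsg Subgroup Cfsg.Agent.Functors

universe u

variable {G : Type u} [Group G] [Finite G] {H W : Subgroup G}

/-- In a cyclic group the roots of unity of prime order form one cyclic subgroup. -/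
theorem mem_zpowers_of_cyclic {K : Type*} [Group K] [Finite K] [IsCyclic K] {q : ℕ} [hq : Fact q.Prime]
    {a b : K} (ha : a ^ q = 1) (hb : b ^ q = 1) (hb1 : b ≠ 1) : a ∈ zpowers b := by
  classical
  haveI := Fintype.ofFinite K
  by_contra hab
  have hsub : insert a (Finset.univ.filter fun x => x ∈ zpowers b) ⊆
      Finset.univ.filter fun x : K => x ^ q = 1 := by
    intro x hx
    refine Finset.mem_filter.2 ⟨Finset.mem_univ x, ?_⟩
    rcases Finset.mem_insert.1 hx with rfl | hx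
    · exact ha
    · obtain ⟨i, rfl⟩ := (Finset.mem_filter.1 hx).2
      show (b ^ i) ^ q = 1
      rw [← zpow_natCast, ← zpow_mul, mul_comm, zpow_mul, zpow_natCast, hb, one_zpow]
  have h1 := (Finset.card_le_card hsub).trans (IsCyclic.card_pow_eq_one_le hq.out.pos)
  rw [Finset.card_insert_of_notMem (fun h => hab (Finset.mem_filter.1 h).2), ← Fintype.card_subtype,
    ← Nat.card_eq_fintype_card, show Nat.card {x // x ∈ zpowers b} = q from
      (Nat.card_zpowers b).trans (orderOf_eq_prime hb hb1)] at h1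
  omega

/-- Commuting roots of unity of prime order generate a group of exponent that prime. -/
theorem pow_eq_one_closure {s : Set G} {q : ℕ} (hc : ∀ a ∈ s, ∀ b ∈ s, a * b = b * a)
    (hp : ∀ a ∈ s, a ^ q = 1) : ∀ a ∈ closure s, a ^ q = 1 := by
  haveI := isMulCommutative_closure hc
  intro a ha
  induction ha using closure_induction with
  | mem x hx => exact hp x hx
  | one => exact one_pow q
  | mul x y hx hy hx1 hy1 =>
    rw [(show Commute x y from setLike_mul_comm (s := closure s) hx hy).mul_pow, hx1, hy1, one_mul]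
  | inv x _ hx1 => rw [inv_pow, hx1, inv_one]

theorem isPGroup_closure {s : Set G} {q : ℕ} (hc : ∀ a ∈ s, ∀ b ∈ s, a * b = b * a)
    (hp : ∀ a ∈ s, a ^ q = 1) : IsPGroup q (closure s) := fun a =>
  ⟨1, Subtype.ext (by simpa using pow_eq_one_closure hc hp a a.2)⟩

theorem isPGroup_zpowers {q : ℕ} {a : G} (ha : a ^ q = 1) : IsPGroup q (zpowers a) := by
  rw [zpowers_eq_closure]
  exact isPGroup_closure (by rintro x rfl y rfl; rfl) (by rintro x rfl; exact ha)

/-- An involutive automorphism of a group of odd order, trivial on a normal subgroup holding all its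
fixed points, inverts the quotient. -/
theorem inverted_mod {D : Type u} [Group D] [Finite D] (hD : Odd (Nat.card D)) {N : Subgroup D} [N.Normal]
    (φ : D →* D) (hφ : ∀ d, φ (φ d) = d) (hfix : ∀ d, φ d = d → d ∈ N) (hN : ∀ n ∈ N, φ n = n) :
    (∀ d, φ d * d ∈ N) ∧ ∀ a b : D, a * b * a⁻¹ * b⁻¹ ∈ N := by
  set ψ : D ⧸ N →* D ⧸ N := QuotientGroup.map N N φ (fun n hn => by rw [mem_comap, hN n hn]; exact hn)
  have hψ : ∀ d : D, ψ d = (φ d : D ⧸ N) := fun d => rfl
  have hinv : Function.Involutive ψ := fun x => by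
    induction x using QuotientGroup.induction_on with
    | _ d => rw [hψ, hψ, hφ]
  have hfp : MonoidHom.FixedPointFree ψ := fun x hx => by
    induction x using QuotientGroup.induction_on with
    | _ d =>
      rw [hψ, eq_comm, QuotientGroup.eq] at hx
      set n := d⁻¹ * φ d with hn
      have hφn := hN n hx
      have hnn : n * n = 1 := by
        nth_rw 2 [← hφn]
        rw [hn, map_mul, map_inv, hφ]
        group
      have hn1 : n = 1 := Invol.eq_one_of_sq_of_odd (hD.of_dvd_nat (orderOf_dvd_natCard n))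
        (by rw [pow_two, hnn])
      exact (QuotientGroup.eq_one_iff d).2 (hfix d (inv_mul_eq_one.1 hn1).symm)
  refine ⟨fun d => ?_, fun a b => ?_⟩
  · rw [← QuotientGroup.eq_one_iff, QuotientGroup.mk_mul, ← hψ, hfp.coe_eq_inv_of_involutive hinv]
    exact inv_mul_cancel _
  · rw [← QuotientGroup.eq_one_iff]
    simp only [QuotientGroup.mk_mul, QuotientGroup.mk_inv]
    rw [(hfp.commute_all_of_involutive hinv (a : D ⧸ N) b).eq]
    group

namespace BHyp

variable (h : BHyp H W)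
include h

/-- Some nontrivial element of `q`-power order of `W` is not good. -/
def Bad (_ : BHyp H W) (q : ℕ) : Prop :=
  ∃ w ∈ W, w ≠ 1 ∧ IsPGroup q (zpowers w) ∧ ¬ Good H w

theorem Bad.not_good {q : ℕ} [Fact q.Prime] (hb : h.Bad q) {z : G} (hz : z ∈ W)
    (hzq : IsPGroup q (zpowers z)) : ¬ Good H z := by
  obtain ⟨w, hw, hw1, hwq, hbad⟩ := hb
  exact fun hg => hbad (h.good_of_good hw hw1 hwq hz hzq hg)

theorem Bad.prime_ne_two {q : ℕ} [hq : Fact q.Prime] (hb : h.Bad q) : q ≠ 2 := by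
  rintro rfl
  obtain ⟨w, hw, hw1, hwq, -⟩ := hb
  obtain ⟨k, hk⟩ := hwq.exists_card_eq
  rw [Nat.card_zpowers] at hk
  have := odd_order h.W_odd hw
  rcases Nat.eq_zero_or_pos k with rfl | hk0
  · exact hw1 (orderOf_eq_one_iff.1 (by rw [hk, pow_zero]))
  · rw [hk] at this
    exact absurd this (Nat.not_odd_iff_even.2 (Nat.even_pow.2 ⟨even_two, hk0.ne'⟩))

/-- The group of the involutions of `H`, inside `H`. -/
def invGroup : Subgroup H where
  carrier := {x | x * x = 1}
  one_mem' := one_mul 1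
  mul_mem' := fun {a b} ha hb => by
    rcases eq_or_ne a 1 with rfl | ha1
    · simpa using hb
    rcases eq_or_ne b 1 with rfl | hb1
    · simpa using ha
    have hab : a * b = b * a := Subtype.ext (h.invol_comm a.2
      (by rw [Subgroup.orderOf_coe]; exact Invol.order_two_of_sq ha ha1) b.2
      (by rw [Subgroup.orderOf_coe]; exact Invol.order_two_of_sq hb hb1))
    show a * b * (a * b) = 1
    rw [Set.mem_setOf_eq] at ha hb
    calc a * b * (a * b) = a * (b * a) * b := by group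
      _ = (a * a) * (b * b) := by rw [← hab]; group
      _ = 1 := by rw [ha, hb, one_mul]
  inv_mem' := fun {a} ha => by
    show a⁻¹ * a⁻¹ = 1
    rw [← mul_inv_rev, show a * a = 1 from ha, inv_one]

theorem invGroup_normal : h.invGroup.Normal := ⟨fun a ha g => by
  show g * a * g⁻¹ * (g * a * g⁻¹) = 1
  rw [show g * a * g⁻¹ * (g * a * g⁻¹) = g * (a * a) * g⁻¹ by group, show a * a = 1 from ha]
  group⟩

theorem invGroup_comm : ∀ a b : h.invGroup, a * b = b * a := by
  rintro ⟨a, ha⟩ ⟨b, hb⟩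
  rcases eq_or_ne a 1 with rfl | ha1
  · exact Subtype.ext (by simp)
  rcases eq_or_ne b 1 with rfl | hb1
  · exact Subtype.ext (by simp)
  exact Subtype.ext (Subtype.ext (h.invol_comm a.2
    (by rw [Subgroup.orderOf_coe]; exact Invol.order_two_of_sq ha ha1) b.2
    (by rw [Subgroup.orderOf_coe]; exact Invol.order_two_of_sq hb hb1)))

/-- A commutative `q`-subgroup modulo `U`, acting on the involutions, is cyclic modulo `U`. -/
theorem cyclic_action {q : ℕ} [hq : Fact q.Prime] (hq2 : q ≠ 2) {T : Subgroup G} (hTH : T ≤ H)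
    (hT : IsPGroup q T) (hcomm : ∀ a ∈ T, ∀ b ∈ T, a * b * a⁻¹ * b⁻¹ ∈ h.U) :
    ∃ (A : Type u) (_ : Group A) (f : T →* A), (∀ a, f a = 1 ↔ (a : G) ∈ h.U) ∧ IsCyclic f.range := by
  haveI := h.invGroup_normal
  letI : CommGroup h.invGroup := { (inferInstance : Group h.invGroup) with mul_comm := h.invGroup_comm }
  let f : T →* MulAut h.invGroup := MulAut.conjNormal.comp (inclusion hTH)
  have hf : ∀ a, f a = 1 ↔ (a : G) ∈ h.U := by
    intro a
    constructor
    · intro ha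
      obtain ⟨t, htH, ht⟩ := h.exists_invol
      have htI : (⟨t, htH⟩ : H) ∈ h.invGroup := Subtype.ext (Invol.mul_self ht)
      have e : (a : G) * t * (a : G)⁻¹ = t :=
        congrArg (fun φ : MulAut h.invGroup => (((φ ⟨⟨t, htH⟩, htI⟩ : h.invGroup) : H) : G)) ha
      exact h.mem_U htH ht (mul_inv_eq_iff_eq_mul.1 e)
    · intro ha
      refine MulEquiv.ext fun x => Subtype.ext (Subtype.ext ?_)
      show (a : G) * ((x : H) : G) * (a : G)⁻¹ = ((x : H) : G)
      rcases eq_or_ne (x : H) 1 with hx | hx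
      · simp [hx]
      rw [h.U_comm (x : H).2 (by rw [Subgroup.orderOf_coe]; exact Invol.order_two_of_sq x.2 hx) ha,
        mul_inv_cancel_right]
  refine ⟨MulAut h.invGroup, inferInstance, f, hf, ?_⟩
  haveI : IsMulCommutative f.range := .of_setLike_mul_comm (by
    rintro _ ⟨a, rfl⟩ _ ⟨b, rfl⟩
    have := (hf (a * b * a⁻¹ * b⁻¹)).2 (hcomm a a.2 b b.2)
    rw [map_mul, map_mul, map_mul, map_inv, map_inv, mul_inv_eq_one, mul_inv_eq_iff_eq_mul] at this
    exact this)
  by_contra hnc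
  obtain ⟨r, E, hr, hE, hexp⟩ := CoprimeAct.exists_elementary_of_not_isCyclic hnc
  have hR : IsPGroup q f.range := hT.of_surjective f.rangeRestrict f.rangeRestrict_surjective
  obtain ⟨k, hk⟩ := (hR.to_subgroup E).exists_card_eq
  obtain rfl : r = q := (Nat.prime_dvd_prime_iff_eq hr hq.out).1
    (hr.dvd_of_dvd_pow (hk ▸ hE ▸ dvd_pow_self r two_ne_zero : r ∣ q ^ k))
  obtain ⟨t, htH, ht⟩ := h.exists_invol
  have htI : (⟨t, htH⟩ : H) ∈ h.invGroup := Subtype.ext (Invol.mul_self ht)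
  have hA2 : IsPGroup 2 h.invGroup := fun x => ⟨1, Subtype.ext (by
    rw [pow_one, SubmonoidClass.coe_pow, pow_two]; exact x.2)⟩
  obtain ⟨j, hj⟩ := hA2.exists_card_eq
  have htop := CoprimeAct.generated_by_fixed hq.out hE hexp (f.range.subtype.comp E.subtype)
    (hj ▸ ((Nat.coprime_primes hq.out Nat.prime_two).2 hq2).pow_right j) ⊥ (fun e x he hx => by
      obtain ⟨a, ha⟩ := (e : f.range).2
      by_contra hx1
      have hx1' : (x : H) ≠ 1 := fun e' => hx1 (mem_bot.2 (Subtype.ext e'))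
      refine he (Subtype.ext (Subtype.ext (ha.symm.trans ((hf a).2 (h.mem_U (x : H).2
        (by rw [Subgroup.orderOf_coe]; exact Invol.order_two_of_sq x.2 hx1') ?_)))))
      have e' : (a : G) * ((x : H) : G) * (a : G)⁻¹ = ((x : H) : G) := by
        have := congrArg (fun y : h.invGroup => ((y : H) : G)) hx
        rw [show (f.range.subtype.comp E.subtype) e = f a from ha.symm] at this
        exact this
      exact mul_inv_eq_iff_eq_mul.1 e')
  have := (mem_bot.1 (htop ▸ mem_top (⟨⟨t, htH⟩, htI⟩ : h.invGroup)))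
  exact Invol.ne_one ht (congrArg (fun y : h.invGroup => ((y : H) : G)) this)

/-- The data at a bad prime: a Sylow subgroup of `H` and an involution outside `H` normalising it. -/
structure TData (q : ℕ) (u : G) (T : Subgroup G) : Prop where
  inv : orderOf u = 2
  u_not : u ∉ H
  sylow : IsSylowIn q T H
  conj : ∀ r ∈ T, u * r * u⁻¹ ∈ T
  fixW : ∀ r ∈ T, r ∈ W → u * r * u⁻¹ = r
  inverts : ∀ r ∈ T, u * r * u⁻¹ * r ∈ W
  comm : ∀ a ∈ T, ∀ b ∈ T, a * b = b * a
  cyclicW : IsCyclic (T ⊓ W : Subgroup G)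
  meet : T ⊓ W ≠ ⊥
  root : ∀ e ∈ T, e ∉ W → e ^ q = 1 → ∀ x ∈ T, x ^ q = 1 → ∃ j : ℤ, x * (e ^ j)⁻¹ ∈ W
  quot : ∀ g ∈ H, ∀ k ∈ H, g * k * g⁻¹ * k⁻¹ ∈ h.U

set_option maxHeartbeats 1000000 in
theorem exists_data {q : ℕ} [hq : Fact q.Prime] (hb : h.Bad q) :
    ∃ (u : G) (T : Subgroup G), h.TData q u T := by
  have hq2 := Bad.prime_ne_two h hb
  obtain ⟨w, hw, hw1, hwq, hbad⟩ := hb
  have hb : h.Bad q := ⟨w, hw, hw1, hwq, hbad⟩
  obtain ⟨T₀, hT₀, hwT⟩ := exists_isSylowIn_ge hwq (zpowers_le.2 hw)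
  have hwT' : w ∈ T₀ := hwT (mem_zpowers w)
  set L := centralizer (T₀ : Set G) with hL
  have hLH : ¬ L ≤ H := h.bad_sylow hw hw1 hwq hbad hT₀
  have hLtop : L ≠ ⊤ := fun e => h.toMin.centralizer_ne_top hw hw1 (eq_top_iff.2 fun g _ =>
    mem_centralizer_singleton_iff.2 ((mem_centralizer_iff.1 (e ▸ mem_top g : g ∈ L) w hwT').symm))
  obtain ⟨hn, hcent, hWat, u, huL, hu, huH⟩ :=
    h.local_L hLtop (fun a ha ha2 => h.invol_cent hT₀.le ha ha2) hLH
  have hui : u⁻¹ = u := Invol.inv_self hu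
  -- the Sylow subgroup of `W` is cyclic
  obtain ⟨Z, hZW, hZ1, -, hZn, hZg⟩ := h.exists_Z
  have hqZ : ¬ q ∣ Nat.card Z := fun hd => by
    obtain ⟨z, hz⟩ := exists_prime_orderOf_dvd_card' (G := Z) q hd
    have hzq : (z : G) ^ q = 1 := by rw [← hz, ← Subgroup.orderOf_coe, pow_orderOf_eq_one]
    refine Bad.not_good h hb (hZW z.2) (isPGroup_zpowers hzq) (hZg z z.2 fun e => ?_)
    rw [← Subgroup.orderOf_coe, e, orderOf_one] at hz
    exact hq.out.ne_one hz.symm
  have hcyc : IsCyclic T₀ := by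
    obtain ⟨k, hk⟩ := hT₀.isPGroup.exists_card_eq
    refine CyclicPGroup.isCyclic_of_fixedPointFree hq2 hT₀.isPGroup
      ((hT₀.le.trans h.W_le).trans (le_normalizer_of hZn))
      (hk ▸ (hq.out.coprime_iff_not_dvd.2 hqZ).pow_left k) hZ1 fun a ha ha1 z hz hz1 hc => ?_
    exact Bad.not_good h hb (hT₀.le ha) (hT₀.isPGroup.to_le (zpowers_le.2 ha))
      (h.good_of_commute (hT₀.le ha) ha1 (hZW hz) hc.symm (hZg z hz hz1))
  -- the stabiliser of two points in `L`
  set y := u • h.base with hy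
  have huy : u • y = h.base := by rw [hy, ← mul_smul, Invol.mul_self hu, one_smul]
  have hyne : y ≠ h.base := fun e => huH (h.base_fix.1 e)
  set D := L ⊓ (H ⊓ MulAction.stabilizer G y) with hD
  have hDH : D ≤ H := inf_le_right.trans inf_le_left
  have hDy : ∀ d ∈ D, d • y = y := fun d hd => hd.2.2
  have hDodd : ∀ d ∈ D, Odd (orderOf d) := fun d hd =>
    h.odd_of_two hyne (hDy d hd) (h.base_fix.2 (hDH hd))
  have huD : ∀ d ∈ D, u * d * u⁻¹ ∈ D := fun d hd => by
    refine ⟨L.mul_mem (L.mul_mem huL hd.1) (L.inv_mem huL), h.base_fix.1 ?_,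
      show (u * d * u⁻¹) • y = y from ?_⟩
    · rw [hui, mul_smul, mul_smul, ← hy, hDy d hd, huy]
    · rw [hui, mul_smul, mul_smul, huy, h.base_fix.2 (hDH hd)]
  have hT₀D : T₀ ≤ D := fun t ht => by
    haveI := hcyc
    have htL : t ∈ L := mem_centralizer_iff.2 fun x hx =>
      congrArg Subtype.val (mul_comm' (⟨x, hx⟩ : T₀) ⟨t, ht⟩)
    refine ⟨htL, h.W_le (hT₀.le ht), show t • y = y from ?_⟩
    rw [hy, ← mul_smul, ← hcent u huL hu t ⟨hT₀.le ht, htL⟩, mul_smul, h.base_fix.2 (h.W_le (hT₀.le ht))]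
  have hDU : ∀ d ∈ D, d ∈ h.U → d ∈ W := fun d hd hdU => h.odd_U hdU (hDodd d hd)
  have htrans : ∀ g ∈ H, ∃ d ∈ D, d⁻¹ * g ∈ h.U := by
    intro g hg
    obtain ⟨t, htH, ht⟩ := h.exists_invol
    have htg : orderOf (g * t * g⁻¹) = 2 := (Invol.order_conj g t).trans ht
    have htgH := H.mul_mem (H.mul_mem hg htH) (H.inv_mem hg)
    have htL := h.invol_cent hT₀.le htH ht
    have htgL := h.invol_cent hT₀.le htgH htg
    obtain ⟨⟨d, hd, hdt⟩, -⟩ := S1225.result (H.subgroupOf L) (h.se_sub ht htH htL hLH) ⟨u, huL⟩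
      (by rwa [Subgroup.orderOf_mk]) huH ⟨t, htL⟩ ⟨_, htgL⟩ (by rwa [Subgroup.orderOf_mk]) htH
      (by rwa [Subgroup.orderOf_mk]) htgH
    obtain ⟨hdH, hdu⟩ := hd
    have hdu' : u⁻¹ * (d : G) * u ∈ H := mem_subgroupOf.1 (Invol.mem_conj_map.1 hdu)
    refine ⟨d, ⟨d.2, hdH, show (d : G) • y = y from ?_⟩, h.mem_U htH ht ?_⟩
    · have := h.base_fix.2 hdu'
      rw [mul_smul, mul_smul, inv_smul_eq_iff] at this
      exact this
    · have hdt' : (d : G) * t * (d : G)⁻¹ = g * t * g⁻¹ := congrArg Subtype.val hdt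
      calc (d : G)⁻¹ * g * t = (d : G)⁻¹ * (g * t * g⁻¹) * g := by group
        _ = _ := by rw [← hdt']; group
  -- the involution inverts modulo `W`
  haveI hWn : (W.subgroupOf D).Normal := normal_subgroupOf_of_le_normalizer (hDH.trans h.W_normal)
  let φ : D →* D := MonoidHom.mk' (fun d => ⟨u * d * u⁻¹, huD d d.2⟩) fun a b => Subtype.ext (by simp [mul_assoc])
  have hfixW : ∀ d ∈ D, d ∈ W → u * d * u⁻¹ = d := fun d hd hdW => by
    rw [hcent u huL hu d ⟨hdW, hd.1⟩, mul_inv_cancel_right]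
  obtain ⟨hinv, hcomm⟩ := inverted_mod (odd_card_of_orders fun d hd hd2 => by
      have := hDodd d hd
      rw [hd2] at this
      exact absurd this (by decide)) (N := W.subgroupOf D) φ
    (fun d => Subtype.ext (by
      show u * (u * (d : G) * u⁻¹) * u⁻¹ = d
      rw [show u * (u * (d : G) * u⁻¹) * u⁻¹ = (u * u) * d * (u * u)⁻¹ by group, Invol.mul_self hu]
      simp))
    (fun d hd => by
      have he : u * (d : G) * u⁻¹ = d := congrArg Subtype.val hd
      obtain ⟨c, hc⟩ := Invol.se_exists_fix h.se hu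
      exact mem_subgroupOf.2 ((hWat u huL hu c hc d d.2.1).1
        (h.core_at hu hc (hDodd d d.2) (mul_inv_eq_iff_eq_mul.1 he).symm)))
    fun n hn => Subtype.ext (hfixW n n.2 (mem_subgroupOf.1 hn))
  haveI hUn : (h.U.subgroupOf H).Normal :=
    normal_subgroupOf_of_le_normalizer (le_normalizer_of fun g hg x hx => h.U_norm hg hx)
  set π := QuotientGroup.mk' (h.U.subgroupOf H) with hπ
  have hπ1 : ∀ x : H, π x = 1 ↔ (x : G) ∈ h.U := fun x => QuotientGroup.eq_one_iff x
  let π' : D →* H ⧸ h.U.subgroupOf H := π.comp (inclusion hDH)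
  have hsurj : Function.Surjective π' := by
    intro x
    obtain ⟨⟨g, hg⟩, rfl⟩ := QuotientGroup.mk'_surjective _ x
    obtain ⟨d, hd, hdg⟩ := htrans g hg
    refine ⟨⟨d, hd⟩, ?_⟩
    rw [← inv_mul_eq_one]
    show (π ⟨d, hDH hd⟩)⁻¹ * π ⟨g, hg⟩ = 1
    rw [← map_inv, ← map_mul, hπ1]
    exact hdg
  have hquot : ∀ g ∈ H, ∀ k ∈ H, g * k * g⁻¹ * k⁻¹ ∈ h.U := by
    intro g hg k hk
    refine (hπ1 (⟨g, hg⟩ * ⟨k, hk⟩ * ⟨g, hg⟩⁻¹ * ⟨k, hk⟩⁻¹)).1 ?_
    obtain ⟨a, ha⟩ := hsurj (π ⟨g, hg⟩)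
    obtain ⟨b, hb⟩ := hsurj (π ⟨k, hk⟩)
    rw [map_mul, map_mul, map_mul, map_inv, map_inv, ← ha, ← hb, ← map_inv, ← map_inv, ← map_mul,
      ← map_mul, ← map_mul]
    exact (hπ1 _).2 (h.W_le_U (hcomm a b))
  -- the Sylow subgroup
  obtain ⟨P, hP0, hPu⟩ := CoprimeAct.exists_invariant_sylow_ge
    (zpowers_le.2 (mem_normalizer_of huD) : zpowers u ≤ normalizer (D : Set G))
    (by
      rw [Nat.card_zpowers, hu, Nat.coprime_two_left]
      exact odd_card_of_orders fun d hd hd2 => by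
        have := hDodd d hd
        rw [hd2] at this
        exact absurd this (by decide))
    (Or.inl (Group.isSolvable_of_comm fun a b => mul_comm' a b)) (U := T₀) hT₀D hT₀.isPGroup
    (zpowers_le.2 (mem_normalizer_of fun t ht => by rw [hfixW t (hT₀D ht) (hT₀.le ht)]; exact ht))
  set T : Subgroup G := (P : Subgroup D).map D.subtype
  have hTD : IsSylowIn q T D := isSylowIn_map_subtype P
  have hTconj : ∀ r ∈ T, u * r * u⁻¹ ∈ T := fun r hr => conj_mem_of (hPu (mem_zpowers u)) hr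
  have hTU : ∀ r ∈ T, r ∈ h.U → r ∈ W := fun r hr => hDU r (hTD.le hr)
  have hT₀U : IsSylowIn q T₀ h.U := by
    obtain ⟨S, hS, hST⟩ := exists_isSylowIn_ge hT₀.isPGroup (hT₀.le.trans h.W_le_U)
    have hSW : S ≤ W := fun s hs => h.odd_U (hS.le hs) (by
      obtain ⟨k, hk⟩ := (IsPGroup.iff_orderOf.1 hS.isPGroup) ⟨s, hs⟩
      rw [Subgroup.orderOf_mk] at hk
      exact hk ▸ (hq.out.odd_of_ne_two hq2).pow)
    exact (hT₀.eq_of_le hS.isPGroup hST hSW).symm ▸ hS
  have hidx : ¬ q ∣ D.relIndex H := by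
    intro hd
    have h1 : Nat.card H = Nat.card (h.U.subgroupOf H) * (h.U.subgroupOf H).index :=
      (card_mul_index _).symm
    have h2 : Nat.card D = Nat.card π'.ker * (h.U.subgroupOf H).index := by
      rw [← card_mul_index π'.ker, index_ker, MonoidHom.range_eq_top.2 hsurj, card_top]
      rfl
    have h3 : Nat.card D * D.relIndex H = Nat.card H := by
      rw [mul_comm, ← relIndex_bot_left, ← relIndex_bot_left, mul_comm, relIndex_mul_relIndex _ _ _ bot_le hDH]
    have h4 : T₀.subgroupOf D ≤ π'.ker := fun d hd => (hπ1 _).2 (h.W_le_U (hT₀.le hd))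
    obtain ⟨k, hk⟩ := card_dvd_of_le h4
    rw [Nat.card_congr (subgroupOfEquivOfLe hT₀D).toEquiv] at hk
    have h5 : Nat.card T₀ * T₀.relIndex h.U = Nat.card h.U := by
      rw [← relIndex_bot_left, ← relIndex_bot_left]
      exact relIndex_mul_relIndex _ _ _ bot_le hT₀U.le
    rw [h2, hk, h1, Nat.card_congr (subgroupOfEquivOfLe h.U_le).toEquiv, ← h5] at h3
    have h6 : k * D.relIndex H = T₀.relIndex h.U := by
      refine mul_left_cancel₀ (Nat.card_pos (α := T₀)).ne'
        (mul_right_cancel₀ (b := (h.U.subgroupOf H).index) index_ne_zero_of_finite ?_)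
      rw [← h3]
      ring
    exact hT₀U.2.2 (h6 ▸ hd.mul_left k)
  have hTH : IsSylowIn q T H := ⟨hTD.le.trans hDH, hTD.isPGroup, by
    rw [← relIndex_mul_relIndex T D H hTD.le hDH, hq.out.dvd_mul, not_or]
    exact ⟨hTD.2.2, hidx⟩⟩
  have hTW : T ⊓ W = T₀ := (hT₀.eq_of_le (hTD.isPGroup.to_le inf_le_left)
    (le_inf hP0 hT₀.le) inf_le_right).symm
  obtain ⟨A, _, f, hf, hfc⟩ := h.cyclic_action hq2 hTH.le hTH.isPGroup
    fun a ha b hb => hquot a (hTH.le ha) b (hTH.le hb)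
  have hker : ∀ x : T, f x = 1 → (x : G) ∈ T₀ := fun x hx => hTW ▸ ⟨x.2, hTU x x.2 ((hf x).1 hx)⟩
  have hcommT : ∀ a ∈ T, ∀ b ∈ T, a * b = b * a := by
    obtain ⟨⟨g, a₀, rfl⟩, hg⟩ := hfc.exists_generator
    have key : ∀ x : T, ∃ (i : ℤ) (k : G), k ∈ T₀ ∧ (x : G) = (a₀ : G) ^ i * k := by
      intro x
      obtain ⟨i, hi⟩ := hg ⟨f x, x, rfl⟩
      refine ⟨i, ((a₀ ^ i)⁻¹ * x : T), hker _ ?_, by simp⟩
      have := congrArg Subtype.val hi
      rw [map_mul, map_inv, map_zpow, inv_mul_eq_one]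
      simpa using this
    intro a ha b hb
    obtain ⟨i, k, hk, hak⟩ := key ⟨a, ha⟩
    obtain ⟨j, l, hl, hbl⟩ := key ⟨b, hb⟩
    rw [show a = (a₀ : G) ^ i * k from hak, show b = (a₀ : G) ^ j * l from hbl]
    have hk0 : Commute k (a₀ : G) := mem_centralizer_iff.1 (hTD.le a₀.2).1 k hk
    have hl0 : Commute l (a₀ : G) := mem_centralizer_iff.1 (hTD.le a₀.2).1 l hl
    have hkl : Commute k l := by
      haveI := hcyc
      exact congrArg Subtype.val (mul_comm' (⟨k, hk⟩ : T₀) ⟨l, hl⟩)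
    exact ((((Commute.refl (a₀ : G)).zpow_zpow i j).mul_right (hl0.symm.zpow_left i)).mul_left
      ((hk0.zpow_right j).mul_right hkl)).eq
  refine ⟨u, T, hu, huH, hTH, hTconj, fun r hr hrW => hfixW r (hTD.le hr) hrW,
    fun r hr => hinv ⟨r, hTD.le hr⟩, hcommT, hTW ▸ hcyc, ?_, ?_, hquot⟩
  · rw [hTW]
    exact fun e => hw1 (mem_bot.1 (e ▸ hwT'))
  · intro e he heW he1 x hx hx1
    haveI := hfc
    haveI : Finite f.range := Finite.of_surjective _ f.rangeRestrict_surjective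
    have hne : (⟨f ⟨e, he⟩, _, rfl⟩ : f.range) ≠ 1 := fun e' =>
      heW (hTU e he ((hf ⟨e, he⟩).1 (congrArg Subtype.val e')))
    obtain ⟨j, hj⟩ := mem_zpowers_of_cyclic (a := (⟨f ⟨x, hx⟩, _, rfl⟩ : f.range))
      (b := ⟨f ⟨e, he⟩, _, rfl⟩)
      (Subtype.ext (by
        show f ⟨x, hx⟩ ^ q = 1
        rw [← map_pow, show (⟨x, hx⟩ : T) ^ q = 1 from Subtype.ext hx1, map_one]))
      (Subtype.ext (by
        show f ⟨e, he⟩ ^ q = 1
        rw [← map_pow, show (⟨e, he⟩ : T) ^ q = 1 from Subtype.ext he1, map_one])) hne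
    refine ⟨j, hTU _ (T.mul_mem hx (T.inv_mem (T.zpow_mem he j))) ((hf (⟨x, hx⟩ * (⟨e, he⟩ ^ j)⁻¹)).1 ?_)⟩
    have := congrArg Subtype.val hj
    rw [map_mul, map_inv, map_zpow, mul_inv_eq_one]
    exact this.symm

end BHyp

end Cfsg.Agent.SEBrick
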