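import Cfsg.Agent.Lib.SEBrick.CaseBStruct
import Cfsg.Agent.Lib.SEBrick.Common

/-!
Elements of `W` with centraliser inside `H` fix one point only.
-/

set_option autoImplicit false
set_option linter.style.haveILetI false
set_option linter.unusedSectionVars false

namespace Cfsg.Agent.SEBrick

open Cfsg Subgroup Cfsg.Agent.Functors

universe u

variable {G : Type u} [Group G] [Finite G] {H W : Subgroup G}

/-- The centraliser lies in `H`. -/
def Good (H : Subgroup G) (w : G) : Prop := centralizer ({w} : Set G) ≤ H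

theorem Good.of_pow {w : G} {k : ℕ} (h : Good H (w ^ k)) : Good H w := fun g hg =>
  h (mem_centralizer_singleton_iff.2 ((show Commute g w from mem_centralizer_singleton_iff.1 hg).pow_right k).eq)

namespace BHyp

variable (h : BHyp H W)
include h

theorem invol_cent {A : Subgroup G} (hA : A ≤ W) {a : G} (ha : a ∈ H) (ha2 : orderOf a = 2) :
    a ∈ centralizer (A : Set G) :=
  mem_centralizer_iff.2 fun x hx => h.cent a ha ha2 x (hA hx)

/-- Subgroups containing the involutions of `H` but not contained in `H`. -/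
theorem local_L {L : Subgroup G} (hL : L ≠ ⊤) (hI : ∀ a ∈ H, orderOf a = 2 → a ∈ L) (hLH : ¬ L ≤ H) :
    (∀ l ∈ L, ∀ w ∈ W ⊓ L, l * w * l⁻¹ ∈ W ⊓ L) ∧
      (∀ i ∈ L, orderOf i = 2 → ∀ r ∈ W ⊓ L, i * r = r * i) ∧
      (∀ i ∈ L, orderOf i = 2 → ∀ c : G ⧸ H, i • c = c → ∀ l ∈ L, (l ∈ Wat W c ↔ l ∈ W)) ∧
      ∃ i ∈ L, orderOf i = 2 ∧ i ∉ H := by
  obtain ⟨E, hEH, hE⟩ := h.four
  have hEL : E ≤ L := fun e he => by
    by_cases he1 : e = 1
    · exact he1 ▸ L.one_mem
    · exact hI e (hEH he) (hE.order he he1)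
  have hn := h.f2 L hL E hEL hEH hE hLH
  obtain ⟨t, htH, ht⟩ := h.exists_invol
  have htL := hI t htH ht
  have hconj : ∀ i ∈ L, orderOf i = 2 → ∃ g ∈ L, g * t * g⁻¹ = i := by
    intro i hi hi2
    obtain ⟨c, hc⟩ := isConj_iff.1 (Invol.se_isConj (h.se_sub ht htH htL hLH) (a := (⟨t, htL⟩ : L))
      (b := ⟨i, hi⟩) (by rwa [Subgroup.orderOf_mk]) (by rwa [Subgroup.orderOf_mk]))
    exact ⟨c, c.2, congrArg Subtype.val hc⟩
  refine ⟨hn, fun i hi hi2 r hr => ?_, fun i hi hi2 c hc l hl => ?_, ?_⟩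
  · obtain ⟨g, hg, rfl⟩ := hconj i hi hi2
    have hr' := hn g⁻¹ (inv_mem hg) r hr
    rw [inv_inv] at hr'
    have e := h.cent t htH ht _ hr'.1
    calc g * t * g⁻¹ * r = g * (t * (g⁻¹ * r * g)) * g⁻¹ := by group
      _ = g * (g⁻¹ * r * g * t) * g⁻¹ := by rw [e]
      _ = _ := by group
  · obtain ⟨g, hg, rfl⟩ := hconj i hi hi2
    have hgc : (g * t * g⁻¹) • (g : G ⧸ H) = g := fix_iff.2 (by
      rwa [show g⁻¹ * (g * t * g⁻¹) * g = t by group])
    obtain rfl : c = (g : G ⧸ H) := Invol.se_fix_unique h.se hi2 hc hgc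
    rw [h.mem_Wat]
    refine ⟨fun hw => ?_, fun hw => ?_⟩
    · have := hn g hg _ ⟨hw, L.mul_mem (L.mul_mem (L.inv_mem hg) hl) hg⟩
      rw [show g * (g⁻¹ * l * g) * g⁻¹ = l by group] at this
      exact this.1
    · have := hn g⁻¹ (inv_mem hg) l ⟨hw, hl⟩
      rw [inv_inv] at this
      exact this.1
  · obtain ⟨g, hgL, hgH⟩ := SetLike.not_le_iff_exists.1 hLH
    exact ⟨g * t * g⁻¹, mul_mem (mul_mem hgL htL) (inv_mem hgL), (Invol.order_conj g t).trans ht,
      fun hc => hgH (Invol.se_mem_of_conj h.se ht htH hc)⟩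

/-- An element of `W` centralised by a good element is good. -/
theorem good_of_commute {w z : G} (hw : w ∈ W) (hw1 : w ≠ 1) (hz : z ∈ W) (hc : z * w = w * z)
    (hg : Good H z) : Good H w := by
  by_contra hLH
  set L := centralizer ({w} : Set G) with hL
  have hI : ∀ a ∈ H, orderOf a = 2 → a ∈ L := fun a ha ha2 =>
    mem_centralizer_singleton_iff.2 (h.cent a ha ha2 w hw).symm
  obtain ⟨hn, -, -, -⟩ := h.local_L (h.toMin.centralizer_ne_top hw hw1) hI hLH
  set A := W ⊓ L with hA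
  have hCA : centralizer (A : Set G) ≤ H := fun g hg' => hg (mem_centralizer_singleton_iff.2
    ((mem_centralizer_iff.1 hg' z ⟨hz, mem_centralizer_singleton_iff.2 hc⟩).symm))
  obtain ⟨t, htH, ht⟩ := h.exists_invol
  exact hLH ((le_normalizer_of fun l hl a ha => hn l hl a ha).trans
    (h.toMin.normalizer_le_of_cent hCA ht (h.invol_cent inf_le_left htH ht)))

/-- A prime with a non-good element: the centraliser of a Sylow subgroup of `W` leaves `H`. -/
theorem bad_sylow {q : ℕ} [Fact q.Prime] {w : G} (hw : w ∈ W) (hw1 : w ≠ 1)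
    (hq : IsPGroup q (zpowers w)) (hbad : ¬ Good H w) {T₀ : Subgroup G} (hT : IsSylowIn q T₀ W) :
    ¬ centralizer (T₀ : Set G) ≤ H := by
  obtain ⟨E, hEH, hE⟩ := h.four
  have hEn : E ≤ normalizer ((zpowers w : Subgroup G) : Set G) := by
    refine le_normalizer_of fun e he x hx => ?_
    by_cases he1 : e = 1
    · simpa [he1] using hx
    · have := mem_centralizer_iff.1 (h.invol_cent (zpowers_le.2 hw) (hEH he) (hE.order he he1)) x hx
      rwa [← this, mul_inv_cancel_right]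
  obtain ⟨T₁, -, hT₁, hN⟩ := h.toMin.climb (p := q) (zpowers_ne_bot.2 hw1) (zpowers_le.2 hw) hq hE hEH hEn
    (fun hle => hbad fun g hg => hle (mem_normalizer_of fun x hx => by
      obtain ⟨i, rfl⟩ := hx
      have hg' : Commute g w := mem_centralizer_singleton_iff.1 hg
      rw [(hg'.zpow_right i).eq, mul_inv_cancel_right]
      exact ⟨i, rfl⟩))
  obtain ⟨t, htH, ht⟩ := h.exists_invol
  intro hC
  obtain ⟨n, hn, hTn⟩ := exists_conj_eq_of_isSylowIn hT₁ hT
  refine hN (h.toMin.normalizer_le_of_cent (fun g hg => ?_) ht (h.invol_cent hT₁.le htH ht))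
  have hmem : n⁻¹ * g * n ∈ centralizer (T₀ : Set G) := mem_centralizer_iff.2 fun x hx => by
    have e := mem_centralizer_iff.1 hg (n * x * n⁻¹) (by rw [← hTn]; exact ⟨x, hx, rfl⟩)
    calc x * (n⁻¹ * g * n) = n⁻¹ * (n * x * n⁻¹ * g) * n := by group
      _ = n⁻¹ * (g * (n * x * n⁻¹)) * n := by rw [e]
      _ = _ := by group
  have := mul_mem (mul_mem (h.W_le hn) (hC hmem)) (inv_mem (h.W_le hn))
  rwa [show n * (n⁻¹ * g * n) * n⁻¹ = g by group] at this

/-- One good element of prime power order makes all of them good. -/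
theorem good_of_good {q : ℕ} [Fact q.Prime] {w z : G} (hw : w ∈ W) (hw1 : w ≠ 1)
    (hwq : IsPGroup q (zpowers w)) (hz : z ∈ W) (hzq : IsPGroup q (zpowers z)) (hg : Good H z) :
    Good H w := by
  by_contra hbad
  obtain ⟨T₀, hT₀, hzT⟩ := exists_isSylowIn_ge hzq (zpowers_le.2 hz)
  exact h.bad_sylow hw hw1 hwq hbad hT₀ fun g hg' => hg (mem_centralizer_singleton_iff.2
    (mem_centralizer_iff.1 hg' z (hzT (mem_zpowers z))).symm)

/-- A nontrivial abelian subgroup of `W`, normal in `H`, of good elements. -/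
theorem exists_Z : ∃ Z : Subgroup G, Z ≤ W ∧ Z ≠ ⊥ ∧ (∀ a ∈ Z, ∀ b ∈ Z, a * b = b * a) ∧
    (∀ g ∈ H, ∀ z ∈ Z, g * z * g⁻¹ ∈ Z) ∧ ∀ z ∈ Z, z ≠ 1 → Good H z := by
  haveI := solvable_of_odd h.W_odd
  haveI : Nontrivial W := (nontrivial_iff_ne_bot W).2 h.W_ne
  obtain ⟨Z₀, p, hp, hn, hZ1, -, hc, hexp, hZp, -⟩ := SolvBasic.exists_minimal_normal_abelian
    (G := W) (N := (⊤ : Subgroup W)) inferInstance top_ne_bot
  haveI := Fact.mk hp
  set P := (Cfsg.pCore p W).map W.subtype with hP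
  have hPW : P ≤ W := map_subtype_le _
  have hPp : IsPGroup p P := (FittingCores.pCore_isPGroup p).map _
  have hPn : ∀ g ∈ H, ∀ x ∈ P, g * x * g⁻¹ ∈ P := by
    intro g hg x hx
    have hchar : (Cfsg.pCore p W).Characteristic := FittingCores.pCore_characteristic p
    have hge : g ∈ normalizer (W : Set G) := h.W_normal hg
    let φ : W ≃* W := W.normalizerMonoidHom ⟨g, hge⟩
    obtain ⟨y, hy, rfl⟩ := hx
    refine ⟨φ y, ?_, rfl⟩
    have := (Subgroup.characteristic_iff_map_eq.1 hchar) φ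
    rw [← this]
    exact ⟨y, hy, rfl⟩
  have hP1 : P ≠ ⊥ := by
    intro e
    rw [hP, Subgroup.map_eq_bot_iff_of_injective _ W.subtype_injective] at e
    exact hZ1 (le_bot_iff.1 (e ▸ FittingCores.le_pCore hn hZp))
  haveI : Nontrivial P := (nontrivial_iff_ne_bot P).2 hP1
  refine ⟨(center P).map P.subtype, (map_subtype_le _).trans hPW, ?_, ?_, ?_, ?_⟩
  · rw [Ne, Subgroup.map_eq_bot_iff_of_injective _ P.subtype_injective]
    haveI := hPp.center_nontrivial
    exact (nontrivial_iff_ne_bot _).1 inferInstance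
  · rintro _ ⟨a, ha, rfl⟩ _ ⟨b, -, rfl⟩
    exact congrArg Subtype.val (mem_center_iff.1 ha b).symm
  · rintro g hg _ ⟨a, ha, rfl⟩
    refine ⟨⟨g * a * g⁻¹, hPn g hg a a.2⟩, mem_center_iff.2 fun b => Subtype.ext ?_, rfl⟩
    have hb' : g⁻¹ * b * g ∈ P := by simpa using hPn g⁻¹ (inv_mem hg) b b.2
    have e : g⁻¹ * (b : G) * g * a = a * (g⁻¹ * b * g) :=
      congrArg Subtype.val (mem_center_iff.1 ha ⟨_, hb'⟩)
    show (b : G) * (g * a * g⁻¹) = g * a * g⁻¹ * b
    calc (b : G) * (g * a * g⁻¹) = g * (g⁻¹ * b * g * a) * g⁻¹ := by group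
      _ = g * ((a : G) * (g⁻¹ * b * g)) * g⁻¹ := by rw [e]
      _ = _ := by group
  · rintro z ⟨a, -, rfl⟩ hz1
    by_contra hbad
    have hpz : IsPGroup p (zpowers (a : G)) := hPp.to_le (zpowers_le.2 a.2)
    obtain ⟨T₀, hT₀, hPT⟩ := exists_isSylowIn_ge hPp hPW
    refine h.bad_sylow (hPW a.2) hz1 hpz hbad hT₀ ?_
    exact (centralizer_le hPT).trans ((centralizer_le_normalizer _).trans (h.norm P hPW hP1 hPn).le)

/-- A swapping involution normalising a Sylow subgroup containing a given `q`-subgroup of the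
stabiliser of two points. -/
theorem exists_swap_sylow_ge {q : ℕ} [Fact q.Prime] {x : G ⧸ H} (hx : x ≠ h.base) {A : Subgroup G}
    (hA : A ≤ H) (hAx : ∀ a ∈ A, a • x = x) (hAq : IsPGroup q A) :
    ∃ (v : G) (R : Subgroup G), orderOf v = 2 ∧ v • h.base = x ∧ v • x = h.base ∧ A ≤ R ∧
      IsPGroup q R ∧ R ≤ H ∧ (∀ r ∈ R, r • x = x) ∧ (∀ r ∈ R, v * r * v⁻¹ ∈ R) ∧
      IsSylowIn q R (H ⊓ MulAction.stabilizer G x) := by
  obtain ⟨v, hv, hvb, hvx⟩ := h.exists_swap (Ne.symm hx)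
  set D := H ⊓ MulAction.stabilizer G x with hD
  have hDodd : Odd (Nat.card D) := odd_card_of_orders fun d hd hd2 => by
    have := h.odd_of_two hx (d := d) hd.2 (h.base_fix.2 hd.1)
    rw [hd2] at this
    exact absurd this (by decide)
  have hvD : zpowers v ≤ normalizer (D : Set G) := zpowers_le.2 (mem_normalizer_of fun d hd =>
    ⟨h.base_fix.1 (by rw [Invol.inv_self hv, mul_smul, mul_smul, hvb, (hd.2 : d • x = x), hvx]),
      show (v * d * v⁻¹) • x = x by
        rw [Invol.inv_self hv, mul_smul, mul_smul, hvx, h.base_fix.2 hd.1, hvb]⟩)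
  obtain ⟨P, hP⟩ := CoprimeAct.exists_invariant_sylow hvD
    (by rw [Nat.card_zpowers, hv]; exact Nat.coprime_two_left.2 hDodd)
    (Or.inl (Group.isSolvable_of_comm fun a b => mul_comm' a b)) q
  set R₀ : Subgroup G := (P : Subgroup D).map D.subtype
  have hR₀ : IsSylowIn q R₀ D := isSylowIn_map_subtype P
  obtain ⟨d, hd, hde⟩ := exists_conj_le_of_isSylowIn hR₀ hAq fun a ha => ⟨hA ha, hAx a ha⟩
  have hR : IsSylowIn q (R₀.map (cj d⁻¹)) D := hR₀.conj_mem (inv_mem hd)
  refine ⟨d⁻¹ * v * d⁻¹⁻¹, R₀.map (cj d⁻¹), (Invol.order_conj _ v).trans hv, ?_, ?_, ?_, hR.isPGroup,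
    hR.le.trans inf_le_left, fun r hr => (hR.le hr).2, ?_, hR⟩
  · rw [inv_inv, mul_smul, mul_smul, h.base_fix.2 hd.1, hvb]
    exact (inv_smul_eq_iff.2 (hd.2 : d • x = x).symm)
  · rw [inv_inv, mul_smul, mul_smul, (hd.2 : d • x = x), hvx]
    exact (inv_smul_eq_iff.2 (h.base_fix.2 hd.1).symm)
  · intro a ha
    refine mem_map_cj.2 ?_
    rw [inv_inv]
    exact hde ⟨a, ha, rfl⟩
  · intro r hr
    rw [mem_map_cj, inv_inv] at hr ⊢
    have := conj_mem_of (hP (mem_zpowers v)) hr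
    rwa [show v * (d * r * d⁻¹) * v⁻¹ = d * (d⁻¹ * v * d * r * (d⁻¹ * v * d)⁻¹) * d⁻¹ by group]
      at this

/-- The same for a single element. -/
theorem exists_swap_sylow {q : ℕ} [Fact q.Prime] {x : G ⧸ H} (hx : x ≠ h.base) {e : G} (he : e ∈ H)
    (hex : e • x = x) (heq : IsPGroup q (zpowers e)) :
    ∃ (v : G) (R : Subgroup G), orderOf v = 2 ∧ v • h.base = x ∧ v • x = h.base ∧ e ∈ R ∧
      IsPGroup q R ∧ R ≤ H ∧ (∀ r ∈ R, r • x = x) ∧ (∀ r ∈ R, v * r * v⁻¹ ∈ R) ∧
      IsSylowIn q R (H ⊓ MulAction.stabilizer G x) := by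
  obtain ⟨v, R, hv, hvb, hvx, hle, hrest⟩ := h.exists_swap_sylow_ge hx (zpowers_le.2 he)
    (fun a ha => (zpowers_le.2 (show e ∈ MulAction.stabilizer G x from hex)) ha) heq
  exact ⟨v, R, hv, hvb, hvx, hle (mem_zpowers e), hrest⟩

/-- An involution inverts no nontrivial odd element in the stabiliser of its fixed point. -/
theorem not_inverts_at {v k : G} {c : G ⧸ H} (hv2 : orderOf v = 2) (hvc : v • c = c) (hkc : k • c = c)
    (hko : Odd (orderOf k)) (he : v * k * v⁻¹ = k⁻¹) : k = 1 := by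
  induction c using QuotientGroup.induction_on with
  | _ g =>
    have := h.not_inverts (v := g⁻¹ * v * g) (k := g⁻¹ * k * g) (fix_iff.1 hvc)
      (by rw [show g⁻¹ * v * g = g⁻¹ * v * g⁻¹⁻¹ by group, Invol.order_conj, hv2]) (fix_iff.1 hkc)
      (by rwa [show g⁻¹ * k * g = g⁻¹ * k * g⁻¹⁻¹ by group, Invol.order_conj])
      (by rw [show g⁻¹ * v * g * (g⁻¹ * k * g) * (g⁻¹ * v * g)⁻¹ = g⁻¹ * (v * k * v⁻¹) * g by group, he]; group)
    rw [show k = g * (g⁻¹ * k * g) * g⁻¹ by group, this]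
    simp

/-- A good element of `W` of prime power order fixes the base point only. -/
theorem good_fix {q : ℕ} [hq : Fact q.Prime] {w : G} (hw : w ∈ W) (hw1 : w ≠ 1)
    (hwq : IsPGroup q (zpowers w)) (hg : Good H w) {x : G ⧸ H} (hwx : w • x = x) : x = h.base := by
  by_contra hx
  obtain ⟨v, R, hv, hvb, hvx, hwR, hRp, hRH, hRx, hvR, -⟩ :=
    h.exists_swap_sylow hx (h.W_le hw) hwx hwq
  -- no good element lies in both conjugates of `W`
  have hboth : ∀ z ∈ R, z ∈ W → z ∈ Wat W x → z = 1 := by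
    intro z hzR hzW hzx
    by_contra hz1
    have hgz := h.good_of_good hzW hz1 (hRp.to_le (zpowers_le.2 hzR)) hw hwq hg
    obtain ⟨s, hs, hsx⟩ := h.exists_fixInv x
    refine hx (Invol.se_fix_unique h.se hs hsx (h.base_fix.2 (hgz (mem_centralizer_singleton_iff.2 ?_))))
    induction x using QuotientGroup.induction_on with
    | _ g =>
      have e := h.cent _ (fix_iff.1 hsx)
        (by rw [show g⁻¹ * s * g = g⁻¹ * s * g⁻¹⁻¹ by group, Invol.order_conj, hs]) _ (h.mem_Wat.1 hzx)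
      calc s * z = g * (g⁻¹ * s * g * (g⁻¹ * z * g)) * g⁻¹ := by group
        _ = g * (g⁻¹ * z * g * (g⁻¹ * s * g)) * g⁻¹ := by rw [e]
        _ = _ := by group
  set z := v * w * v⁻¹ with hz
  have hzR : z ∈ R := hvR w hwR
  have hzx : z ∈ Wat W x := hvb ▸ h.Wat_smul.2 (h.mem_Wat_base.2 hw)
  -- the two elements commute
  have hcomm : w * z = z * w := by
    have h1 : w * z * w⁻¹ * z⁻¹ ∈ R := mul_mem (mul_mem (mul_mem hwR hzR) (inv_mem hwR)) (inv_mem hzR)
    have h2 : w * z * w⁻¹ * z⁻¹ ∈ W := by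
      have := mul_mem hw (h.W_norm z (hRH hzR) _ (inv_mem hw))
      simpa [mul_assoc] using this
    have h3 : w * z * w⁻¹ * z⁻¹ ∈ Wat W x :=
      mul_mem (by
        have := (h.Wat_smul (a := w) (c := x)).2 hzx
        rwa [hwx] at this) (inv_mem hzx)
    exact mul_inv_eq_iff_eq_mul.1 (mul_inv_eq_one.1 (hboth _ h1 h2 h3))
  have hvv : v * z * v⁻¹ = w := by
    rw [hz, show v * (v * w * v⁻¹) * v⁻¹ = (v * v) * w * (v * v)⁻¹ by group, Invol.mul_self hv]; simp
  have hp1 : w * z ≠ 1 := fun e => hw1 (hboth w hwR hw (by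
    rw [eq_inv_of_mul_eq_one_left e]; exact inv_mem hzx))
  have hne2 : q ≠ 2 := by
    rintro rfl
    obtain ⟨k, hk⟩ := hwq ⟨w, mem_zpowers w⟩
    have := odd_order h.W_odd hw
    obtain ⟨j, -, hj⟩ := (Nat.dvd_prime_pow hq.out).1 (orderOf_dvd_of_pow_eq_one
      (show w ^ 2 ^ k = 1 by simpa using congrArg Subtype.val hk))
    rw [hj] at this
    rcases Nat.eq_zero_or_pos j with rfl | hj0
    · exact hw1 (orderOf_eq_one_iff.1 (by rw [hj, pow_zero]))
    · exact absurd this (Nat.not_odd_iff_even.2 (Nat.even_pow.2 ⟨even_two, hj0.ne'⟩))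
  have hRodd : Odd (Nat.card R) := by
    obtain ⟨j, hj⟩ := hRp.exists_card_eq
    rw [hj]; exact (hq.out.odd_of_ne_two hne2).pow
  obtain ⟨c, hc⟩ := Invol.se_exists_fix h.se hv
  have hpc : w * z ∈ Wat W c := h.core_at hv hc (odd_order hRodd (mul_mem hwR hzR)) (by
    have e : v * (w * z) * v⁻¹ = w * z := by
      rw [show v * (w * z) * v⁻¹ = (v * w * v⁻¹) * (v * z * v⁻¹) by group, hvv, ← hz, hcomm]
    exact (mul_inv_eq_iff_eq_mul.1 e).symm)
  -- the centraliser of the product fixes `c`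
  have hfixc : ∀ g : G, g * (w * z) = w * z * g → g • c = c := by
    induction c using QuotientGroup.induction_on with
    | _ k =>
      intro g hg'
      set y := k⁻¹ * (w * z) * k with hy
      have hyW : y ∈ W := h.mem_Wat.1 hpc
      have hy1 : y ≠ 1 := fun e => hp1 (by
        rw [show w * z = k * y * k⁻¹ by rw [hy]; group, e]; simp)
      have hyq : IsPGroup q (zpowers y) := by
        obtain ⟨j, hj⟩ := IsPGroup.iff_orderOf.1 hRp ⟨w * z, mul_mem hwR hzR⟩
        rw [Subgroup.orderOf_mk] at hj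
        refine IsPGroup.of_card (n := j) ?_
        rw [Nat.card_zpowers, hy, show k⁻¹ * (w * z) * k = k⁻¹ * (w * z) * k⁻¹⁻¹ by group, Invol.order_conj, hj]
      refine fix_iff.2 (h.good_of_good hyW hy1 hyq hw hwq hg (mem_centralizer_singleton_iff.2 ?_))
      rw [hy]
      calc k⁻¹ * g * k * (k⁻¹ * (w * z) * k) = k⁻¹ * (g * (w * z)) * k := by group
        _ = k⁻¹ * (w * z * g) * k := by rw [hg']
        _ = _ := by group
  have hwc : w • c = c := hfixc w ((Commute.refl w).mul_right hcomm).eq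
  have hzc : z • c = c := hfixc z ((show Commute z w from hcomm.symm).mul_right (Commute.refl z)).eq
  have hone : w * z⁻¹ = 1 := by
    refine h.not_inverts_at hv hc ?_ (odd_order hRodd (mul_mem hwR (inv_mem hzR))) ?_
    · rw [mul_smul, inv_smul_eq_iff.2 hzc.symm, hwc]
    · rw [show v * (w * z⁻¹) * v⁻¹ = (v * w * v⁻¹) * (v * z * v⁻¹)⁻¹ by group, hvv, ← hz]
      group
  exact hw1 (hboth w hwR hw (by rw [mul_inv_eq_one.1 hone]; exact hzx))

/-- A swapping involution inverting an element sees no point of the orbit of the centraliser. -/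
theorem false_of_inverted {e a v : G} (he : e ∈ H) (he1 : e ≠ 1) (heo : Odd (orderOf e))
    (hA : Odd (Nat.card (centralizer ({e} : Set G)))) (ha : a ∈ centralizer ({e} : Set G))
    (hv : orderOf v = 2) (hvx : v • a • h.base = h.base) (hve : v * e * v⁻¹ = e⁻¹) : False := by
  set A := centralizer ({e} : Set G) with hAdef
  set x := a • h.base with hxdef
  have heb : e • h.base = h.base := h.base_fix.2 he
  have hfixA : ∀ b ∈ A, e • b • h.base = b • h.base := fun b hb => by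
    rw [← mul_smul, ← mem_centralizer_singleton_iff.1 hb, mul_smul, heb]
  have hvA : ∀ b ∈ A, v * b * v⁻¹ ∈ A := fun b hb => by
    refine mem_centralizer_singleton_iff.2 ?_
    have hb' : b * e⁻¹ = e⁻¹ * b := (show Commute b e from mem_centralizer_singleton_iff.1 hb).inv_right.eq
    have e2 : v * e⁻¹ * v⁻¹ = e := by
      rw [show v * e⁻¹ * v⁻¹ = (v * e * v⁻¹)⁻¹ by group, hve, inv_inv]
    calc v * b * v⁻¹ * e = v * b * v⁻¹ * (v * e⁻¹ * v⁻¹) := by rw [e2]
      _ = v * (b * e⁻¹) * v⁻¹ := by group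
      _ = v * e⁻¹ * v⁻¹ * (v * b * v⁻¹) := by rw [hb']; group
      _ = _ := by rw [e2]
  set O : Set (G ⧸ H) := MulAction.orbit A h.base with hO
  have hOcard : Odd (Nat.card O) := by
    rw [Nat.card_coe_set_eq, hO, ← MulAction.index_stabilizer]
    exact hA.of_dvd_nat (index_dvd_card _)
  let σ : O → O := fun o => ⟨v • (o : G ⧸ H), by
    obtain ⟨⟨b, hb⟩, hbo⟩ := o.2
    refine ⟨⟨v * b * v⁻¹ * a, A.mul_mem (hvA b hb) ha⟩, ?_⟩
    show (v * b * v⁻¹ * a) • h.base = v • (o : G ⧸ H)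
    rw [mul_smul, ← hxdef, mul_smul, mul_smul, Invol.inv_self hv, hvx, ← hbo]
    rfl⟩
  classical
  haveI := Fintype.ofFinite O
  have hσ : Function.Involutive σ := fun o => Subtype.ext (by
    show v • v • (o : G ⧸ H) = o
    rw [← mul_smul, Invol.mul_self hv, one_smul])
  obtain ⟨c, hc⟩ : ∃ c, σ c = c := by
    haveI : Fact (Nat.Prime 2) := ⟨Nat.prime_two⟩
    refine Equiv.Perm.exists_fixed_point_of_prime (p := 2) (n := 1) ?_ (σ := hσ.toPerm σ) ?_
    · rw [← Nat.card_eq_fintype_card]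
      exact hOcard.not_two_dvd_nat
    · rw [pow_one]
      exact Equiv.ext fun o => hσ o
  have hvc : v • (c : G ⧸ H) = c := congrArg Subtype.val hc
  obtain ⟨⟨b, hb⟩, hbc⟩ := c.2
  refine he1 (h.not_inverts_at hv hvc ?_ heo hve)
  rw [← hbc]
  exact hfixA b hb

/-- An element inverted by a swapping involution for each further fixed point has centraliser in `H`. -/
theorem cent_le_of_inverted {e : G} (he : e ∈ H) (he1 : e ≠ 1) (heo : Odd (orderOf e))
    (hA : Odd (Nat.card (centralizer ({e} : Set G))))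
    (hinv : ∀ x : G ⧸ H, x ≠ h.base → e • x = x →
      ∃ v : G, orderOf v = 2 ∧ v • h.base = x ∧ v • x = h.base ∧ v * e * v⁻¹ = e⁻¹) :
    centralizer ({e} : Set G) ≤ H := by
  intro a ha
  by_contra haH
  obtain ⟨v, hv, -, hvx, hve⟩ := hinv (a • h.base) (fun hc => haH (h.base_fix.1 hc)) (by
    rw [← mul_smul, ← mem_centralizer_singleton_iff.1 ha, mul_smul, h.base_fix.2 he])
  exact h.false_of_inverted he he1 heo hA ha hv hvx hve

end BHyp

end Cfsg.Agent.SEBrick
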