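import Cfsg.Agent.Lib.SEBrick.NLess
import Cfsg.Agent.Lib.SEBrick.CITRegular

/-!
All involutions of the strongly embedded subgroup centralise `W`: the structure of `H` modulo `W`.
-/

set_option autoImplicit false
set_option linter.style.haveILetI false
set_option linter.unusedSectionVars false

namespace Cfsg.Agent.SEBrick

open Cfsg Subgroup

universe u

variable {G : Type u} [Group G] [Finite G] {H W : Subgroup G}

/-- An involution of the image of a homomorphism with kernel of odd order lifts. -/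
theorem exists_invol_lift {K : Type u} [Group K] {X : Type u} [Group X] [Finite K] (f : K →* X)
    (hf : Function.Surjective f) (hker : Odd (Nat.card f.ker)) {q : X} (hq : orderOf q = 2) :
    ∃ t : K, orderOf t = 2 ∧ f t = q := by
  obtain ⟨a, rfl⟩ := hf q
  obtain ⟨e, m, hm, hme⟩ := Nat.exists_eq_two_pow_mul_odd (orderOf_pos a).ne'
  have hfam : f (a ^ m) = f a := by
    rw [map_pow]
    refine Eq.trans ?_ (pow_one _)
    exact pow_eq_pow_iff_modEq.2 (hq ▸ Nat.odd_iff.1 hm)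
  have hb : orderOf (a ^ m) = 2 ^ e := by
    rw [orderOf_pow_of_dvd hm.pos.ne' (hme ▸ dvd_mul_left m _), hme, Nat.mul_div_cancel _ hm.pos]
  have hb2 : (a ^ m) ^ 2 ∈ f.ker := by
    rw [MonoidHom.mem_ker, map_pow, hfam, ← hq, pow_orderOf_eq_one]
  have h1 : Odd (orderOf ((a ^ m) ^ 2)) := odd_order hker hb2
  obtain ⟨i, -, hi⟩ := (Nat.dvd_prime_pow Nat.prime_two).1
    (hb ▸ orderOf_pow_dvd 2 : orderOf ((a ^ m) ^ 2) ∣ 2 ^ e)
  rw [hi] at h1
  have hi0 : i = 0 := by
    by_contra hne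
    exact absurd h1 (Nat.not_odd_iff_even.2 (Nat.even_pow.2 ⟨even_two, hne⟩))
  subst hi0
  have hsq : (a ^ m) ^ 2 = 1 := orderOf_eq_one_iff.1 (by rw [hi, pow_zero])
  refine ⟨a ^ m, Invol.order_two_of_sq (by rwa [← pow_two]) fun h1 => ?_, hfam⟩
  rw [h1, map_one] at hfam
  rw [← hfam, orderOf_one] at hq
  exact absurd hq (by decide)

/-- Case B: every involution of `H` centralises `W`. -/
structure BHyp (H W : Subgroup G) : Prop extends Min H W where
  eight : ∃ A ≤ H, Cfsg.IsElementaryAbelian 2 A ∧ 8 ≤ Nat.card A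
  cent : ∀ t ∈ H, orderOf t = 2 → ∀ w ∈ W, w * t = t * w

namespace BHyp

variable (h : BHyp H W)
include h

/-- The base point. -/
def base (_ : BHyp H W) : G ⧸ H := ((1 : G) : G ⧸ H)

theorem base_fix {g : G} : g • h.base = h.base ↔ g ∈ H := fix_base_iff

theorem exists_ne_base : ∃ y : G ⧸ H, y ≠ h.base := by
  obtain ⟨g, hg⟩ := h.exists_out
  exact ⟨(g : G ⧸ H), fun e => hg (by
    rw [base, QuotientGroup.eq, mul_one, inv_mem_iff] at e; exact e)⟩

/-- The stabiliser in `H` of a second point is transitive on the involutions of `H`. -/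
theorem D_trans {y : G ⧸ H} (hy : y ≠ h.base) {a b : G} (ha : a ∈ H) (ha2 : orderOf a = 2) (hb : b ∈ H)
    (hb2 : orderOf b = 2) : ∃ d ∈ H, d • y = y ∧ d * a * d⁻¹ = b := by
  obtain ⟨v, hv, hvx, hvy⟩ := h.exists_swap (Ne.symm hy)
  obtain ⟨⟨w₁, hw₁, hw₁x⟩, hbij⟩ := (Invol.swap_conj_bijective h.se (Ne.symm hy)
    ⟨a, ha2, h.base_fix.2 ha⟩).2 ⟨v * b * v⁻¹, (Invol.order_conj v b).trans hb2, by
      rw [Invol.inv_self hv, mul_smul, mul_smul, hvy, h.base_fix.2 hb, hvx]⟩
  have hbij' : w₁ * a * w₁⁻¹ = v * b * v⁻¹ := congrArg Subtype.val hbij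
  have hw₁y : w₁ • y = h.base := by rw [← hw₁x, ← mul_smul, Invol.mul_self hw₁, one_smul]
  refine ⟨v⁻¹ * w₁, h.base_fix.1 ?_, ?_, ?_⟩
  · rw [mul_smul, hw₁x, Invol.inv_self hv, hvy]
  · rw [mul_smul, hw₁y, Invol.inv_self hv, hvx]
  · calc v⁻¹ * w₁ * a * (v⁻¹ * w₁)⁻¹ = v⁻¹ * (w₁ * a * w₁⁻¹) * v := by group
      _ = _ := by rw [hbij']; group

/-- Commuting with an involution of `H` modulo `W` is commuting. -/
theorem comm_of_mod {a x : G} (ha : a ∈ H) (ha2 : orderOf a = 2) (hx : x ∈ H)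
    (hm : a⁻¹ * (x * a * x⁻¹) ∈ W) : x * a = a * x := by
  set w := a⁻¹ * (x * a * x⁻¹) with hw
  have hwa : w * a = a * w := h.cent a ha ha2 w hm
  have ho : orderOf (a * w) = 2 := by
    rw [hw, mul_inv_cancel_left, Invol.order_conj, ha2]
  have h1 := Invol.mul_self ho
  have hw1 : w = 1 := Invol.eq_one_of_sq_of_odd (odd_order h.W_odd hm) (by
    rw [pow_two]
    calc w * w = a * a * (w * w) := by rw [Invol.mul_self ha2, one_mul]
      _ = a * (w * a) * w := by rw [hwa]; group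
      _ = a * w * (a * w) := by group
      _ = 1 := h1)
  rw [hw, inv_mul_eq_one] at hw1
  exact (eq_mul_inv_iff_mul_eq.1 hw1).symm

/-- The facts coming from the quotient by `W`. -/
theorem quot {a b : G} (ha : a ∈ H) (ha2 : orderOf a = 2) (hb : b ∈ H) (hb2 : orderOf b = 2) :
    a * b = b * a ∧ ∀ x, x * a = a * x → x * b = b * x := by
  classical
  set W' := W.subgroupOf H with hW'
  haveI : W'.Normal := normal_subgroupOf_of_le_normalizer h.W_normal
  set f := QuotientGroup.mk' W' with hf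
  have hker : Odd (Nat.card f.ker) := by
    rw [hf, QuotientGroup.ker_mk', hW', Nat.card_congr (subgroupOfEquivOfLe h.W_le).toEquiv]
    exact h.W_odd
  have hW1 : ∀ x : H, f x = 1 ↔ (x : G) ∈ W := fun x => QuotientGroup.eq_one_iff x
  have hcomm : ∀ x c : H, orderOf c = 2 → f x * f c = f c * f x → (x : G) * c = c * x := by
    intro x c hc hxc
    refine h.comm_of_mod c.2 (by rwa [Subgroup.orderOf_coe]) x.2 ((hW1 (c⁻¹ * (x * c * x⁻¹))).1 ?_)
    rw [map_mul, map_mul, map_mul, map_inv, map_inv, hxc, mul_inv_cancel_right, inv_mul_cancel]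
  have hord : ∀ c : H, orderOf c = 2 → orderOf (f c) = 2 := fun c hc =>
    Invol.order_two_of_sq (by rw [← map_mul, Invol.mul_self hc, map_one]) fun e => by
      have := odd_order h.W_odd ((hW1 c).1 e)
      rw [Subgroup.orderOf_coe, hc] at this
      exact absurd this (by decide)
  obtain ⟨y, hy⟩ := h.exists_ne_base
  set D' : Subgroup H := (MulAction.stabilizer G y).subgroupOf H with hD'
  have hreg : CITReg.Reg (D'.map f) := by
    refine ⟨fun q hq => ?_, ?_, ?_, ?_⟩
    · obtain ⟨c, hc, rfl⟩ := exists_invol_lift f (QuotientGroup.mk'_surjective _) hker hq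
      intro z
      obtain ⟨z, hz⟩ := z
      obtain ⟨x, rfl⟩ := QuotientGroup.mk'_surjective W' z
      obtain ⟨e, m, hm, hem⟩ := Nat.exists_eq_two_pow_mul_odd (orderOf_pos (f x)).ne'
      refine ⟨e, Subtype.ext ?_⟩
      show f x ^ 2 ^ e = 1
      have hodd : Odd (orderOf (f x ^ 2 ^ e)) := by
        rw [orderOf_pow_of_dvd (pow_ne_zero _ two_ne_zero) (hem ▸ dvd_mul_right _ m), hem,
          Nat.mul_div_cancel_left _ (Nat.two_pow_pos e)]
        exact hm
      rw [← map_pow] at hodd ⊢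
      obtain ⟨k, hk, hkx⟩ := exists_odd_lift f hodd
      rw [← hkx, hW1]
      refine h.core c c.2 (by rwa [Subgroup.orderOf_coe]) _ (by rwa [Subgroup.orderOf_coe]) ?_
      refine hcomm _ c hc ?_
      rw [hkx, map_pow]
      exact ((show Commute (f x) (f c) from mem_centralizer_singleton_iff.1 hz).pow_left _).eq
    · refine Odd.of_dvd_nat ?_ (card_map_dvd D' f)
      refine odd_card_of_orders fun d hd hd2 => ?_
      have := h.odd_of_two hy (d := (d : G)) (x := y) (y := h.base) hd (h.base_fix.2 d.2)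
      rw [Subgroup.orderOf_coe, hd2] at this
      exact absurd this (by decide)
    · intro p q hp hq
      obtain ⟨c, hc, rfl⟩ := exists_invol_lift f (QuotientGroup.mk'_surjective _) hker hp
      obtain ⟨e, he, rfl⟩ := exists_invol_lift f (QuotientGroup.mk'_surjective _) hker hq
      obtain ⟨d, hdH, hdy, hdc⟩ := h.D_trans hy c.2 (by rwa [Subgroup.orderOf_coe]) e.2
        (by rwa [Subgroup.orderOf_coe])
      refine ⟨f ⟨d, hdH⟩, mem_map_of_mem f hdy, ?_⟩
      rw [← map_inv, ← map_mul, ← map_mul]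
      exact congrArg f (Subtype.ext hdc)
    · obtain ⟨A, hAH, hA, h8⟩ := h.eight
      haveI := hA.1
      have hsq : ∀ x ∈ A.subgroupOf H, f x * f x = 1 := fun x hx => by
        rw [← map_mul, ← map_one f]
        exact congrArg f (Subtype.ext (by simpa [pow_two] using hA.2 _ (mem_subgroupOf.1 hx)))
      refine ⟨(A.subgroupOf H).map f, ⟨?_, ?_⟩, ?_⟩
      · rintro _ ⟨x, hx, rfl⟩; exact hsq x hx
      · rintro _ ⟨x, hx, rfl⟩ _ ⟨z, hz, rfl⟩
        rw [← map_mul, ← map_mul]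
        exact congrArg f (Subtype.ext (setLike_mul_comm (mem_subgroupOf.1 hx) (mem_subgroupOf.1 hz)))
      · have hinj : Set.InjOn f (A.subgroupOf H : Subgroup H) := by
          intro x hx z hz hxz
          have h1 : ((x⁻¹ * z : H) : G) ∈ W := (hW1 _).1 (by rw [map_mul, map_inv, hxz, inv_mul_cancel])
          have h2 : ((x⁻¹ * z : H) : G) ^ 2 = 1 := hA.2 _ (mem_subgroupOf.1 (mul_mem (inv_mem hx) hz))
          have h3 := Invol.eq_one_of_sq_of_odd (odd_order h.W_odd h1) h2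
          exact inv_mul_eq_one.1 (Subtype.ext h3)
        refine h8.trans (le_of_eq ?_)
        rw [← Nat.card_congr (subgroupOfEquivOfLe hAH).toEquiv]
        exact (Nat.card_image_of_injOn hinj).symm
  have hfa := hord ⟨a, ha⟩ (by rwa [Subgroup.orderOf_mk])
  have hfb := hord ⟨b, hb⟩ (by rwa [Subgroup.orderOf_mk])
  refine ⟨hcomm ⟨a, ha⟩ ⟨b, hb⟩ (by rwa [Subgroup.orderOf_mk]) (hreg.invol_comm hfa hfb), fun x hx => ?_⟩
  have hxH : x ∈ H := Invol.se_centralizer_le h.se ha2 ha (mem_centralizer_singleton_iff.2 hx)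
  refine hcomm ⟨x, hxH⟩ ⟨b, hb⟩ (by rwa [Subgroup.orderOf_mk]) (mem_centralizer_singleton_iff.1 ?_)
  rw [hreg.cent_eq hfb, ← hreg.cent_eq hfa]
  refine mem_centralizer_singleton_iff.2 ?_
  rw [← map_mul, ← map_mul]
  exact congrArg f (Subtype.ext hx)

/-- The common centraliser of the involutions of `H`. -/
noncomputable def U (h : BHyp H W) : Subgroup G :=
  centralizer ({h.toMin.toHyp.exists_invol.choose} : Set G)

theorem cent_eq_U {a : G} (ha : a ∈ H) (ha2 : orderOf a = 2) :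
    centralizer ({a} : Set G) = h.U := by
  obtain ⟨htH, ht⟩ := h.toMin.toHyp.exists_invol.choose_spec
  ext x
  rw [U, mem_centralizer_singleton_iff, mem_centralizer_singleton_iff]
  exact ⟨(h.quot ha ha2 htH ht).2 x, (h.quot htH ht ha ha2).2 x⟩

theorem U_le : h.U ≤ H :=
  Invol.se_centralizer_le h.se h.toMin.toHyp.exists_invol.choose_spec.2
    h.toMin.toHyp.exists_invol.choose_spec.1

theorem W_le_U : W ≤ h.U := fun w hw => mem_centralizer_singleton_iff.2
  (h.cent _ h.toMin.toHyp.exists_invol.choose_spec.1 h.toMin.toHyp.exists_invol.choose_spec.2 w hw)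

theorem U_comm {a x : G} (ha : a ∈ H) (ha2 : orderOf a = 2) (hx : x ∈ h.U) : x * a = a * x :=
  mem_centralizer_singleton_iff.1 (h.cent_eq_U ha ha2 ▸ hx)

theorem mem_U {a x : G} (ha : a ∈ H) (ha2 : orderOf a = 2) (hc : x * a = a * x) : x ∈ h.U :=
  h.cent_eq_U ha ha2 ▸ mem_centralizer_singleton_iff.2 hc

theorem U_norm {g x : G} (hg : g ∈ H) (hx : x ∈ h.U) : g * x * g⁻¹ ∈ h.U := by
  obtain ⟨t, htH, ht⟩ := h.exists_invol
  refine h.mem_U (mul_mem (mul_mem hg htH) (inv_mem hg)) ((Invol.order_conj g t).trans ht) ?_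
  calc g * x * g⁻¹ * (g * t * g⁻¹) = g * (x * t) * g⁻¹ := by group
    _ = g * (t * x) * g⁻¹ := by rw [h.U_comm htH ht hx]
    _ = _ := by group

theorem invol_mem_U {a : G} (ha : a ∈ H) (ha2 : orderOf a = 2) : a ∈ h.U :=
  h.mem_U ha ha2 rfl

theorem invol_comm {a b : G} (ha : a ∈ H) (ha2 : orderOf a = 2) (hb : b ∈ H) (hb2 : orderOf b = 2) :
    a * b = b * a :=
  (h.quot ha ha2 hb hb2).1

theorem odd_U {x : G} (hx : x ∈ h.U) (ho : Odd (orderOf x)) : x ∈ W := by
  obtain ⟨t, htH, ht⟩ := h.exists_invol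
  exact h.core t htH ht x ho (h.U_comm htH ht hx)

/-- `H` is covered by `U` and the stabiliser of a second point. -/
theorem exists_D_mul {y : G ⧸ H} (hy : y ≠ h.base) {g : G} (hg : g ∈ H) :
    ∃ d ∈ H, d • y = y ∧ d⁻¹ * g ∈ h.U := by
  obtain ⟨t, htH, ht⟩ := h.exists_invol
  obtain ⟨d, hdH, hdy, hd⟩ := h.D_trans hy htH ht (mul_mem (mul_mem hg htH) (inv_mem hg))
    ((Invol.order_conj g t).trans ht)
  refine ⟨d, hdH, hdy, h.mem_U htH ht ?_⟩
  calc d⁻¹ * g * t = d⁻¹ * (g * t * g⁻¹) * g := by group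
    _ = d⁻¹ * (d * t * d⁻¹) * g := by rw [hd]
    _ = _ := by group

/-- The 2-elements of `H` lie in `U`. -/
theorem two_mem_U {g : G} (hg : g ∈ H) {e : ℕ} (he : orderOf g = 2 ^ e) : g ∈ h.U := by
  obtain ⟨y, hy⟩ := h.exists_ne_base
  obtain ⟨d, hdH, hdy, hd⟩ := h.exists_D_mul hy hg
  have key : ∀ i : ℕ, (d ^ i)⁻¹ * g ^ i ∈ h.U := by
    intro i
    induction i with
    | zero => simpa using h.U.one_mem
    | succ i ih =>
      rw [pow_succ d, pow_succ g, show (d ^ i * d)⁻¹ * (g ^ i * g) =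
        d⁻¹ * ((d ^ i)⁻¹ * g ^ i) * (d⁻¹)⁻¹ * (d⁻¹ * g) by group]
      exact mul_mem (h.U_norm (inv_mem hdH) ih) hd
  have hodd := h.odd_of_two hy (d := d) hdy (h.base_fix.2 hdH)
  have hmem := key (orderOf d)
  rw [pow_orderOf_eq_one, inv_one, one_mul] at hmem
  have hc : Nat.Coprime (orderOf d) (orderOf g) := by
    rw [he]; exact (Nat.coprime_two_right.2 hodd).pow_right e
  obtain ⟨k, hk⟩ := exists_pow_eq_self_of_coprime (x := g) hc
  rw [← hk]
  exact pow_mem hmem k

/-- An element of odd order commuting modulo `W` with a nontrivial 2-element lies in `W`. -/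
theorem cit {k a : G} (hk : k ∈ H) {e : ℕ} (hke : orderOf k = 2 ^ e) (hk1 : k ≠ 1) (ha : a ∈ H)
    (hao : Odd (orderOf a)) (hc : k⁻¹ * (a * k * a⁻¹) ∈ W) : a ∈ W := by
  -- the involution among the powers of `k`
  have he : 1 ≤ e := by
    by_contra hc
    obtain rfl : e = 0 := by omega
    exact hk1 (orderOf_eq_one_iff.1 (by rw [hke, pow_zero]))
  have hi : orderOf (k ^ 2 ^ (e - 1)) = 2 := by
    rw [orderOf_pow_of_dvd (pow_ne_zero _ two_ne_zero) (hke ▸ pow_dvd_pow 2 (Nat.sub_le e 1)), hke,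
      Nat.pow_div (Nat.sub_le e 1) two_pos, show e - (e - 1) = 1 by omega, pow_one]
  have key : ∀ j : ℕ, (k ^ j)⁻¹ * (a * k ^ j * a⁻¹) ∈ W := by
    intro j
    induction j with
    | zero => simpa using W.one_mem
    | succ j ih =>
      rw [pow_succ, show (k ^ j * k)⁻¹ * (a * (k ^ j * k) * a⁻¹) =
        k⁻¹ * ((k ^ j)⁻¹ * (a * k ^ j * a⁻¹)) * (k⁻¹)⁻¹ * (k⁻¹ * (a * k * a⁻¹)) by group]
      exact W.mul_mem (h.W_norm _ (inv_mem hk) _ ih) hc
  exact h.core _ (pow_mem hk _) hi a hao (h.comm_of_mod (pow_mem hk _) hi ha (key _))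

/-- An involution of `H` inverts no nontrivial element of odd order of `H`. -/
theorem not_inverts {v k : G} (hv : v ∈ H) (hv2 : orderOf v = 2) (hk : k ∈ H) (hko : Odd (orderOf k))
    (he : v * k * v⁻¹ = k⁻¹) : k = 1 := by
  have hc := h.invol_comm (mul_mem (mul_mem hk hv) (inv_mem hk)) ((Invol.order_conj k v).trans hv2) hv hv2
  have h1 : k * v * k⁻¹ = k * k * v := by
    rw [← he, show k * v * (v * k * v⁻¹) = k * (v * v) * k * v⁻¹ by group, Invol.mul_self hv2, mul_one,
      Invol.inv_self hv2]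
  rw [h1] at hc
  have hkk : v * (k * k) * v⁻¹ = k * k := by
    calc v * (k * k) * v⁻¹ = v * (k * k * v) * (v⁻¹ * v⁻¹) := by group
      _ = k * k * v * v * (v * v)⁻¹ := by rw [← hc]; group
      _ = k * k := by simp [mul_assoc, Invol.mul_self hv2]
  have hinv : v * (k * k) * v⁻¹ = k⁻¹ * k⁻¹ := by rw [← he]; group
  rw [hinv] at hkk
  have h4 : (k ^ 2) ^ 2 = 1 := by
    rw [pow_two, pow_two]
    nth_rw 1 [← hkk]
    group
  exact Invol.eq_one_of_sq_of_odd hko (Invol.eq_one_of_sq_of_odd (hko.of_dvd_nat (orderOf_pow_dvd 2)) h4)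

/-- `H` has at least seven involutions. -/
theorem seven [Fintype G] [DecidableEq G] [DecidablePred (· ∈ H)] :
    7 ≤ (Finset.univ.filter fun v : G => v ∈ H ∧ orderOf v = 2).card := by
  classical
  obtain ⟨A, hAH, hA, h8⟩ := h.eight
  have hsub : ((Finset.univ.filter fun v : G => v ∈ A).erase 1) ⊆
      Finset.univ.filter fun v : G => v ∈ H ∧ orderOf v = 2 := by
    intro v hv
    obtain ⟨hv1, hvA⟩ := Finset.mem_erase.1 hv
    have hvA' := (Finset.mem_filter.1 hvA).2
    exact Finset.mem_filter.2 ⟨Finset.mem_univ v, hAH hvA',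
      Invol.order_two_of_sq (by rw [← pow_two]; exact hA.2 v hvA') hv1⟩
  refine le_trans ?_ (Finset.card_le_card hsub)
  have hc : (Finset.univ.filter fun v : G => v ∈ A).card = Nat.card A := by
    rw [Nat.card_eq_fintype_card, ← Fintype.card_subtype]
  rw [Finset.card_erase_of_mem (by simp [A.one_mem]), hc]
  omega

end BHyp

end Cfsg.Agent.SEBrick
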