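import Cfsg.Agent.Lib.Char.CyclicTI.Basic
import Cfsg.Agent.Lib.Char.Coherence
import Cfsg.Agent.Lib.Char.Degree
import Cfsg.Agent.Lib.Small.ClassCount
import Cfsg.Agent.Lib.Involutions.StronglyEmbedded
import Cfsg.Agent.Lib.Involutions.SwapCount
import Cfsg.Prelude.Def_Involutions

/-!
Class functions supported on the two-singular elements `W × (S \ 1)` of a strongly embedded
subgroup, induced to the whole group.
-/

set_option autoImplicit false
set_option linter.style.haveILetI false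
set_option linter.unusedSectionVars false

namespace Cfsg.Agent.SEBrick

open Cfsg Cfsg.Agent.Char Subgroup
open scoped ComplexConjugate

universe u

variable {G : Type u} [Group G]

/-- The configuration: `W × S` is the centraliser of every involution of `H`. -/
structure Cfg (H W S : Subgroup G) (t : G) : Prop where
  se : Cfsg.IsStronglyEmbedded H
  W_le : W ≤ H
  S_le : S ≤ H
  W_norm : ∀ h ∈ H, ∀ w ∈ W, h * w * h⁻¹ ∈ W
  S_norm : ∀ h ∈ H, ∀ s ∈ S, h * s * h⁻¹ ∈ S
  comm : ∀ w ∈ W, ∀ s ∈ S, w * s = s * w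
  W_odd : Odd (Nat.card W)
  S_two : IsPGroup 2 S
  t_mem : t ∈ S
  t_inv : orderOf t = 2
  invol_H : ∀ v ∈ H, orderOf v = 2 → v ∈ S
  central : ∀ v ∈ S, orderOf v = 2 → ∀ s ∈ S, v * s = s * v
  trans : ∀ v ∈ S, orderOf v = 2 → ∃ h ∈ H, h⁻¹ * t * h = v
  cent : Subgroup.centralizer ({t} : Set G) = W ⊔ S

namespace Cfg

variable [Fintype G] {H W S : Subgroup G} {t : G} (C : Cfg H W S t)
include C

theorem disj : W ⊓ S = ⊥ := by
  refine (eq_bot_iff_forall _).2 fun x hx => ?_
  obtain ⟨hxW, hxS⟩ := mem_inf.1 hx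
  obtain ⟨k, hk⟩ := (IsPGroup.iff_orderOf.1 C.S_two) ⟨x, hxS⟩
  rw [Subgroup.orderOf_mk] at hk
  have hodd : Odd (orderOf x) := C.W_odd.of_dvd_nat (Subgroup.orderOf_dvd_natCard W hxW)
  rw [hk] at hodd
  rcases Nat.eq_zero_or_pos k with rfl | hk0
  · exact orderOf_eq_one_iff.1 (by rw [hk, pow_zero])
  · exact absurd hodd (Nat.not_odd_iff_even.2 (by
      exact Nat.even_pow.2 ⟨even_two, hk0.ne'⟩))

theorem split : CyclicTI.Split W S := ⟨C.disj, C.comm⟩

theorem U_le : W ⊔ S ≤ H := sup_le C.W_le C.S_le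

theorem card_U : Nat.card ↥(W ⊔ S) = Nat.card W * Nat.card S := by
  rw [← Nat.card_congr (CyclicTI.prodIso C.split).toEquiv, Nat.card_prod]

theorem U_commute {v : G} (hv : v ∈ S) (hvo : orderOf v = 2) {x : G} (hx : x ∈ W ⊔ S) :
    v * x = x * v := by
  have h1 : W ⊔ S ≤ centralizer ({v} : Set G) := sup_le
    (fun w hw => mem_centralizer_singleton_iff.2 (C.comm w hw v hv))
    (fun s hs => mem_centralizer_singleton_iff.2 (C.central v hv hvo s hs).symm)
  exact (mem_centralizer_singleton_iff.1 (h1 hx)).symm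

/-- An element of `W ⊔ S` of square one lies in `S`. -/
theorem mem_S_of_sq {x : G} (hx : x ∈ W ⊔ S) (h2 : x * x = 1) : x ∈ S := by
  have := (CyclicTI.proj1_eq_one_iff C.split ⟨x, hx⟩).1
  refine this ?_
  have h3 : (CyclicTI.proj1 C.split ⟨x, hx⟩) ^ 2 = 1 := by
    rw [← map_pow, show (⟨x, hx⟩ : ↥(W ⊔ S)) ^ 2 = 1 from Subtype.ext (by simp [pow_two, h2]), map_one]
  refine (orderOf_eq_one_iff).1 (Nat.eq_one_of_dvd_coprimes ?_ (orderOf_dvd_of_pow_eq_one h3)
    (orderOf_dvd_natCard _))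
  exact (Nat.coprime_two_left).2 C.W_odd

/-- A two-singular element of `W ⊔ S` has an involution of `S` as a power. -/
theorem exists_invol_pow {x : G} (hx : x ∈ W ⊔ S) (hxW : x ∉ W) :
    ∃ k : ℕ, orderOf (x ^ k) = 2 ∧ x ^ k ∈ S := by
  have hev : 2 ∣ orderOf x := by
    by_contra hodd
    refine hxW ((CyclicTI.proj2_eq_one_iff C.split ⟨x, hx⟩).1 ?_)
    obtain ⟨k, hk⟩ := (IsPGroup.iff_orderOf.1 C.S_two) (CyclicTI.proj2 C.split ⟨x, hx⟩)
    have hd : orderOf (CyclicTI.proj2 C.split ⟨x, hx⟩) ∣ orderOf x := by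
      rw [← Subgroup.orderOf_mk x hx]
      exact orderOf_map_dvd _ _
    rw [hk] at hd
    rcases Nat.eq_zero_or_pos k with rfl | hk0
    · exact orderOf_eq_one_iff.1 (by rw [hk, pow_zero])
    · exact absurd ((dvd_pow_self 2 hk0.ne').trans hd) hodd
  refine ⟨orderOf x / 2, ?_⟩
  have ho : orderOf (x ^ (orderOf x / 2)) = 2 := by
    rw [orderOf_pow_of_dvd ?_ (Nat.div_dvd_of_dvd hev), Nat.div_div_self hev (orderOf_pos x).ne']
    have := orderOf_pos x
    obtain ⟨j, hj⟩ := hev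
    omega
  exact ⟨ho, C.mem_S_of_sq (pow_mem hx _) (by
    rw [← pow_two]
    exact (congrArg ((x ^ (orderOf x / 2)) ^ ·) ho.symm).trans (pow_orderOf_eq_one _))⟩

/-- Elements moving a two-singular element inside `W ⊔ S` lie in `H`. -/
theorem ti {g x : G} (hx : x ∈ W ⊔ S) (hxW : x ∉ W) (hg : g * x * g⁻¹ ∈ W ⊔ S) : g ∈ H := by
  obtain ⟨k, hk, hkS⟩ := C.exists_invol_pow hx hxW
  refine Invol.se_mem_of_conj C.se hk (C.S_le hkS) ?_
  rw [← conj_pow]
  exact C.U_le (pow_mem hg k)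

end Cfg

/-- The involutions of `S`, as a set of elements of the group. -/
noncomputable def vset [Fintype G] (S : Subgroup G) : Finset G := by
  classical exact Finset.univ.filter fun v => v ∈ S ∧ orderOf v = 2

theorem mem_vset [Fintype G] {S : Subgroup G} {v : G} : v ∈ vset S ↔ v ∈ S ∧ orderOf v = 2 := by
  classical simp [vset]

section Fun

variable [Fintype G] {H W S : Subgroup G} {t : G}

/-- Conjugation by an element of `H` on a normal part. -/
noncomputable def cj {K : Subgroup G} (hK : ∀ h ∈ H, ∀ w ∈ K, h * w * h⁻¹ ∈ K) (h : H) : K →* K where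
  toFun w := ⟨(h : G)⁻¹ * w * h, by simpa using hK _ (inv_mem h.2) w w.2⟩
  map_one' := Subtype.ext (by simp)
  map_mul' a b := Subtype.ext (by simp [mul_assoc])

@[simp] theorem coe_cj {K : Subgroup G} (hK : ∀ h ∈ H, ∀ w ∈ K, h * w * h⁻¹ ∈ K) (h : H) (w : K) :
    ((cj hK h w : K) : G) = (h : G)⁻¹ * w * h := rfl

theorem cj_surjective {K : Subgroup G} (hK : ∀ h ∈ H, ∀ w ∈ K, h * w * h⁻¹ ∈ K) (h : H) :
    Function.Surjective (cj hK h) := fun w => ⟨cj hK h⁻¹ w, Subtype.ext (by simp [mul_assoc])⟩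

theorem cj_comp_apply {K : Subgroup G} (hK : ∀ h ∈ H, ∀ w ∈ K, h * w * h⁻¹ ∈ K) (a b : H) (w : K) :
    cj hK b (cj hK a w) = cj hK (a * b) w := Subtype.ext (by simp [mul_assoc])

variable (C : Cfg H W S t)
include C

/-- The product of a function on `W` and a function on `S`. -/
noncomputable def tens (α : W → ℂ) (β : S → ℂ) : ↥(W ⊔ S) → ℂ := fun x =>
  α (CyclicTI.proj1 C.split x) * β (CyclicTI.proj2 C.split x)

/-- The induced function. -/
noncomputable def tau (α : W → ℂ) (β : S → ℂ) : G → ℂ := Cfsg.indFun (W ⊔ S) (tens C α β)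

theorem tens_apply_mul (α : W → ℂ) (β : S → ℂ) (w : W) (s : S) :
    tens C α β (CyclicTI.inc1 W S w * CyclicTI.inc2 W S s) = α w * β s := by
  simp [tens]

theorem tens_isClassFunction {α : W → ℂ} {β : S → ℂ} (hα : Cfsg.IsClassFunction W α)
    (hβ : Cfsg.IsClassFunction S β) : Cfsg.IsClassFunction _ (tens C α β) := by
  intro x y
  simp only [tens, map_mul, map_inv]
  rw [hα, hβ]

theorem isGenChar_tens {α : W → ℂ} {β : S → ℂ} (hα : Cfsg.IsGeneralizedCharacter W α)
    (hβ : Cfsg.IsGeneralizedCharacter S β) : Cfsg.IsGeneralizedCharacter _ (tens C α β) :=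
  IsGeneralizedCharacter.mul (IsGeneralizedCharacter.comp hα (CyclicTI.proj1 C.split))
    (IsGeneralizedCharacter.comp hβ (CyclicTI.proj2 C.split))

theorem sum_U (F : ↥(W ⊔ S) → ℂ) [Fintype ↥(W ⊔ S)] [Fintype W] [Fintype S] :
    ∑ x, F x = ∑ w : W, ∑ s : S, F (CyclicTI.inc1 W S w * CyclicTI.inc2 W S s) := by
  rw [← Fintype.sum_prod_type']
  exact (Fintype.sum_equiv (CyclicTI.prodIso C.split).toEquiv _ _ fun p => rfl).symm

theorem classInner_tens [Fintype ↥(W ⊔ S)] [Fintype W] [Fintype S] (α α' : W → ℂ) (β β' : S → ℂ) :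
    Cfsg.classInner (tens C α β) (tens C α' β') = Cfsg.classInner α α' * Cfsg.classInner β β' := by
  simp only [Cfsg.classInner, C.card_U, Nat.cast_mul, mul_inv]
  rw [sum_U C, mul_mul_mul_comm, Finset.sum_mul_sum]
  congr 1
  refine Finset.sum_congr rfl fun w _ => Finset.sum_congr rfl fun s _ => ?_
  rw [tens_apply_mul, tens_apply_mul, map_mul]
  ring

theorem tens_eq_zero {α : W → ℂ} {β : S → ℂ} (hβ : β 1 = 0) {x : ↥(W ⊔ S)} (hx : (x : G) ∈ W) :
    tens C α β x = 0 := by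
  simp [tens, (CyclicTI.proj2_eq_one_iff C.split x).2 hx, hβ]

theorem tau_one {α : W → ℂ} {β : S → ℂ} (hβ : β 1 = 0) : tau C α β 1 = 0 := by
  rw [tau, indFun_one_apply, tens_eq_zero C hβ (by simp), mul_zero]

/-- Values on the two-singular elements. -/
theorem tau_apply [Fintype H] {α : W → ℂ} {β : S → ℂ} (hβ : β 1 = 0) {x : ↥(W ⊔ S)}
    (hx : (x : G) ∉ W) :
    tau C α β x = (Nat.card ↥(W ⊔ S) : ℂ)⁻¹ *
      ∑ h : H, tens C (fun w => α (cj C.W_norm h w)) (fun s => β (cj C.S_norm h s)) x := by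
  classical
  rw [tau, indFun_apply]
  congr 1
  have key : ∀ g : G, Cfsg.extendByZero (W ⊔ S) (tens C α β) (g⁻¹ * x * g) ≠ 0 → g ∈ H := by
    intro g hg
    by_cases hm : g⁻¹ * (x : G) * g ∈ W ⊔ S
    · rw [extendByZero_mem _ _ hm] at hg
      have hnW : g⁻¹ * (x : G) * g ∉ W := fun h => hg (tens_eq_zero C hβ h)
      exact C.ti (g := g) hm hnW (by
        rw [show g * (g⁻¹ * (x : G) * g) * g⁻¹ = x by group]; exact x.2)
    · exact absurd (extendByZero_not_mem _ _ hm) hg
  rw [← Finset.sum_filter_of_ne (p := fun g => g ∈ H) fun g _ hg => key g hg]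
  rw [Finset.sum_subtype (p := fun g => g ∈ H) _ (by simp)
    (fun g => Cfsg.extendByZero (W ⊔ S) (tens C α β) (g⁻¹ * x * g))]
  refine Finset.sum_congr rfl fun h _ => ?_
  obtain ⟨w, s, rfl⟩ : ∃ w s, CyclicTI.inc1 W S w * CyclicTI.inc2 W S s = x :=
    ⟨_, _, CyclicTI.decomp C.split x⟩
  rw [tens_apply_mul]
  have e : (h : G)⁻¹ * ((CyclicTI.inc1 W S w * CyclicTI.inc2 W S s : ↥(W ⊔ S)) : G) * h =
      ((CyclicTI.inc1 W S (cj C.W_norm h w) * CyclicTI.inc2 W S (cj C.S_norm h s) : ↥(W ⊔ S)) : G) := by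
    simp [mul_assoc]
  rw [e, extendByZero_coe, tens_apply_mul]

/-- The inner product of two induced functions. -/
theorem inner_tau [Fintype H] [Fintype ↥(W ⊔ S)] [Fintype W] [Fintype S] {α α' : W → ℂ}
    {β β' : S → ℂ} (hβ : β 1 = 0) (hβ' : β' 1 = 0) :
    Cfsg.classInner (tau C α β) (tau C α' β') = (Nat.card ↥(W ⊔ S) : ℂ)⁻¹ *
      ∑ h : H, Cfsg.classInner α (fun w => α' (cj C.W_norm h w)) *
        Cfsg.classInner β (fun s => β' (cj C.S_norm h s)) := by
  classical
  rw [show tau C α β = Cfsg.indFun (W ⊔ S) (tens C α β) from rfl,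
    classInner_indFun_left _ _ (χ := tau C α' β') (isClassFunction_indFun _ _)]
  have e : Cfsg.classInner (tens C α β) (fun x : ↥(W ⊔ S) => tau C α' β' x) =
      Cfsg.classInner (tens C α β) ((Nat.card ↥(W ⊔ S) : ℂ)⁻¹ •
        ∑ h : H, tens C (fun w => α' (cj C.W_norm h w)) (fun s => β' (cj C.S_norm h s))) := by
    simp only [Cfsg.classInner]
    congr 1
    refine Finset.sum_congr rfl fun x _ => ?_
    by_cases hx : (x : G) ∈ W
    · simp [tens_eq_zero C hβ hx]
    · rw [tau_apply C hβ' hx, Pi.smul_apply, Finset.sum_apply, smul_eq_mul]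
  refine e.trans ?_
  rw [classInner_smul_right, map_inv₀, map_natCast, classInner_sum_right]
  congr 1
  exact Finset.sum_congr rfl fun h _ => classInner_tens C _ _ _ _

theorem cj_W_of_mem_U {α : W → ℂ} (hα : Cfsg.IsClassFunction W α) {h : H} (hh : (h : G) ∈ W ⊔ S)
    (w : W) : α (cj C.W_norm h w) = α w := by
  obtain ⟨a, b, hab⟩ : ∃ a b, CyclicTI.inc1 W S a * CyclicTI.inc2 W S b = ⟨(h : G), hh⟩ :=
    ⟨_, _, CyclicTI.decomp C.split _⟩
  have hab' : (a : G) * b = h := congrArg Subtype.val hab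
  have : cj C.W_norm h w = a⁻¹ * w * a := by
    refine Subtype.ext ?_
    rw [coe_cj, ← hab']
    have hc : ((a⁻¹ * w * a : W) : G) * b = b * ((a⁻¹ * w * a : W) : G) := C.comm _ (Subtype.prop _) _ b.2
    simp only [coe_mul, coe_inv] at hc ⊢
    calc ((a : G) * b)⁻¹ * w * ((a : G) * b) = (b : G)⁻¹ * ((a : G)⁻¹ * w * a * b) := by group
      _ = _ := by rw [hc]; group
  rw [this]
  simpa using hα w a⁻¹

theorem cj_S_of_mem_U {β : S → ℂ} (hβ : Cfsg.IsClassFunction S β) {h : H} (hh : (h : G) ∈ W ⊔ S)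
    (s : S) : β (cj C.S_norm h s) = β s := by
  obtain ⟨a, b, hab⟩ : ∃ a b, CyclicTI.inc1 W S a * CyclicTI.inc2 W S b = ⟨(h : G), hh⟩ :=
    ⟨_, _, CyclicTI.decomp C.split _⟩
  have hab' : (a : G) * b = h := congrArg Subtype.val hab
  have : cj C.S_norm h s = b⁻¹ * s * b := by
    refine Subtype.ext ?_
    rw [coe_cj, ← hab']
    have hc : (a : G) * s = s * a := C.comm _ a.2 _ s.2
    simp only [coe_mul, coe_inv]
    calc ((a : G) * b)⁻¹ * s * ((a : G) * b) = (b : G)⁻¹ * ((a : G)⁻¹ * (s * a)) * b := by group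
      _ = _ := by rw [← hc]; group
  rw [this]
  simpa using hβ s b⁻¹

/-- The isometry, when the conjugates of `α'` outside `W ⊔ S` are orthogonal to `α`. -/
theorem inner_tau_free [Fintype H] [Fintype ↥(W ⊔ S)] [Fintype W] [Fintype S] {α α' : W → ℂ}
    {β β' : S → ℂ} (hα' : Cfsg.IsClassFunction W α') (hβc' : Cfsg.IsClassFunction S β')
    (hβ : β 1 = 0) (hβ' : β' 1 = 0)
    (hfree : ∀ h : H, (h : G) ∉ W ⊔ S → Cfsg.classInner α (fun w => α' (cj C.W_norm h w)) = 0) :
    Cfsg.classInner (tau C α β) (tau C α' β') = Cfsg.classInner α α' * Cfsg.classInner β β' := by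
  classical
  rw [inner_tau C hβ hβ']
  rw [← Finset.sum_filter_of_ne (p := fun h : H => (h : G) ∈ W ⊔ S) (fun h _ hne => by
    by_contra hh
    exact hne (by rw [hfree h hh, zero_mul]))]
  rw [Finset.sum_congr rfl (g := fun _ => Cfsg.classInner α α' * Cfsg.classInner β β') fun h hh => by
    have hU := (Finset.mem_filter.1 hh).2
    rw [show (fun w => α' (cj C.W_norm h w)) = α' from funext fun w => cj_W_of_mem_U C hα' hU w,
      show (fun s => β' (cj C.S_norm h s)) = β' from funext fun s => cj_S_of_mem_U C hβc' hU s]]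
  rw [Finset.sum_const, nsmul_eq_mul, ← Fintype.card_subtype, ← Nat.card_eq_fintype_card,
    show Nat.card {h : H // (h : G) ∈ W ⊔ S} = Nat.card ↥(W ⊔ S) from
      Nat.card_congr ⟨fun h => ⟨_, h.2⟩, fun x => ⟨⟨x, C.U_le x.2⟩, x.2⟩, fun _ => rfl, fun _ => rfl⟩,
    ← mul_assoc, inv_mul_cancel₀ (Nat.cast_ne_zero.2 Nat.card_pos.ne'), one_mul]

/-- The value at the involution `t`. -/
theorem tau_t {α : W → ℂ} {β : S → ℂ} :
    tau C α β t = α 1 * ∑ v ∈ vset S, Cfsg.extendByZero S β v := by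
  classical
  rw [tau, indFun_apply]
  have htt : t * t = 1 := by
    rw [← pow_two]; nth_rw 1 [← C.t_inv]; exact pow_orderOf_eq_one t
  have hval : ∀ g : G, Cfsg.extendByZero (W ⊔ S) (tens C α β) (g⁻¹ * t * g) =
      if g⁻¹ * t * g ∈ vset S then α 1 * Cfsg.extendByZero S β (g⁻¹ * t * g) else 0 := by
    intro g
    have ho : orderOf (g⁻¹ * t * g) = 2 := by
      rw [← C.t_inv]
      simpa using Invol.order_conj g⁻¹ t
    split_ifs with hv
    · have hS := (mem_vset.1 hv).1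
      rw [extendByZero_mem _ _ (mem_sup_right hS), extendByZero_mem _ _ hS,
        show (⟨g⁻¹ * t * g, mem_sup_right hS⟩ : ↥(W ⊔ S)) =
          CyclicTI.inc1 W S 1 * CyclicTI.inc2 W S ⟨_, hS⟩ from Subtype.ext (by simp), tens_apply_mul]
    · refine extendByZero_not_mem _ _ fun hU => hv (mem_vset.2 ⟨?_, ho⟩)
      exact C.mem_S_of_sq hU (by rw [← pow_two]; nth_rw 1 [← ho]; exact pow_orderOf_eq_one _)
  rw [Finset.sum_congr rfl fun g _ => hval g, ← Finset.sum_filter,
    ← Finset.sum_fiberwise_of_maps_to (t := vset S) (g := fun g => g⁻¹ * t * g)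
      fun g hg => (Finset.mem_filter.1 hg).2]
  have hfib : ∀ v ∈ vset S, ((Finset.univ.filter fun g : G => g⁻¹ * t * g ∈ vset S).filter
      fun g => g⁻¹ * t * g = v).card = Nat.card ↥(W ⊔ S) := by
    intro v hv
    obtain ⟨h, -, hh⟩ := C.trans v (mem_vset.1 hv).1 (mem_vset.1 hv).2
    rw [Finset.filter_filter, ← Fintype.card_subtype, ← Nat.card_eq_fintype_card]
    refine Nat.card_congr ((Equiv.mulRight h⁻¹).subtypeEquiv fun g => ?_)
    rw [← C.cent]
    simp only [Equiv.coe_mulRight, mem_centralizer_singleton_iff]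
    constructor
    · rintro ⟨-, he⟩
      rw [← hh] at he
      calc g * h⁻¹ * t = g * (h⁻¹ * t * h) * h⁻¹ := by group
        _ = t * (g * h⁻¹) := by rw [← he]; group
    · intro he
      have e : g⁻¹ * t * g = v := by
        rw [← hh]
        calc g⁻¹ * t * g = g⁻¹ * (t * (g * h⁻¹)) * h := by group
          _ = h⁻¹ * t * h := by rw [← he]; group
      exact ⟨e ▸ hv, e⟩
  rw [Finset.sum_congr rfl fun v hv => Finset.sum_congr rfl fun g hg => by
    rw [(Finset.mem_filter.1 hg).2]]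
  rw [Finset.sum_congr rfl fun v hv => by rw [Finset.sum_const, hfib v hv, nsmul_eq_mul],
    ← Finset.mul_sum, ← mul_assoc, inv_mul_cancel₀ (Nat.cast_ne_zero.2 Nat.card_pos.ne'), one_mul,
    Finset.mul_sum]

open scoped Classical in
/-- The number of ways of writing a two-singular element of `W ⊔ S` as a product of two involutions
conjugate to `t`. -/
theorem pairs {x : G} (hx : x ∈ W ⊔ S) (hxW : x ∉ W) :
    Nat.card {a : G // IsConj t a ∧ IsConj t (a⁻¹ * x)} =
      if x ∈ vset S then (vset S).card - 1 else 0 := by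
  classical
  have hconj : ∀ a : G, orderOf a = 2 → IsConj t a := fun a ha => Invol.se_isConj C.se C.t_inv ha
  have hord : ∀ a : G, IsConj t a → orderOf a = 2 := by
    intro a ha
    obtain ⟨c, rfl⟩ := isConj_iff.1 ha
    rw [Invol.order_conj, C.t_inv]
  have hU : ∀ a : G, IsConj t a → IsConj t (a⁻¹ * x) →
      a ∈ vset S ∧ x ∈ vset S ∧ a ≠ x := by
    intro a ha hb
    have hao := hord a ha
    have hbo := hord _ hb
    have haa := Invol.mul_self hao
    have hbb := Invol.mul_self hbo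
    have hinv : a * x * a⁻¹ = x⁻¹ := by
      rw [Invol.inv_self hao] at hbb ⊢
      refine eq_inv_of_mul_eq_one_left ?_
      calc a * x * a * x = (a * x) * (a * x) := by group
        _ = 1 := hbb
    obtain ⟨k, hk, hkS⟩ := C.exists_invol_pow hx hxW
    have haH : a ∈ H := Invol.se_centralizer_le C.se hk (C.S_le hkS) (mem_centralizer_singleton_iff.2 (by
      have e : a * x ^ k * a⁻¹ = x ^ k := by
        rw [← conj_pow, hinv, inv_pow, Invol.inv_self hk]
      exact mul_inv_eq_iff_eq_mul.1 e))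
    have haS := C.invol_H a haH hao
    refine ⟨mem_vset.2 ⟨haS, hao⟩, ?_, fun e => ?_⟩
    · rw [C.U_commute haS hao hx, mul_inv_cancel_right] at hinv
      have h2 : x * x = 1 := by nth_rw 1 [hinv]; exact inv_mul_cancel x
      refine mem_vset.2 ⟨C.mem_S_of_sq hx h2, orderOf_eq_prime (by rw [pow_two, h2]) fun e => ?_⟩
      exact hxW (e ▸ W.one_mem)
    · rw [e, inv_mul_cancel, orderOf_one] at hbo
      omega
  split_ifs with hv
  · rw [← Finset.card_erase_of_mem hv, ← Fintype.card_coe, ← Nat.card_eq_fintype_card]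
    refine Nat.card_congr (Equiv.subtypeEquivRight fun a => ?_)
    constructor
    · rintro ⟨ha, hb⟩
      exact Finset.mem_erase.2 ⟨(hU a ha hb).2.2, (hU a ha hb).1⟩
    · intro ha
      obtain ⟨hne, hav⟩ := Finset.mem_erase.1 ha
      obtain ⟨haS, hao⟩ := mem_vset.1 hav
      obtain ⟨hxS, hxo⟩ := mem_vset.1 hv
      refine ⟨hconj a hao, hconj _ (orderOf_eq_prime ?_ ?_)⟩
      · rw [Invol.inv_self hao, pow_two]
        calc a * x * (a * x) = a * (x * a) * x := by group
          _ = 1 := by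
            rw [← C.central a haS hao x hxS, ← mul_assoc, Invol.mul_self hao, one_mul,
              Invol.mul_self hxo]
      · rw [Ne, inv_mul_eq_one]
        exact hne
  · rw [Nat.card_eq_zero]
    exact Or.inl ⟨fun a => hv (hU a.1 a.2.1 a.2.2).2.1⟩

/-- The pairing of an induced function with the pair count. -/
theorem inner_pairs [Fintype ↥(W ⊔ S)] {α : W → ℂ} {β : S → ℂ} (hβ : β 1 = 0) :
    Cfsg.classInner (tau C α β)
        (fun g => (Nat.card {a : G // IsConj t a ∧ IsConj t (a⁻¹ * g)} : ℂ)) =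
      (Nat.card ↥(W ⊔ S) : ℂ)⁻¹ * ((((vset S).card - 1 : ℕ) : ℂ) * α 1) *
        ∑ v ∈ vset S, Cfsg.extendByZero S β v := by
  classical
  have hcls : Cfsg.IsClassFunction G
      (fun g => (Nat.card {a : G // IsConj t a ∧ IsConj t (a⁻¹ * g)} : ℂ)) := by
    intro g h
    refine congrArg Nat.cast (Nat.card_congr ((MulAut.conj h⁻¹).toEquiv.subtypeEquiv fun a => ?_))
    simp only [MulEquiv.toEquiv_eq_coe, MulEquiv.coe_toEquiv, MulAut.conj_apply, inv_inv]
    refine and_congr ⟨fun h1 => h1.trans (isConj_iff.2 ⟨h⁻¹, by group⟩),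
      fun h1 => h1.trans (isConj_iff.2 ⟨h, by group⟩)⟩
      ⟨fun h1 => h1.trans (isConj_iff.2 ⟨h⁻¹, by group⟩),
        fun h1 => h1.trans (isConj_iff.2 ⟨h, by group⟩)⟩
  rw [tau, classInner_indFun_left _ _ hcls, Cfsg.classInner, mul_assoc]
  congr 1
  simp only [map_natCast]
  have hterm : ∀ x : ↥(W ⊔ S), tens C α β x *
      (Nat.card {a : G // IsConj t a ∧ IsConj t (a⁻¹ * (x : G))} : ℂ) =
      if (x : G) ∈ vset S then
        (((vset S).card - 1 : ℕ) : ℂ) * α 1 * Cfsg.extendByZero S β (x : G) else 0 := by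
    intro x
    by_cases hxW : (x : G) ∈ W
    · rw [tens_eq_zero C hβ hxW, zero_mul, if_neg]
      intro hv
      obtain ⟨hxS, hxo⟩ := mem_vset.1 hv
      have h1 : (x : G) ∈ (⊥ : Subgroup G) := C.disj ▸ mem_inf.2 ⟨hxW, hxS⟩
      rw [mem_bot.1 h1, orderOf_one] at hxo
      omega
    · rw [pairs C x.2 hxW]
      split_ifs with hv
      · have hS := (mem_vset.1 hv).1
        rw [extendByZero_mem _ _ hS,
          show tens C α β x = α 1 * β ⟨(x : G), hS⟩ by
            rw [← tens_apply_mul C]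
            exact congrArg _ (Subtype.ext (by simp))]
        ring
      · simp
  rw [Finset.sum_congr rfl fun x _ => hterm x, ← Finset.sum_filter, Finset.mul_sum]
  refine Finset.sum_bij (fun x _ => (x : G)) (fun x hx => (Finset.mem_filter.1 hx).2)
    (fun x _ y _ h => Subtype.ext h) (fun v hv => ⟨⟨v, mem_sup_right (mem_vset.1 hv).1⟩, by simp [hv], rfl⟩)
    fun x _ => rfl

end Fun

end Cfsg.Agent.SEBrick
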