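import Cfsg.Agent.Lib.SEBrick.CharFamily
import Cfsg.Agent.Lib.Char.Clifford
import Cfsg.Agent.Lib.Char.Orbit
import Mathlib.GroupTheory.GroupAction.Quotient

/-!
A strongly embedded subgroup whose involutions centralise a normal subgroup `W` of odd order on an
abelian part of which the outside acts without fixed points does not exist: the exceptional
characters of a free character of `W` have too large a degree.
-/

set_option autoImplicit false
set_option linter.style.haveILetI false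
set_option linter.unusedSectionVars false

namespace Cfsg.Agent.SEBrick

open Cfsg Cfsg.Agent.Char Subgroup
open scoped ComplexConjugate

universe u

variable {G : Type u} [Group G] [Fintype G] {H W S : Subgroup G} {t : G} (C : Cfg H W S t)
include C

/-- The sum of a function over the involutions of `S`. -/
noncomputable def sv (ξ : S → ℂ) : ℂ := ∑ v ∈ vset S, Cfsg.extendByZero S ξ v

omit C in
theorem sv_eq (ξ : S → ℂ) : sv ξ = ∑ v ∈ (vset S).attach, ξ ⟨v.1, (mem_vset.1 v.2).1⟩ := by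
  rw [sv, ← Finset.sum_attach]
  exact Finset.sum_congr rfl fun v _ => extendByZero_mem _ _ _

omit C in
theorem char_invol_real {X : Type u} [Group X] [Finite X] {χ : X → ℂ} (hχ : Cfsg.IsCharacter X χ)
    {v : X} (hv : orderOf v = 2) : conj (χ v) = χ v := by
  rw [← IsCharacter.inv hχ, Invol.inv_self hv]

omit C in
theorem sv_real (ξ : Cfsg.IrrCharacter S) : conj (sv (ξ : S → ℂ)) = sv (ξ : S → ℂ) := by
  rw [sv_eq, map_sum]
  exact Finset.sum_congr rfl fun v _ =>
    char_invol_real (IsIrrCharacter.isCharacter ξ.2) (by rw [Subgroup.orderOf_mk]; exact (mem_vset.1 v.2).2)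

theorem sum_deg_sv : ∑ ξ : Cfsg.IrrCharacter S, (ξ : S → ℂ) 1 * sv (ξ : S → ℂ) = 0 := by
  classical
  simp only [sv_eq, Finset.mul_sum]
  rw [Finset.sum_comm]
  refine Finset.sum_eq_zero fun v _ => ?_
  have h : ¬ IsConj (1 : S) ⟨v.1, (mem_vset.1 v.2).1⟩ := by
    intro h
    have h2 := congrArg Subtype.val (isConj_one_right.1 h)
    have h3 := (mem_vset.1 v.2).2
    rw [show v.1 = 1 from h2, orderOf_one] at h3
    omega
  rw [← column_orth_of_not_isConj h]
  refine Finset.sum_congr rfl fun ξ _ => ?_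
  rw [char_invol_real (IsIrrCharacter.isCharacter ξ.2) (by
    rw [Subgroup.orderOf_mk]; exact (mem_vset.1 v.2).2)]

theorem sum_sv_sq : ∑ ξ : Cfsg.IrrCharacter S, sv (ξ : S → ℂ) * sv (ξ : S → ℂ) =
    ((vset S).card : ℂ) * (Nat.card S : ℂ) := by
  classical
  have e : ∀ ξ : Cfsg.IrrCharacter S, sv (ξ : S → ℂ) * sv (ξ : S → ℂ) =
      ∑ v ∈ (vset S).attach, ∑ v' ∈ (vset S).attach,
        (ξ : S → ℂ) ⟨v.1, (mem_vset.1 v.2).1⟩ * conj ((ξ : S → ℂ) ⟨v'.1, (mem_vset.1 v'.2).1⟩) := by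
    intro ξ
    nth_rw 2 [← sv_real ξ]
    rw [sv_eq, map_sum, Finset.sum_mul_sum]
  simp only [e]
  rw [Finset.sum_comm]
  have hcen : ∀ v : {x // x ∈ vset S}, ∀ x : S,
      (⟨v.1, (mem_vset.1 v.2).1⟩ : S) * x = x * ⟨v.1, (mem_vset.1 v.2).1⟩ := fun v x =>
    Subtype.ext (C.central v.1 (mem_vset.1 v.2).1 (mem_vset.1 v.2).2 x x.2)
  rw [Finset.sum_congr rfl (g := fun _ => (Nat.card S : ℂ)) fun v _ => ?_]
  · rw [Finset.sum_const, Finset.card_attach, nsmul_eq_mul]
  rw [Finset.sum_comm, Finset.sum_eq_single v]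
  · rw [column_orth_of_isConj (IsConj.refl _)]
    rw [show centralizer ({⟨v.1, (mem_vset.1 v.2).1⟩} : Set S) = ⊤ from eq_top_iff.2 fun x _ =>
      mem_centralizer_singleton_iff.2 (hcen v x).symm, Subgroup.card_top]
  · intro v' _ hne
    refine column_orth_of_not_isConj fun h => hne ?_
    obtain ⟨c, hc⟩ := isConj_iff.1 h
    rw [← hcen v c, mul_inv_cancel_right] at hc
    exact Subtype.ext (congrArg Subtype.val hc).symm
  · exact fun h => absurd (Finset.mem_attach _ _) h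

/-- The common part of the values at `t`. -/
noncomputable def Family.R {θ : W → ℂ} (F : Family C θ) : ℂ :=
  (F.Φ (Char.principal S) : G → ℂ) t - F.e * θ 1 * ((vset S).card : ℂ)

theorem T_t (θ : W → ℂ) (ξ : Cfsg.IrrCharacter S) :
    T C θ ξ t = θ 1 * ((ξ : S → ℂ) 1 * ((vset S).card : ℂ) - sv (ξ : S → ℂ)) := by
  rw [T, tau_t, show (∑ v ∈ vset S, Cfsg.extendByZero S (eta ξ) v) = sv (eta ξ) from rfl, sv_eq, sv_eq]
  simp only [eta, Finset.sum_sub_distrib, Finset.sum_const, Finset.card_attach, nsmul_eq_mul]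
  ring

theorem Family.e_sq {θ : W → ℂ} (F : Family C θ) : F.e * F.e = 1 := by
  rcases F.e_sign with h | h <;> simp [h]

theorem Family.e_real {θ : W → ℂ} (F : Family C θ) : conj F.e = F.e := by
  rcases F.e_sign with h | h <;> simp [h]

theorem Family.value {θ : W → ℂ} (F : Family C θ) (ξ : Cfsg.IrrCharacter S) :
    (F.Φ ξ : G → ℂ) t = (ξ : S → ℂ) 1 * F.R + F.e * θ 1 * sv (ξ : S → ℂ) := by
  have h := congrFun (F.eq ξ) t
  rw [T_t C] at h
  simp only [Pi.smul_apply, Pi.sub_apply, smul_eq_mul] at h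
  rw [Family.R]
  linear_combination F.e * h + ((ξ : S → ℂ) 1 * (F.Φ (Char.principal S) : G → ℂ) t -
    (F.Φ ξ : G → ℂ) t) * F.e_sq

theorem Family.deg {θ : W → ℂ} (F : Family C θ) (ξ : Cfsg.IrrCharacter S) :
    (F.Φ ξ : G → ℂ) 1 = (ξ : S → ℂ) 1 * (F.Φ (Char.principal S) : G → ℂ) 1 := by
  have h := congrFun (F.eq ξ) 1
  rw [T_one C] at h
  simp only [Pi.smul_apply, Pi.sub_apply, smul_eq_mul] at h
  linear_combination F.e * h + ((ξ : S → ℂ) 1 * (F.Φ (Char.principal S) : G → ℂ) 1 -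
    (F.Φ ξ : G → ℂ) 1) * F.e_sq

theorem Family.sum_sq {θ : W → ℂ} (F : Family C θ) :
    ∑ ξ : Cfsg.IrrCharacter S, (F.Φ ξ : G → ℂ) t * (F.Φ ξ : G → ℂ) t =
      (Nat.card S : ℂ) * (F.R * F.R + θ 1 * θ 1 * ((vset S).card : ℂ)) := by
  classical
  have e : ∀ ξ : Cfsg.IrrCharacter S, (F.Φ ξ : G → ℂ) t * (F.Φ ξ : G → ℂ) t =
      (ξ : S → ℂ) 1 ^ 2 * (F.R * F.R) + (2 * F.R * F.e * θ 1) * ((ξ : S → ℂ) 1 * sv (ξ : S → ℂ)) +
        (θ 1 * θ 1) * (sv (ξ : S → ℂ) * sv (ξ : S → ℂ)) := fun ξ => by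
    rw [F.value]
    linear_combination (θ 1 * θ 1 * sv (ξ : S → ℂ) * sv (ξ : S → ℂ)) * F.e_sq
  rw [Finset.sum_congr rfl fun ξ _ => e ξ, Finset.sum_add_distrib, Finset.sum_add_distrib,
    ← Finset.sum_mul, ← Finset.mul_sum, ← Finset.mul_sum, sum_deg_sv C, sum_sv_sq C, sum_sq_degree]
  ring

/-- Non-conjugate free characters have disjoint families. -/
theorem Family.disjoint {θ θ' : W → ℂ} (hθ : Cfsg.IsIrrCharacter W θ)
    (hθ' : Cfsg.IsIrrCharacter W θ') (hne : ∀ h : H, (fun w => θ' (cj C.W_norm h w)) ≠ θ)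
    (F : Family C θ) (F' : Family C θ') (hlin : 8 ≤ (_root_.commutator S).index)
    (ξ ξ' : Cfsg.IrrCharacter S) : F.Φ ξ ≠ F'.Φ ξ' := by
  classical
  set one := Char.principal S with hone
  have key : ∀ a b : Cfsg.IrrCharacter S,
      (a : S → ℂ) 1 * (b : S → ℂ) 1 * (if F.Φ one = F'.Φ one then (1 : ℂ) else 0)
        - (a : S → ℂ) 1 * (if F.Φ one = F'.Φ b then (1 : ℂ) else 0)
        - (b : S → ℂ) 1 * (if F.Φ a = F'.Φ one then (1 : ℂ) else 0)
        + (if F.Φ a = F'.Φ b then (1 : ℂ) else 0) = 0 := by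
    intro a b
    have h := T_orth C hθ hθ' hne a b
    rw [F.eq, F'.eq, classInner_smul_left, classInner_smul_right, classInner_sub_left,
      classInner_sub_right, classInner_sub_right] at h
    simp only [classInner_smul_left, classInner_smul_right, classInner_irr (F.Φ _).2 (F'.Φ _).2,
      Subtype.coe_inj] at h
    have hb : conj ((b : S → ℂ) 1) = (b : S → ℂ) 1 := by rw [CharX.irr_deg b, map_natCast]
    rw [hb, F'.e_real] at h
    have h2 : F.e * F'.e ≠ 0 := by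
      rcases F.e_sign with e | e <;> rcases F'.e_sign with e' | e' <;> simp [e, e']
    rw [← mul_assoc] at h
    have := (mul_eq_zero.1 h).resolve_left h2
    linear_combination this
  obtain ⟨z1, hz1, hz1d⟩ : ∃ z : Cfsg.IrrCharacter S, z ≠ one ∧ (z : S → ℂ) 1 = 1 := by
    by_contra! h
    have hs : Subsingleton {χ : Cfsg.IrrCharacter S // (χ : S → ℂ) 1 = 1} := ⟨fun a b => Subtype.ext (by
      rw [show a.1 = one from by_contra fun e => h _ e a.2, show b.1 = one from by_contra fun e => h _ e b.2])⟩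
    have := Char.card_linear (G := S)
    rw [Nat.card_of_subsingleton (⟨one, rfl⟩ : {χ : Cfsg.IrrCharacter S // (χ : S → ℂ) 1 = 1})] at this
    omega
  have hone1 : (one : S → ℂ) 1 = 1 := rfl
  have hinj : ∀ a b, (F.Φ a = F.Φ b ↔ a = b) := fun a b => F.inj.eq_iff
  -- the principal members
  have h00 := key z1 z1
  rw [hz1d] at h00
  have e11 : F.Φ one ≠ F'.Φ one := by
    intro e
    rw [if_pos e, if_neg (fun h => hz1 (F'.inj (e.symm.trans h)).symm),
      if_neg (fun h => hz1 (F.inj (h.trans e.symm)))] at h00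
    split_ifs at h00 <;> norm_num at h00
  have eA : ∀ a, a ≠ one → F.Φ a ≠ F'.Φ one := by
    intro a ha e
    have h := key a z1
    rw [if_neg e11, if_pos e, hz1d, if_neg (fun h' => hz1 (F'.inj (e.symm.trans h')).symm)] at h
    by_cases e' : F.Φ one = F'.Φ z1
    · rw [if_pos e'] at h
      have : ((Cfsg.charDegree (a : S → ℂ) : ℂ) + 1) = 0 := by rw [← CharX.irr_deg a]; linear_combination -h
      exact Nat.cast_add_one_ne_zero _ this
    · rw [if_neg e'] at h; norm_num at h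
  have eB : ∀ b, b ≠ one → F.Φ one ≠ F'.Φ b := by
    intro b hb e
    have h := key z1 b
    rw [if_neg e11, if_pos e, hz1d, if_neg (eA z1 hz1),
      if_neg (fun h' => hz1 (F.inj (h'.trans e.symm)))] at h
    norm_num at h
  by_cases ha : ξ = one <;> by_cases hb : ξ' = one
  · subst ha; subst hb; exact e11
  · subst ha; exact eB ξ' hb
  · subst hb; exact eA ξ ha
  · intro e
    have h := key ξ ξ'
    rw [if_neg e11, if_neg (eA ξ ha), if_neg (eB ξ' hb), if_pos e] at h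
    norm_num at h

/-- The degree of a family. -/
theorem Family.degree_eq {θ : W → ℂ} (hθ1 : θ 1 ≠ 0) (F : Family C θ) :
    (Nat.card ↥(W ⊔ S) : ℂ) * ((((vset S).card - 1 : ℕ)) : ℂ) *
        (F.Φ (Char.principal S) : G → ℂ) 1 =
      (Nat.card G : ℂ) * (2 * F.R + F.e * θ 1 * (((vset S).card : ℂ) - 1)) := by
  classical
  set m : ℂ := ((vset S).card : ℂ) with hm
  set Uc : ℂ := (Nat.card ↥(W ⊔ S) : ℂ) with hUc
  set Gc : ℂ := (Nat.card G : ℂ) with hGc
  set one := Char.principal S with hone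
  set f := (F.Φ one : G → ℂ) 1 with hf
  set N : G → ℂ := fun g => (Nat.card {a : G // IsConj t a ∧ IsConj t (a⁻¹ * g)} : ℂ) with hN
  have hCt : (Nat.card (centralizer ({t} : Set G)) : ℂ) = Uc := by rw [C.cent]
  have hU0 : Uc ≠ 0 := Nat.cast_ne_zero.2 Nat.card_pos.ne'
  have htr : ∀ χ : Cfsg.IrrCharacter G, conj ((χ : G → ℂ) t) = (χ : G → ℂ) t := fun χ =>
    char_invol_real (IsIrrCharacter.isCharacter χ.2) C.t_inv
  have hNexp : (Uc * Uc) • N = ∑ χ : Cfsg.IrrCharacter G,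
      (Gc * ((χ : G → ℂ) t * (χ : G → ℂ) t) / (χ : G → ℂ) 1) • (χ : G → ℂ) := by
    funext g
    have h := congrArg conj (ClassCount.pair_count t t g)
    simp only [map_mul, map_natCast, map_sum, map_div₀, Complex.conj_conj, htr] at h
    rw [hCt] at h
    rw [Pi.smul_apply, Finset.sum_apply, smul_eq_mul,
      show Uc * Uc * N g = N g * Uc * Uc by ring, hN]
    refine h.trans ?_
    rw [Finset.mul_sum]
    refine Finset.sum_congr rfl fun χ _ => ?_
    rw [Pi.smul_apply, smul_eq_mul, CharX.irr_deg χ, map_natCast]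
    ring
  have hreal : ∀ χ : Cfsg.IrrCharacter G,
      conj (Gc * ((χ : G → ℂ) t * (χ : G → ℂ) t) / (χ : G → ℂ) 1) =
        Gc * ((χ : G → ℂ) t * (χ : G → ℂ) t) / (χ : G → ℂ) 1 := fun χ => by
    rw [map_div₀, map_mul, map_mul, htr, CharX.irr_deg χ, map_natCast, hGc, map_natCast]
  have main : ∀ ξ : Cfsg.IrrCharacter S,
      ((ξ : S → ℂ) 1 * m - sv (ξ : S → ℂ)) *
        ((ξ : S → ℂ) 1 * (Uc * (((vset S).card - 1 : ℕ) : ℂ) * f - Gc * (2 * F.R + F.e * θ 1 * m))
          - Gc * F.e * θ 1 * sv (ξ : S → ℂ)) = 0 := by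
    intro ξ
    have h1 : Cfsg.classInner (T C θ ξ) ((Uc * Uc) • N) =
        (Uc * Uc) * (Uc⁻¹ * ((((vset S).card - 1 : ℕ) : ℂ) * θ 1) *
          ((ξ : S → ℂ) 1 * m - sv (ξ : S → ℂ))) := by
      rw [classInner_smul_right, map_mul, hUc, map_natCast, hN, T, inner_pairs C (eta_one ξ),
        show (∑ v ∈ vset S, Cfsg.extendByZero S (eta ξ) v) = sv (eta ξ) from rfl, sv_eq, sv_eq]
      simp only [eta, Finset.sum_sub_distrib, Finset.sum_const, Finset.card_attach, nsmul_eq_mul, hm]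
      ring
    have h2 : Cfsg.classInner (T C θ ξ) ((Uc * Uc) • N) =
        F.e * ((ξ : S → ℂ) 1 * (Gc * ((F.Φ one : G → ℂ) t * (F.Φ one : G → ℂ) t) / f) -
          Gc * ((F.Φ ξ : G → ℂ) t * (F.Φ ξ : G → ℂ) t) / (F.Φ ξ : G → ℂ) 1) := by
      rw [hNexp, F.eq, classInner_smul_left, classInner_sub_left, classInner_smul_left,
        classInner_sum_right, classInner_sum_right,
        Finset.sum_eq_single (F.Φ one) (fun χ _ hne => by
          rw [classInner_smul_right, classInner_irr_of_ne (F.Φ one).2 χ.2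
            (fun e => hne (Subtype.ext e).symm), mul_zero]) (fun h => absurd (Finset.mem_univ _) h),
        Finset.sum_eq_single (F.Φ ξ) (fun χ _ hne => by
          rw [classInner_smul_right, classInner_irr_of_ne (F.Φ ξ).2 χ.2
            (fun e => hne (Subtype.ext e).symm), mul_zero]) (fun h => absurd (Finset.mem_univ _) h),
        classInner_smul_right, classInner_smul_right, classInner_self_irr (F.Φ one).2,
        classInner_self_irr (F.Φ ξ).2, mul_one, mul_one, hreal, hreal]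
    have hk0 : (ξ : S → ℂ) 1 ≠ 0 := IsIrrCharacter.one_ne_zero ξ.2
    have hf0 : f ≠ 0 := IsIrrCharacter.one_ne_zero (F.Φ one).2
    have hR : (F.Φ one : G → ℂ) t = F.R + F.e * θ 1 * m := by rw [Family.R, hone, hm]; ring
    rw [h1, hR, F.value, F.deg, show (F.Φ (Char.principal S) : G → ℂ) 1 = f from rfl] at h2
    field_simp at h2
    have h3 : θ 1 * (((ξ : S → ℂ) 1 * m - sv (ξ : S → ℂ)) *
        ((ξ : S → ℂ) 1 * (Uc * (((vset S).card - 1 : ℕ) : ℂ) * f - Gc * (2 * F.R + F.e * θ 1 * m))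
          - Gc * F.e * θ 1 * sv (ξ : S → ℂ))) = 0 := by
      linear_combination h2 + ((ξ : S → ℂ) 1 * m - sv (ξ : S → ℂ)) * θ 1 * Gc * 2 * (ξ : S → ℂ) 1 * F.R * F.e_sq +
        (θ 1 ^ 2 * Gc * F.e * ((ξ : S → ℂ) 1 ^ 2 * m ^ 2 - sv (ξ : S → ℂ) ^ 2)) * F.e_sq
    exact (mul_eq_zero.1 h3).resolve_left hθ1
  set K0 := Uc * (((vset S).card - 1 : ℕ) : ℂ) * f - Gc * (2 * F.R + F.e * θ 1 * m) with hK0
  have hsum := Finset.sum_eq_zero (s := Finset.univ) fun ξ _ => main ξ
  have e : ∀ ξ : Cfsg.IrrCharacter S, ((ξ : S → ℂ) 1 * m - sv (ξ : S → ℂ)) *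
      ((ξ : S → ℂ) 1 * K0 - Gc * F.e * θ 1 * sv (ξ : S → ℂ)) =
      (ξ : S → ℂ) 1 ^ 2 * (m * K0) - (K0 + m * Gc * F.e * θ 1) * ((ξ : S → ℂ) 1 * sv (ξ : S → ℂ)) +
        (Gc * F.e * θ 1) * (sv (ξ : S → ℂ) * sv (ξ : S → ℂ)) := fun ξ => by ring
  rw [Finset.sum_congr rfl fun ξ _ => e ξ, Finset.sum_add_distrib, Finset.sum_sub_distrib,
    ← Finset.sum_mul, ← Finset.mul_sum, ← Finset.mul_sum, sum_deg_sv C, sum_sv_sq C, sum_sq_degree,
    ← hm] at hsum
  have hm0 : m * (Nat.card S : ℂ) ≠ 0 :=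
    mul_ne_zero (Nat.cast_ne_zero.2 (Finset.card_pos.2 ⟨t, mem_vset.2 ⟨C.t_mem, C.t_inv⟩⟩).ne')
      (Nat.cast_ne_zero.2 Nat.card_pos.ne')
  have hK : K0 + Gc * F.e * θ 1 = 0 :=
    (mul_eq_zero.1 (show m * (Nat.card S : ℂ) * (K0 + Gc * F.e * θ 1) = 0 by
      linear_combination hsum)).resolve_left hm0
  rw [hK0] at hK
  linear_combination hK

end Cfsg.Agent.SEBrick
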