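import Cfsg.Agent.Lib.SEBrick.CharBase
import Cfsg.Agent.Lib.Char.Isometry

/-!
The coherent family of a character of `W` whose conjugates outside `W × S` are different from it.
-/

set_option autoImplicit false
set_option linter.style.haveILetI false
set_option linter.unusedSectionVars false

namespace Cfsg.Agent.SEBrick

open Cfsg Cfsg.Agent.Char Subgroup
open scoped ComplexConjugate

universe u

variable {G : Type u} [Group G]

/-- `ξ(1) · 1 - ξ`. -/
def eta {S : Subgroup G} (ξ : Cfsg.IrrCharacter S) : S → ℂ :=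
  fun s => (ξ : S → ℂ) 1 - (ξ : S → ℂ) s

theorem eta_one {S : Subgroup G} (ξ : Cfsg.IrrCharacter S) : eta ξ 1 = 0 := sub_self _

theorem eta_principal {S : Subgroup G} : eta (Char.principal S) = 0 := by
  funext s; simp [eta, Char.principal]

theorem eta_class {S : Subgroup G} (ξ : Cfsg.IrrCharacter S) : Cfsg.IsClassFunction S (eta ξ) := by
  intro s h
  simp only [eta, IsCharacter.isClassFunction (IsIrrCharacter.isCharacter ξ.2) s h]

variable [Fintype G] {H W S : Subgroup G} {t : G} (C : Cfg H W S t)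

theorem eta_eq {S : Subgroup G} (ξ : Cfsg.IrrCharacter S) :
    eta ξ = (ξ : S → ℂ) 1 • (Char.principal S : S → ℂ) - (ξ : S → ℂ) := by
  funext s; simp [eta, Char.principal]

theorem eta_gen {S : Subgroup G} (ξ : Cfsg.IrrCharacter S) :
    Cfsg.IsGeneralizedCharacter S (eta ξ) := by
  rw [eta_eq, CharX.irr_deg ξ]
  exact IsGeneralizedCharacter.sub
    (IsGeneralizedCharacter.of_isCharacter (IsCharacter.nsmul isCharacter_one _))
    (IsGeneralizedCharacter.of_isCharacter (IsIrrCharacter.isCharacter ξ.2))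

open scoped Classical in
theorem eta_inner {S : Subgroup G} [Fintype S] {ξ ξ' : Cfsg.IrrCharacter S}
    (h : ξ ≠ Char.principal S) (h' : ξ' ≠ Char.principal S) :
    Cfsg.classInner (eta ξ) (eta ξ') =
      (ξ : S → ℂ) 1 * (ξ' : S → ℂ) 1 + if ξ = ξ' then 1 else 0 := by
  rw [eta_eq, eta_eq, classInner_sub_left, classInner_sub_right, classInner_sub_right]
  simp only [classInner_smul_left, classInner_smul_right, classInner_irr (Char.principal S).2 (Char.principal S).2,
    classInner_irr (Char.principal S).2 ξ'.2, classInner_irr ξ.2 (Char.principal S).2,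
    classInner_irr ξ.2 ξ'.2, Subtype.coe_inj, h, h'.symm, if_true, if_false]
  rw [CharX.irr_deg ξ', map_natCast]
  simp [mul_comm]

include C

/-- The virtual character attached to `θ` and `ξ`. -/
noncomputable def T (θ : W → ℂ) (ξ : Cfsg.IrrCharacter S) : G → ℂ := tau C θ (eta ξ)

theorem T_gen {θ : W → ℂ} (hθ : Cfsg.IsCharacter W θ) (ξ : Cfsg.IrrCharacter S) :
    Cfsg.IsGeneralizedCharacter G (T C θ ξ) := by
  classical
  exact IsGeneralizedCharacter.indFun _
    (isGenChar_tens C (IsGeneralizedCharacter.of_isCharacter hθ) (eta_gen ξ))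

theorem T_one (θ : W → ℂ) (ξ : Cfsg.IrrCharacter S) : T C θ ξ 1 = 0 := tau_one C (eta_one ξ)

theorem T_principal (θ : W → ℂ) : T C θ (Char.principal S) = 0 := by
  classical
  rw [T, tau, eta_principal, show tens C θ 0 = 0 from funext fun x => by simp [tens],
    Char.indFun_zero]

/-- `θ` is different from its conjugates outside `W × S`. -/
def IsFree (θ : W → ℂ) : Prop :=
  ∀ h : H, (h : G) ∉ W ⊔ S → (fun w => θ (cj C.W_norm h w)) ≠ θ

theorem cj_irr {θ : W → ℂ} (hθ : Cfsg.IsIrrCharacter W θ) (h : H) :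
    Cfsg.IsIrrCharacter W (fun w => θ (cj C.W_norm h w)) :=
  IsIrrCharacter.comp hθ _ (cj_surjective C.W_norm h)

open scoped Classical in
theorem T_gram {θ : W → ℂ} (hθ : Cfsg.IsIrrCharacter W θ) (hfree : IsFree C θ)
    {ξ ξ' : Cfsg.IrrCharacter S} (h : ξ ≠ Char.principal S) (h' : ξ' ≠ Char.principal S) :
    Cfsg.classInner (T C θ ξ) (T C θ ξ') =
      (ξ : S → ℂ) 1 * (ξ' : S → ℂ) 1 + if ξ = ξ' then 1 else 0 := by
  rw [T, T, inner_tau_free C (IsCharacter.isClassFunction (IsIrrCharacter.isCharacter hθ))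
    (eta_class ξ') (eta_one ξ) (eta_one ξ') (fun x hx =>
      classInner_irr_of_ne hθ (cj_irr C hθ x) (Ne.symm (hfree x hx))),
    classInner_self_irr hθ, one_mul, eta_inner h h']

theorem T_orth {θ θ' : W → ℂ} (hθ : Cfsg.IsIrrCharacter W θ) (hθ' : Cfsg.IsIrrCharacter W θ')
    (hne : ∀ h : H, (fun w => θ' (cj C.W_norm h w)) ≠ θ) (ξ ξ' : Cfsg.IrrCharacter S) :
    Cfsg.classInner (T C θ ξ) (T C θ' ξ') = 0 := by
  classical
  rw [T, T, inner_tau C (eta_one ξ) (eta_one ξ'), Finset.sum_eq_zero, mul_zero]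
  intro h _
  rw [classInner_irr_of_ne hθ (cj_irr C hθ' h) (Ne.symm (hne h)), zero_mul]

/-- The family of a free character. -/
structure Family (θ : W → ℂ) where
  /-- The sign. -/
  e : ℂ
  e_sign : e = 1 ∨ e = -1
  /-- The characters. -/
  Φ : Cfsg.IrrCharacter S → Cfsg.IrrCharacter G
  inj : Function.Injective Φ
  eq : ∀ ξ, T C θ ξ = e • ((ξ : S → ℂ) 1 • (Φ (Char.principal S) : G → ℂ) - (Φ ξ : G → ℂ))

set_option maxHeartbeats 1000000 in
theorem exists_family {θ : W → ℂ} (hθ : Cfsg.IsIrrCharacter W θ) (hfree : IsFree C θ)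
    (hlin : 8 ≤ (_root_.commutator S).index) : Nonempty (Family C θ) := by
  classical
  -- linear characters
  let ι := {ξ : Cfsg.IrrCharacter S // (ξ : S → ℂ) 1 = 1}
  let i₀ : ι := ⟨Char.principal S, rfl⟩
  obtain ⟨ε, hε, μ, hμ, hμinj, hμeq⟩ := isometry_lemma (G := G) i₀ (fun i : ι => T C θ i.1)
    (T_principal C θ) (fun i => T_gen C (IsIrrCharacter.isCharacter hθ) i.1)
    (fun i => T_one C θ i.1) (fun i j hi hj => by
      rw [T_gram C hθ hfree (fun e => hi (Subtype.ext e)) (fun e => hj (Subtype.ext e)), i.2, j.2]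
      by_cases hij : i = j
      · subst hij; norm_num
      · rw [if_neg hij, if_neg fun e => hij (Subtype.ext e)]; norm_num)
  set e : ℂ := -ε with he
  have hee : e * e = 1 := by rcases hε with rfl | rfl <;> norm_num [he]
  have hec : conj e = e := by rcases hε with rfl | rfl <;> norm_num [he]
  set Φ1 : Cfsg.IrrCharacter G := ⟨μ i₀, hμ i₀⟩ with hΦ1
  let d : Cfsg.IrrCharacter S → ℕ := fun ξ => Cfsg.charDegree (ξ : S → ℂ)
  have hd : ∀ ξ : Cfsg.IrrCharacter S, (ξ : S → ℂ) 1 = (d ξ : ℂ) := fun ξ => CharX.irr_deg ξ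
  let P : Cfsg.IrrCharacter S → (G → ℂ) := fun ξ => (d ξ : ℂ) • (Φ1 : G → ℂ) - e • T C θ ξ
  have hP0 : P (Char.principal S) = (Φ1 : G → ℂ) := by
    have : d (Char.principal S) = 1 := CharX.charDegree_one
    simp [P, this, T_principal]
  let Key : Cfsg.IrrCharacter S → Prop := fun ξ =>
    ξ ≠ Char.principal S → Cfsg.classInner (T C θ ξ) (Φ1 : G → ℂ) = e * (d ξ : ℂ)
  have hTΦ : ∀ ξ, Key ξ → ξ ≠ Char.principal S →
      Cfsg.classInner (Φ1 : G → ℂ) (T C θ ξ) = e * (d ξ : ℂ) := fun ξ hk h => by
    rw [← classInner_conj_symm, hk h, map_mul, hec, map_natCast]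
  have hgram : ∀ ξ ξ', Key ξ → Key ξ' →
      Cfsg.classInner (P ξ) (P ξ') = if ξ = ξ' then 1 else 0 := by
    intro ξ ξ' hk hk'
    have h11 := classInner_self_irr Φ1.2
    have hd1 : d (Char.principal S) = 1 := CharX.charDegree_one
    by_cases hξ : ξ = Char.principal S <;> by_cases hξ' : ξ' = Char.principal S
    · rw [hξ, hξ', hP0, h11, if_pos rfl]
    · subst hξ
      rw [hP0, classInner_sub_right, classInner_smul_right, classInner_smul_right, h11, hTΦ ξ' hk' hξ',
        map_natCast, hec, if_neg (Ne.symm hξ'), ← mul_assoc, hee, one_mul, mul_one, sub_self]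
    · subst hξ'
      rw [hP0, classInner_sub_left, classInner_smul_left, classInner_smul_left, h11, hk hξ,
        if_neg hξ, ← mul_assoc, hee, one_mul, mul_one, sub_self]
    · rw [classInner_sub_left, classInner_sub_right, classInner_sub_right]
      simp only [classInner_smul_left, classInner_smul_right, map_natCast, hec, h11, hk hξ,
        hTΦ ξ' hk' hξ', T_gram C hθ hfree hξ hξ', hd]
      linear_combination ((d ξ : ℂ) * (d ξ' : ℂ) * (-1) + (if ξ = ξ' then (1:ℂ) else 0)) * hee
  have hkey : ∀ n ξ, d ξ = n → Key ξ := by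
    intro n
    induction n using Nat.strong_induction_on with
    | _ n IH =>
      intro ξ hn hξ
      by_cases h1 : n = 1
      · have hl : (ξ : S → ℂ) 1 = 1 := by rw [hd, hn, h1, Nat.cast_one]
        have := hμeq ⟨ξ, hl⟩
        simp only at this
        rw [this, classInner_smul_left, classInner_sub_left,
          classInner_irr_of_ne (hμ _) Φ1.2 (fun e' => hξ (congrArg Subtype.val (hμinj e'))),
          classInner_self_irr Φ1.2, hn, h1, Nat.cast_one, mul_one, he]
        ring
      have hn0 : 0 < n := hn ▸ CharX.irr_deg_pos ξ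
      set s := Finset.univ.filter fun ξ' : Cfsg.IrrCharacter S => d ξ' < n with hs
      have hps : Char.principal S ∈ s := by
        simp only [hs, Finset.mem_filter, Finset.mem_univ, true_and]
        show Cfsg.charDegree _ < n
        rw [show ((Char.principal S : Cfsg.IrrCharacter S) : S → ℂ) = fun _ => 1 from rfl,
          CharX.charDegree_one]
        omega
      have hKs : ∀ ξ' ∈ s, Key ξ' := fun ξ' h =>
        IH _ (Finset.mem_filter.1 h).2 ξ' rfl
      obtain ⟨c, hc⟩ := IsGeneralizedCharacter.exists_classInner_int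
        (T_gen C (IsIrrCharacter.isCharacter hθ) ξ)
        (IsGeneralizedCharacter.of_isCharacter (IsIrrCharacter.isCharacter Φ1.2))
      obtain ⟨c', hc'⟩ : ∃ c' : ℤ, e * (c : ℂ) = c' := by
        rcases hε with rfl | rfl
        · exact ⟨-c, by simp [he]⟩
        · exact ⟨c, by simp [he]⟩
      obtain ⟨b, rfl⟩ : ∃ b : ℤ, c' = n + b := ⟨c' - n, by ring⟩
      push_cast at hc'
      -- coordinates of `e • T ξ`
      have hcoord : ∀ ξ' ∈ s, Cfsg.classInner (e • T C θ ξ) (P ξ') =
          ((if ξ' = Char.principal S then ((n : ℝ) + b) else (d ξ' : ℝ) * b : ℝ) : ℂ) := by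
        intro ξ' h'
        by_cases hp : ξ' = Char.principal S
        · rw [hp, hP0, if_pos rfl, classInner_smul_left, hc, hc']
          push_cast; rfl
        · have hne : ξ ≠ ξ' := fun e' => absurd (Finset.mem_filter.1 h').2 (by rw [← e', hn]; omega)
          rw [if_neg hp, classInner_sub_right, classInner_smul_right, classInner_smul_right,
            classInner_smul_left, classInner_smul_left, hc, T_gram C hθ hfree hξ hp, if_neg hne,
            map_natCast, hec, hd, hd, hn]
          push_cast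
          linear_combination (d ξ' : ℂ) * hc' - (n : ℂ) * (d ξ' : ℂ) * hee
      have hnorm : Cfsg.classInner (e • T C θ ξ) (e • T C θ ξ) = (((n : ℝ) ^ 2 + 1 : ℝ) : ℂ) := by
        rw [classInner_smul_left, classInner_smul_right, hec, ← mul_assoc, hee, one_mul,
          T_gram C hθ hfree hξ hξ, if_pos rfl, hd, hn]
        push_cast; ring
      have hb := (Coherence.bessel s P (fun _ => 1)
        (fun ξ' => if ξ' = Char.principal S then ((n : ℝ) + b) else (d ξ' : ℝ) * b)
        (fun _ _ => one_pos)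
        (fun i hi j hj hij => by rw [hgram i j (hKs i hi) (hKs j hj), if_neg hij])
        (fun i hi => by rw [hgram i i (hKs i hi) (hKs i hi), if_pos rfl]; simp)
        hcoord hnorm).1
      rw [← Finset.add_sum_erase s _ hps] at hb
      rw [Finset.sum_congr rfl (g := fun ξ' => (b : ℝ) ^ 2 * (d ξ' : ℝ) ^ 2) fun ξ' h' => by
        rw [if_neg (Finset.mem_erase.1 h').1]; ring, ← Finset.mul_sum] at hb
      simp only [if_pos, div_one] at hb
      set Sig : ℕ := ∑ ξ' ∈ s, d ξ' ^ 2 with hSig
      have hsig' : (∑ ξ' ∈ s.erase (Char.principal S), (d ξ' : ℝ) ^ 2) = (Sig : ℝ) - 1 := by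
        rw [hSig, Nat.cast_sum, ← Finset.add_sum_erase s _ hps]
        simp only [Nat.cast_pow]
        rw [show d (Char.principal S) = 1 from CharX.charDegree_one]
        push_cast; ring
      rw [hsig'] at hb
      have hb' : b * (2 * n + b * Sig) ≤ 1 := by
        have : (b : ℝ) * (2 * n + b * Sig) ≤ 1 := by nlinarith [hb]
        exact_mod_cast this
      -- the size of `Sig`
      have hSig8 : 8 ≤ Sig := by
        rw [← Char.card_linear (G := S)] at hlin
        refine hlin.trans ?_
        rw [Nat.card_eq_fintype_card, Fintype.card_subtype, Finset.card_eq_sum_ones, hSig]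
        refine le_trans (le_of_eq (Finset.sum_congr rfl fun ξ' h' => ?_))
          (Finset.sum_le_sum_of_subset (f := fun ξ' => d ξ' ^ 2) fun ξ' h' => ?_)
        · have h2 := (Finset.mem_filter.1 h').2
          rw [hd] at h2
          rw [show d ξ' = 1 by exact_mod_cast h2, one_pow]
        · have h2 := (Finset.mem_filter.1 h').2
          rw [hd] at h2
          simp only [hs, Finset.mem_filter, Finset.mem_univ, true_and]
          rw [show d ξ' = 1 by exact_mod_cast h2]; omega
      have hSn : 2 * n + 2 ≤ Sig := by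
        haveI : Fact (Nat.Prime 2) := ⟨Nat.prime_two⟩
        obtain ⟨a, ha⟩ := C.S_two.exists_card_eq
        have hpow : ∀ ξ', ∃ j, d ξ' = 2 ^ j := fun ξ' => by
          obtain ⟨j, -, hj⟩ := (Nat.dvd_prime_pow Nat.prime_two).1 (ha ▸ CharX.irr_deg_dvd_card ξ')
          exact ⟨j, hj⟩
        obtain ⟨i, hi⟩ := hpow ξ
        rw [hn] at hi
        have htot := CharX.sum_deg_sq (G := S)
        rw [← Finset.sum_filter_add_sum_filter_not _ (fun ξ' => d ξ' < n)] at htot
        have hrest : n ^ 2 ∣ ∑ ξ' ∈ Finset.univ.filter (fun ξ' => ¬ d ξ' < n), d ξ' ^ 2 := by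
          refine Finset.dvd_sum fun ξ' h' => ?_
          obtain ⟨j, hj⟩ := hpow ξ'
          have h2 := (Finset.mem_filter.1 h').2
          rw [hj, hi, not_lt] at h2
          rw [hj, hi]
          exact pow_dvd_pow_of_dvd (pow_dvd_pow 2 ((Nat.pow_le_pow_iff_right (le_refl 2)).1 h2)) 2
        have hle : n ^ 2 ≤ Nat.card S := by
          rw [← CharX.sum_deg_sq (G := S), ← hn]
          exact Finset.single_le_sum (f := fun x => d x ^ 2) (fun _ _ => Nat.zero_le _) (Finset.mem_univ ξ)
        have hdS : n ^ 2 ∣ Nat.card S := by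
          rw [hi, ← pow_mul, ha] at hle ⊢
          exact pow_dvd_pow 2 ((Nat.pow_le_pow_iff_right (le_refl 2)).1 hle)
        rw [← htot] at hdS
        have := Nat.le_of_dvd (show 0 < Sig by omega) ((Nat.dvd_add_left hrest).1 hdS)
        change n ^ 2 ≤ Sig at this
        rcases i with _ | _ | i
        · simp at hi; exact absurd hi h1
        · simp at hi; omega
        · have : 4 ≤ n := by
            rw [hi, pow_succ, pow_succ]
            have := Nat.one_le_two_pow (n := i)
            omega
          nlinarith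
      have hb0 : b = 0 := by
        by_contra hb0
        have hS' : 2 * (n : ℤ) + 2 ≤ (Sig : ℤ) := by exact_mod_cast hSn
        have hn' : (0 : ℤ) ≤ (n : ℤ) := Int.natCast_nonneg n
        rcases lt_or_gt_of_ne hb0 with hlt | hgt
        · have h1b : 1 ≤ -b := by omega
          have hk : (Sig : ℤ) ≤ -b * (Sig : ℤ) := by nlinarith
          have hk2 : 2 * n + (b : ℤ) * Sig ≤ -2 := by nlinarith
          nlinarith
        · have hk : (Sig : ℤ) ≤ b * (Sig : ℤ) := by nlinarith
          have hk2 : 2 ≤ 2 * (n : ℤ) + b * Sig := by nlinarith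
          nlinarith
      rw [hb0, Int.cast_zero, add_zero] at hc'
      rw [hc, hn]
      linear_combination e * hc' - (c : ℂ) * hee
  have hall : ∀ ξ, Key ξ := fun ξ => hkey _ ξ rfl
  have hirr : ∀ ξ, Cfsg.IsIrrCharacter G (P ξ) := by
    intro ξ
    have hgen : Cfsg.IsGeneralizedCharacter G (P ξ) := by
      refine IsGeneralizedCharacter.sub (IsGeneralizedCharacter.of_isCharacter
        (IsCharacter.nsmul (IsIrrCharacter.isCharacter Φ1.2) _)) ?_
      have hg := T_gen C (IsIrrCharacter.isCharacter hθ) ξ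
      rcases hε with rfl | rfl
      · rw [he, neg_one_smul]; exact IsGeneralizedCharacter.neg hg
      · rw [he, neg_neg, one_smul]; exact hg
    rcases IsGeneralizedCharacter.of_norm_one hgen (by rw [hgram ξ ξ (hall ξ) (hall ξ), if_pos rfl])
      with h | h
    · exact h
    · exfalso
      obtain ⟨a, ha, hea⟩ := IsIrrCharacter.exists_degree h
      simp only [Pi.neg_apply, P, Pi.sub_apply, Pi.smul_apply, T_one, smul_eq_mul, mul_zero,
        sub_zero, CharX.irr_deg Φ1] at hea
      have h1 := CharX.irr_deg_pos Φ1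
      have h2 := CharX.irr_deg_pos ξ
      have h3 : -((d ξ : ℤ) * (Cfsg.charDegree (Φ1 : G → ℂ) : ℤ)) = (a : ℤ) := by exact_mod_cast hea
      have h4 : 0 < d ξ * Cfsg.charDegree (Φ1 : G → ℂ) := Nat.mul_pos h2 h1
      omega
  refine ⟨⟨e, by rcases hε with rfl | rfl <;> simp [he], fun ξ => ⟨P ξ, hirr ξ⟩, ?_, ?_⟩⟩
  · intro a b hab
    by_contra hne
    have := hgram a b (hall a) (hall b)
    rw [show P a = P b from congrArg Subtype.val hab, hgram b b (hall b) (hall b), if_pos rfl,
      if_neg hne] at this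
    exact one_ne_zero this
  · intro ξ
    simp only [hP0, hd, P]
    rw [smul_sub, smul_sub, smul_smul, smul_smul, hee, one_smul]
    abel

end Cfsg.Agent.SEBrick
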