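import Cfsg.Agent.Lib.SEBrick.CaseBAct
import Cfsg.Agent.Lib.Transfer.Basic
import Cfsg.Prelude.Def_CaseTheorems

/-!
The odd core of a strongly embedded subgroup of a simple group, up to the case where involutions of
`H` move its odd core.
-/

set_option autoImplicit false
set_option linter.style.haveILetI false
set_option linter.unusedSectionVars false

namespace Cfsg.Agent.SEBrick

open Cfsg Subgroup Cfsg.Agent.Functors

universe u

/-- The rank two case, assumed. -/
def RankTwoCase : Prop :=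
  ∀ (L : Type u) [Group L] [Finite L], IsSimpleGroup L → ¬ IsMulCommutative L →
    (∀ t : L, orderOf t = 2 → Cfsg.HasNormalPComplement 2 ↥(centralizer ({t} : Set L))) →
    ∀ K : Subgroup L, Cfsg.IsStronglyEmbedded K →
      (∀ E : Subgroup L, E ≤ K → Cfsg.IsElementaryAbelian 2 E → Nat.card E ≤ 4) → Cfsg.oddCore ↥K = ⊥

/-- The case where involutions of `H` move `W`. -/
def MovingCase : Prop :=
  ∀ (G : Type u) [Group G] [Finite G] [IsSimpleGroup G] (H W : Subgroup G), Min H W →
    ∀ E : Subgroup G, E ≤ H → Cfsg.IsElementaryAbelian 2 E → 8 ≤ Nat.card E →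
      ∀ t : G, t ∈ H → orderOf t = 2 → (∃ w ∈ W, t * w ≠ w * t) → False

variable {G : Type u} [Group G] [Finite G] {H W : Subgroup G}

/-- Centralisers of involutions have normal 2-complements. -/
theorem Hyp.cent_twoNilp (h : Hyp H W) {t : G} (ht : orderOf t = 2) :
    Cfsg.HasNormalPComplement 2 ↥(centralizer ({t} : Set G)) := by
  haveI : Fact (Nat.Prime 2) := ⟨Nat.prime_two⟩
  set C := centralizer ({t} : Set G) with hC
  obtain ⟨c, hc⟩ := Invol.se_exists_fix h.se ht
  have hfix : ∀ g ∈ C, g • c = c := fun g hg => Invol.se_fix_unique h.se ht (by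
    rw [← mul_smul, ← mem_centralizer_singleton_iff.1 hg, mul_smul, hc]) hc
  haveI hn : ((Wat W c).subgroupOf C).Normal := ⟨fun x hx g => mem_subgroupOf.2 (by
    have := (h.Wat_smul (a := (g : G)) (c := c)).2 (mem_subgroupOf.1 hx)
    rwa [hfix g g.2] at this)⟩
  refine PBasic.hasNormalPComplement_iff.2 ⟨(Wat W c).subgroupOf C, hn, ?_, ?_⟩
  · refine Nat.coprime_two_right.2 (odd_card_of_orders fun x hx hx2 => ?_)
    have := odd_order (h.Wat_odd c) (mem_subgroupOf.1 hx)
    rw [Subgroup.orderOf_coe, hx2] at this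
    exact absurd this (by decide)
  · rw [index_eq_card]
    refine IsPGroup.exists_card_eq ?_
    intro x
    induction x using QuotientGroup.induction_on with
    | _ x =>
      obtain ⟨e, m, hm, hem⟩ := Nat.exists_eq_two_pow_mul_odd (orderOf_pos x).ne'
      refine ⟨e, ?_⟩
      rw [← QuotientGroup.mk_pow, QuotientGroup.eq_one_iff, mem_subgroupOf]
      refine h.core_at ht hc ?_ (mem_centralizer_singleton_iff.1 (x ^ 2 ^ e).2)
      rw [Subgroup.orderOf_coe, orderOf_pow_of_dvd (pow_ne_zero _ two_ne_zero) (hem ▸ dvd_mul_right _ m), hem,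
        Nat.mul_div_cancel_left _ (Nat.two_pow_pos e)]
      exact hm

theorem Hyp.not_comm (h : Hyp H W) [IsSimpleGroup G] : ¬ IsMulCommutative G := by
  intro hc
  obtain ⟨t, htH, ht⟩ := h.exists_invol
  obtain ⟨g, hg⟩ := h.exists_out
  exact hg (Invol.se_mem_of_conj h.se ht htH (by rw [mul_comm' g t, mul_inv_cancel_right]; exact htH))

/-- No minimal counterexample. -/
theorem false_of_min (hTwo : RankTwoCase.{u}) (hA : MovingCase.{u}) (M : Min H W) : False := by
  haveI := M.isSimple
  by_cases h8 : ∃ E ≤ H, Cfsg.IsElementaryAbelian 2 E ∧ 8 ≤ Nat.card E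
  · obtain ⟨E, hEH, hE, hE8⟩ := h8
    by_cases hmove : ∃ t ∈ H, orderOf t = 2 ∧ ∃ w ∈ W, t * w ≠ w * t
    · obtain ⟨t, htH, ht, hw⟩ := hmove
      exact hA G H W M E hEH hE hE8 t htH ht hw
    · push Not at hmove
      exact BHyp.false_of_BHyp (H := H) (W := W) { toMin := M, eight := ⟨E, hEH, hE, hE8⟩,
                                                   cent := fun a ha ha2 w hw => (hmove a ha ha2 w hw).symm }
  · push Not at h8
    haveI : Fact (Nat.Prime 2) := ⟨Nat.prime_two⟩
    have h4 : ∀ E : Subgroup G, E ≤ H → Cfsg.IsElementaryAbelian 2 E → Nat.card E ≤ 4 := by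
      intro E hEH hE
      have h2 : IsPGroup 2 E := fun e => ⟨1, Subtype.ext (by simpa using hE.2 e e.2)⟩
      obtain ⟨k, hk⟩ := h2.exists_card_eq
      have hlt := h8 E hEH hE
      rw [hk] at hlt ⊢
      have hk2 : k < 3 := (Nat.pow_lt_pow_iff_right (by norm_num)).1 (show 2 ^ k < 2 ^ 3 from hlt)
      exact (Nat.pow_le_pow_right (by norm_num) (show k ≤ 2 by omega)).trans (by norm_num)
    have hbot := hTwo G inferInstance M.toHyp.not_comm (fun t ht => M.toHyp.cent_twoNilp ht) H M.se h4
    refine M.W_ne ((subgroupOf_eq_bot.1 (le_bot_iff.1 (hbot ▸ le_oddCore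
      (normal_subgroupOf_of_le_normalizer M.toHyp.W_normal) ?_))).eq_bot_of_le M.W_le)
    rw [Nat.card_congr (subgroupOfEquivOfLe M.W_le).toEquiv]
    exact M.W_odd

/-- The inductive statement holds in every group. -/
theorem goal (hTwo : RankTwoCase.{u}) (hA : MovingCase.{u}) :
    ∀ (G : Type u) [Group G] [Finite G], Goal G := by
  intro G _ _
  induction hn : Nat.card G using Nat.strong_induction_on generalizing G with
  | _ n ih =>
  subst hn
  intro H W h
  by_contra hW
  obtain ⟨H', M⟩ := exists_min (fun K _ _ hlt => ih _ hlt K rfl) h hW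
  exact false_of_min hTwo hA M

/-- In a simple group the odd core of `H` is trivial. -/
theorem oddCore_eq_bot_of (hTwo : RankTwoCase.{u}) (hA : MovingCase.{u}) [IsSimpleGroup G] (H : Subgroup G)
    (hSE : Cfsg.IsStronglyEmbedded H)
    (four : ∃ E : Subgroup G, E ≤ H ∧ Cfsg.IsElementaryAbelian 2 E ∧ 4 ≤ Nat.card E)
    (hcore : ∀ t ∈ H, orderOf t = 2 → ∀ x : G, Odd (orderOf x) → x * t = t * x →
      x ∈ (Cfsg.oddCore ↥H).map H.subtype) : Cfsg.oddCore ↥H = ⊥ := by
  set W := (Cfsg.oddCore ↥H).map H.subtype with hW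
  obtain ⟨E, hEH, hE, h4⟩ := four
  have h : Hyp H W := ⟨hSE, map_subtype_le _, by
      rintro g hg _ ⟨x, hx, rfl⟩
      exact ⟨⟨g, hg⟩ * x * ⟨g, hg⟩⁻¹, (FittingCores.pPrimeCore_normal 2).conj_mem x hx _, rfl⟩,
    by rw [hW, card_map_of_injective H.subtype_injective]; exact oddCore_odd, hcore, E, hEH, hE, h4⟩
  have hle := goal hTwo hA G H W h
  have hG : Cfsg.oddCore G = ⊥ := by
    refine (IsSimpleGroup.eq_bot_or_eq_top_of_normal _ (FittingCores.pPrimeCore_normal 2)).resolve_right
      fun e => ?_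
    obtain ⟨t, -, ht⟩ := h.exists_invol
    have ho := odd_order (oddCore_odd (G := G)) (show t ∈ Cfsg.oddCore G from (show Cfsg.oddCore G = ⊤ from e).ge (mem_top t))
    rw [ht] at ho
    exact absurd ho (by decide)
  rw [hG, le_bot_iff, hW, map_eq_bot_iff_of_injective _ H.subtype_injective] at hle
  exact hle

end Cfsg.Agent.SEBrick
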