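import Cfsg.Agent.Lib.SEBrick.Common
import Cfsg.Agent.Lib.PStable.Involved
import Cfsg.Agent.Lib.Functors.ClosedZJ
import Cfsg.Prelude.Def_CaseTheorems

/-!
The case where involutions of `H` move `W`: a moved `p`-core, no `SL(2, p)`, the `ZJ` subgroups.
-/

set_option autoImplicit false
set_option linter.style.haveILetI false
set_option linter.unusedSectionVars false

namespace Cfsg.Agent.SEBrick

open Cfsg Subgroup Cfsg.Agent.Functors

universe u

variable {G : Type u} [Group G] [Finite G] {H W E : Subgroup G} {p : ℕ}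

/-- An involution acting on a cyclic group of odd prime power order inverts or centralises it. -/
theorem inverts_or_centralises {q : ℕ} [hq : Fact q.Prime] (hq2 : q ≠ 2) {C : Subgroup G}
    (hC : IsPGroup q C) [IsCyclic C] {a : G} (ha : orderOf a = 2) (hn : ∀ x ∈ C, a * x * a⁻¹ ∈ C) :
    (∀ x ∈ C, a * x * a⁻¹ = x) ∨ ∀ x ∈ C, a * x * a⁻¹ = x⁻¹ := by
  obtain ⟨⟨g, hg⟩, hgen⟩ := IsCyclic.exists_generator (α := C)
  have hpow : ∀ x ∈ C, ∃ i : ℤ, x = g ^ i := fun x hx => by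
    obtain ⟨i, hi⟩ := hgen ⟨x, hx⟩
    exact ⟨i, (congrArg Subtype.val hi).symm⟩
  have hodd : ∀ x ∈ C, Odd (orderOf x) := fun x hx => by
    obtain ⟨j, hj⟩ := IsPGroup.iff_orderOf.1 hC ⟨x, hx⟩
    rw [Subgroup.orderOf_mk] at hj
    exact hj ▸ (hq.out.odd_of_ne_two hq2).pow
  set g' := a * g * a⁻¹ with hg'
  have hg'C : g' ∈ C := hn g hg
  have hcg : g * g' = g' * g := congrArg Subtype.val (mul_comm' (⟨g, hg⟩ : C) ⟨g', hg'C⟩)
  have hgg : a * g' * a⁻¹ = g := by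
    rw [hg', show a * (a * g * a⁻¹) * a⁻¹ = (a * a) * g * (a * a)⁻¹ by group, Invol.mul_self ha]; simp
  by_cases hx : g * g' = 1
  · refine Or.inr fun x hx' => ?_
    obtain ⟨i, rfl⟩ := hpow x hx'
    rw [← conj_zpow, ← hg', eq_inv_of_mul_eq_one_right hx, inv_zpow]
  by_cases hy : g' * g⁻¹ = 1
  · refine Or.inl fun x hx' => ?_
    obtain ⟨i, rfl⟩ := hpow x hx'
    rw [← conj_zpow, ← hg', mul_inv_eq_one.1 hy]
  exfalso
  -- roots of order `q` of a fixed and of an inverted element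
  have hrt : ∀ x ∈ C, x ≠ 1 → ∃ n : ℕ, (x ^ n) ^ q = 1 ∧ x ^ n ≠ 1 := fun x hx hx1 => by
    obtain ⟨k, hk⟩ := IsPGroup.iff_orderOf.1 hC ⟨x, hx⟩
    rw [Subgroup.orderOf_mk] at hk
    rcases Nat.eq_zero_or_pos k with rfl | hk0
    · exact absurd (orderOf_eq_one_iff.1 (by rw [hk, pow_zero])) hx1
    refine ⟨q ^ (k - 1), ?_, fun e => ?_⟩
    · rw [← pow_mul, ← pow_succ, Nat.sub_add_cancel hk0, ← hk, pow_orderOf_eq_one]
    · have := orderOf_dvd_of_pow_eq_one e
      rw [hk, Nat.pow_dvd_pow_iff_le_right hq.out.one_lt] at this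
      omega
  obtain ⟨n, hn1, hn2⟩ := hrt _ (C.mul_mem hg hg'C) hx
  obtain ⟨m, hm1, hm2⟩ := hrt _ (C.mul_mem hg'C (C.inv_mem hg)) hy
  have hfix : a * (g * g') * a⁻¹ = g * g' := by
    rw [show a * (g * g') * a⁻¹ = (a * g * a⁻¹) * (a * g' * a⁻¹) by group, ← hg', hgg, hcg]
  have hinv : a * (g' * g⁻¹) * a⁻¹ = (g' * g⁻¹)⁻¹ := by
    rw [show a * (g' * g⁻¹) * a⁻¹ = (a * g' * a⁻¹) * (a * g * a⁻¹)⁻¹ by group, ← hg', hgg]; group
  have hroot : ∀ {u v : G}, u ∈ C → v ∈ C → u ^ q = 1 → v ^ q = 1 → v ≠ 1 → u ∈ zpowers v := by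
    intro u v hu hv hu1 hv1 hv2
    classical
    haveI := Fintype.ofFinite C
    by_contra hmem
    have hsub : insert (⟨u, hu⟩ : C) (Finset.univ.filter fun x : C => x ∈ zpowers (⟨v, hv⟩ : C)) ⊆
        Finset.univ.filter fun x : C => x ^ q = 1 := by
      intro x hx
      refine Finset.mem_filter.2 ⟨Finset.mem_univ x, ?_⟩
      rcases Finset.mem_insert.1 hx with rfl | hx
      · exact Subtype.ext hu1
      · obtain ⟨i, rfl⟩ := (Finset.mem_filter.1 hx).2
        refine Subtype.ext ?_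
        show (v ^ i) ^ q = 1
        rw [← zpow_natCast, ← zpow_mul, mul_comm, zpow_mul, zpow_natCast, hv1, one_zpow]
    have h1 := (Finset.card_le_card hsub).trans (IsCyclic.card_pow_eq_one_le hq.out.pos)
    rw [Finset.card_insert_of_notMem, ← Fintype.card_subtype, ← Nat.card_eq_fintype_card,
      show Nat.card {x // x ∈ zpowers (⟨v, hv⟩ : C)} = q from
        (Nat.card_zpowers _).trans ((Subgroup.orderOf_mk v hv).trans (orderOf_eq_prime hv1 hv2))] at h1
    · omega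
    · intro h
      obtain ⟨i, hi⟩ := (Finset.mem_filter.1 h).2
      exact hmem ⟨i, congrArg Subtype.val hi⟩
  obtain ⟨i, hi⟩ := hroot (C.pow_mem (C.mul_mem hg'C (C.inv_mem hg)) m) (C.pow_mem (C.mul_mem hg hg'C) n)
    hm1 hn1 hn2
  change ((g * g') ^ n) ^ i = (g' * g⁻¹) ^ m at hi
  have h2 : a * ((g' * g⁻¹) ^ m) * a⁻¹ = (g' * g⁻¹) ^ m := by
    rw [← hi, ← conj_zpow, ← conj_pow, hfix]
  rw [← conj_pow, hinv, inv_pow] at h2
  refine hm2 (Invol.eq_one_of_sq_of_odd (hodd _ (C.pow_mem (C.mul_mem hg'C (C.inv_mem hg)) m)) ?_)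
  rw [pow_two]
  nth_rw 1 [← h2]
  exact inv_mul_cancel _

/-- The configuration of the moving case. -/
structure Mov (H W E : Subgroup G) (p : ℕ) : Prop extends Min H W where
  simple : IsSimpleGroup G
  ea : Cfsg.IsElementaryAbelian 2 E
  E_le : E ≤ H
  eight : 8 ≤ Nat.card E
  prime : p.Prime
  ne_two : p ≠ 2
  moves : ∀ a ∈ H, orderOf a = 2 → ∃ x ∈ (Cfsg.pCore p W).map W.subtype, a * x ≠ x * a

/-- A prime at which the involutions of `H` move the core of `W`. -/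
theorem exists_mov [IsSimpleGroup G] (M : Min H W) (hEH : E ≤ H) (hE : Cfsg.IsElementaryAbelian 2 E)
    (h8 : 8 ≤ Nat.card E) {t : G} (htH : t ∈ H) (ht : orderOf t = 2) (hmove : ∃ w ∈ W, t * w ≠ w * t) :
    ∃ p, Mov H W E p := by
  obtain ⟨w, hw, hwt⟩ := hmove
  obtain ⟨p, hp, x, hx, hxt⟩ : ∃ p : ℕ, p.Prime ∧ ∃ x ∈ (Cfsg.pCore p W).map W.subtype, t * x ≠ x * t := by
    by_contra! hno
    refine hwt (commute_of_fitting M.W_odd (fun w hw => M.W_norm t htH w hw)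
      (by rw [ht]; exact Nat.coprime_two_left.2 M.W_odd) (fun f hf => ?_) hw)
    have hle : (Cfsg.fittingSubgroup W).map W.subtype ≤ centralizer ({t} : Set G) := by
      rw [FittingCores.fitting_eq_iSup_pCore, Subgroup.map_iSup]
      exact iSup_le fun q => fun y hy => mem_centralizer_singleton_iff.2 (hno q q.2 y hy).symm
    exact (mem_centralizer_singleton_iff.1 (hle hf)).symm
  refine ⟨p, M, inferInstance, hE, hEH, h8, hp, ?_, fun a ha ha2 => ?_⟩
  · rintro rfl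
    obtain ⟨y, hy, rfl⟩ := hx
    haveI := Fact.mk hp
    obtain ⟨k, hk⟩ := IsPGroup.iff_orderOf.1 (FittingCores.pCore_isPGroup (G := W) 2) ⟨y, hy⟩
    rw [Subgroup.orderOf_mk] at hk
    have hodd := odd_order M.W_odd y.2
    rw [Subgroup.orderOf_coe, hk] at hodd
    rcases Nat.eq_zero_or_pos k with rfl | hk0
    · exact hxt (by rw [show y = 1 from orderOf_eq_one_iff.1 (by rw [hk, pow_zero]), W.subtype.map_one]; simp)
    · exact absurd hodd (Nat.not_odd_iff_even.2 (Nat.even_pow.2 ⟨even_two, hk0.ne'⟩))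
  · obtain ⟨g, hg⟩ : ∃ g : G, ¬ g ∈ H := M.exists_out
    have hconj : ∃ d ∈ H, d * a * d⁻¹ = t := by
      obtain ⟨c, hc⟩ := isConj_iff.1 (Invol.se_isConj M.se ha2 ht)
      exact ⟨c, Invol.se_mem_of_conj M.se ha2 ha (hc ▸ htH), hc⟩
    obtain ⟨d, hd, hda⟩ := hconj
    have hchar : (Cfsg.pCore p W).Characteristic := FittingCores.pCore_characteristic p
    let φ : W ≃* W := W.normalizerMonoidHom ⟨d⁻¹, M.toHyp.W_normal (H.inv_mem hd)⟩
    have hy : d⁻¹ * x * d⁻¹⁻¹ ∈ (Cfsg.pCore p W).map W.subtype := by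
      obtain ⟨z, hz, rfl⟩ := hx
      refine ⟨φ z, ?_, rfl⟩
      rw [← (Subgroup.characteristic_iff_map_eq.1 hchar) φ]
      exact ⟨z, hz, rfl⟩
    refine ⟨_, hy, fun e => hxt ?_⟩
    rw [← hda]
    calc d * a * d⁻¹ * x = d * (a * (d⁻¹ * x * d⁻¹⁻¹)) * d⁻¹ := by group
      _ = _ := by rw [e]; group

namespace Mov

variable (h : Mov H W E p)
include h

/-- The moved core. -/
def P (_ : Mov H W E p) : Subgroup G := (Cfsg.pCore p W).map W.subtype

/-- The core prime to `p`. -/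
def N (_ : Mov H W E p) : Subgroup G := (Cfsg.pPrimeCore p W).map W.subtype

theorem P_le : h.P ≤ W := map_subtype_le _
theorem N_le : h.N ≤ W := map_subtype_le _

theorem P_pgroup [Fact p.Prime] : IsPGroup p h.P := (FittingCores.pCore_isPGroup p).map _

theorem N_coprime : (Nat.card h.N).Coprime p := by
  rw [N, card_map_of_injective W.subtype_injective]
  exact FittingCores.pPrimeCore_coprime p

theorem char_norm {K : Subgroup W} (hK : K.Characteristic) {g : G} (hg : g ∈ H) {x : G}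
    (hx : x ∈ K.map W.subtype) : g * x * g⁻¹ ∈ K.map W.subtype := by
  let φ : W ≃* W := W.normalizerMonoidHom ⟨g, h.toHyp.W_normal hg⟩
  obtain ⟨z, hz, rfl⟩ := hx
  refine ⟨φ z, ?_, rfl⟩
  rw [← (Subgroup.characteristic_iff_map_eq.1 hK) φ]
  exact ⟨z, hz, rfl⟩

theorem P_norm : ∀ g ∈ H, ∀ x ∈ h.P, g * x * g⁻¹ ∈ h.P :=
  fun _ hg _ hx => char_norm h (FittingCores.pCore_characteristic p) hg hx

theorem N_norm : ∀ g ∈ H, ∀ x ∈ h.N, g * x * g⁻¹ ∈ h.N :=
  fun _ hg _ hx => char_norm h (FittingCores.pPrimeCore_characteristic p) hg hx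

theorem P_ne_bot : h.P ≠ ⊥ := fun e => by
  obtain ⟨t, htH, ht⟩ := h.toHyp.exists_invol
  obtain ⟨x, hx, hxt⟩ := h.moves t htH ht
  have : x ∈ h.P := hx
  rw [e, mem_bot] at this
  exact hxt (by rw [this]; simp)

theorem E_four : IsFour E := ⟨h.ea, le_trans (by norm_num) h.eight⟩

/-- No involution of `H` centralises `P`. -/
theorem not_cent {a : G} (ha : a ∈ H) (ha2 : orderOf a = 2) (hc : ∀ x ∈ h.P, a * x = x * a) : False := by
  obtain ⟨x, hx, hxa⟩ := h.moves a ha ha2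
  exact hxa (hc x hx)

/-- The centraliser of `P` in `H` lies in `W`. -/
theorem cent_P {x : G} (hxH : x ∈ H) (hx : ∀ y ∈ h.P, x * y = y * x) : x ∈ W := by
  set C := H ⊓ centralizer (h.P : Set G) with hC
  have hodd : Odd (Nat.card C) := odd_card_of_orders fun c hc hc2 =>
    not_cent h hc.1 hc2 fun y hy => (mem_centralizer_iff.1 hc.2 y hy).symm
  refine h.toHyp.le_W_of_four hodd (E_four h) h.E_le (le_normalizer_of fun e he c hc => ?_)
    (⟨hxH, mem_centralizer_iff.2 fun y hy => (hx y hy).symm⟩ : x ∈ C)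
  refine ⟨H.mul_mem (H.mul_mem (h.E_le he) hc.1) (H.inv_mem (h.E_le he)), mem_centralizer_iff.2 fun y hy => ?_⟩
  have hy' : e⁻¹ * y * e⁻¹⁻¹ ∈ h.P := P_norm h _ (H.inv_mem (h.E_le he)) y hy
  have := mem_centralizer_iff.1 hc.2 _ hy'
  calc y * (e * c * e⁻¹) = e * (e⁻¹ * y * e⁻¹⁻¹ * c) * e⁻¹ := by group
    _ = e * (c * (e⁻¹ * y * e⁻¹⁻¹)) * e⁻¹ := by rw [this]
    _ = _ := by group

theorem P_not_cyclic : ¬ IsCyclic h.P := fun hc => by
  haveI := hc
  haveI := Fact.mk h.prime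
  haveI := h.ea.1
  obtain ⟨a, ha, ha1⟩ : ∃ a ∈ E, a ≠ 1 := by
    by_contra! hno
    have h8 := h.eight
    rw [(eq_bot_iff_forall _).2 hno, card_bot] at h8
    omega
  obtain ⟨b, hb, hb1, hab⟩ : ∃ b ∈ E, b ≠ 1 ∧ b ≠ a := by
    by_contra! hno
    have hle : (E : Set G) ⊆ {1, a} := fun x hx => by
      by_cases hx1 : x = 1
      · exact Or.inl hx1
      · exact Or.inr (hno x hx hx1)
    have h8 := h.eight
    have := Set.ncard_le_ncard hle ((Set.finite_singleton a).insert 1)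
    rw [← Nat.card_coe_set_eq] at this
    have h2 := (Set.ncard_insert_le (1 : G) {a}).trans (by rw [Set.ncard_singleton])
    change Nat.card E ≤ _ at this
    omega
  have hn : ∀ c ∈ E, ∀ x ∈ h.P, c * x * c⁻¹ ∈ h.P := fun c hc x hx => P_norm h c (h.E_le hc) x hx
  have hinv : ∀ c ∈ E, c ≠ 1 → ∀ x ∈ h.P, c * x * c⁻¹ = x⁻¹ := fun c hc hc1 =>
    (inverts_or_centralises h.ne_two (P_pgroup h) ((E_four h).order hc hc1) (hn c hc)).resolve_left
      fun hf => not_cent h (h.E_le hc) ((E_four h).order hc hc1) fun x hx => mul_inv_eq_iff_eq_mul.1 (hf x hx)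
  have hab1 : a * b ≠ 1 := fun e => hab (by
    rw [eq_inv_of_mul_eq_one_right e, inv_eq_of_mul_eq_one_right ((E_four h).mul_self ha)])
  refine not_cent h (h.E_le (E.mul_mem ha hb)) ((E_four h).order (E.mul_mem ha hb) hab1) fun x hx => ?_
  refine mul_inv_eq_iff_eq_mul.1 ?_
  calc a * b * x * (a * b)⁻¹ = a * (b * x * b⁻¹) * a⁻¹ := by group
    _ = a * x⁻¹ * a⁻¹ := by rw [hinv b hb hb1 x hx]
    _ = (a * x * a⁻¹)⁻¹ := by group
    _ = x := by rw [hinv a ha ha1 x hx, inv_inv]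

/-- A proper subgroup holding `W` and a four-group of `H` lies in `H`. -/
theorem proper_le {L E₀ : Subgroup G} (hL : L ≠ ⊤) (hW : W ≤ L) (hE₀ : IsFour E₀) (hEH : E₀ ≤ H)
    (hEL : E₀ ≤ L) : L ≤ H := by
  by_contra hLH
  have hn := h.f2 L hL E₀ hEL hEH hE₀ hLH
  refine hLH ?_
  rw [← h.norm W le_rfl h.W_ne (fun a ha x hx => h.W_norm a ha x hx)]
  exact le_normalizer_of fun l hl w hw => (hn l hl w ⟨hw, hW hw⟩).1

/-- No section isomorphic to `SL(2, p)`. -/
theorem not_sl2 : ¬ Cfsg.Involves (Matrix.SpecialLinearGroup (Fin 2) (ZMod p)) G := by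
  intro hinv
  haveI := Fact.mk h.prime
  haveI : Fact (Nat.Prime 2) := ⟨Nat.prime_two⟩
  obtain ⟨K, ψ, hψ⟩ := PStable.exists_surjective_of_involves hinv
  set Z₁ : Subgroup G := ((zpowers (-1 : Matrix.SpecialLinearGroup (Fin 2) (ZMod p))).comap ψ).map K.subtype
    with hZ₁
  obtain ⟨P₁, hP₁, -⟩ := exists_isSylowIn_ge (p := 2) (A := (⊥ : Subgroup G)) (H := Z₁) IsPGroup.of_bot bot_le
  have hZK : Z₁ ≤ K := map_subtype_le _
  have hmemZ : ∀ k : K, (k : G) ∈ Z₁ ↔ ψ k ∈ zpowers (-1 : Matrix.SpecialLinearGroup (Fin 2) (ZMod p)) :=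
    fun k => ⟨fun ⟨y, hy, hyk⟩ => (Subtype.ext hyk : y = k) ▸ hy, fun hk => ⟨k, hk, rfl⟩⟩
  have hcen : ∀ x ∈ zpowers (-1 : Matrix.SpecialLinearGroup (Fin 2) (ZMod p)),
      ∀ y, y * x = x * y := by
    rintro _ ⟨i, rfl⟩ y
    exact ((Commute.neg_one_right y).zpow_right i).eq
  have hm1 : orderOf (-1 : Matrix.SpecialLinearGroup (Fin 2) (ZMod p)) = 2 :=
    orderOf_eq_prime (by rw [pow_two]; simp) (PStable.neg_one_ne_one h.ne_two)
  -- the Sylow subgroup maps onto the centre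
  have honto : ∃ s ∈ P₁, ∃ hs : s ∈ K, ψ ⟨s, hs⟩ = -1 := by
    obtain ⟨k, hk⟩ := hψ (-1)
    obtain ⟨e, m, hm, hem⟩ := Nat.exists_eq_two_pow_mul_odd (orderOf_pos (k : G)).ne'
    have hkm : ψ (k ^ m) = -1 := by
      obtain ⟨j, rfl⟩ := hm
      rw [map_pow, hk, pow_succ, pow_mul, neg_one_sq, one_pow, one_mul]
    have hz : ((k ^ m : K) : G) ∈ Z₁ := (hmemZ _).2 (hkm ▸ mem_zpowers _)
    obtain ⟨n, hn, hnP⟩ := exists_conj_le_of_isSylowIn hP₁ (A := zpowers ((k ^ m : K) : G))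
      (IsPGroup.of_card (n := e) (by
        rw [Nat.card_zpowers, SubmonoidClass.coe_pow,
          orderOf_pow_of_dvd (by rcases hm with ⟨j, hj⟩; omega) (hem ▸ dvd_mul_left m _), hem,
          Nat.mul_div_cancel _ (by rcases hm with ⟨j, hj⟩; omega)]))
      (zpowers_le.2 hz)
    have hnK := hZK hn
    refine ⟨_, hnP ⟨_, mem_zpowers _, rfl⟩, K.mul_mem (K.mul_mem hnK (k ^ m).2) (K.inv_mem hnK), ?_⟩
    rw [show (⟨cj n ((k ^ m : K) : G), K.mul_mem (K.mul_mem hnK (k ^ m).2) (K.inv_mem hnK)⟩ : K) =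
      ⟨n, hnK⟩ * k ^ m * ⟨n, hnK⟩⁻¹ from rfl, map_mul, map_mul, map_inv, hkm]
    rw [(Commute.neg_one_right (ψ ⟨n, hnK⟩)).eq, mul_inv_cancel_right]
  obtain ⟨s, hs, hsK, hψs⟩ := honto
  have hs1 : s ≠ 1 := fun e => PStable.neg_one_ne_one h.ne_two (by
    rw [← hψs, show (⟨s, hsK⟩ : K) = 1 from Subtype.ext e, map_one])
  haveI : Nontrivial P₁ := (nontrivial_iff_ne_bot P₁).2 fun e => hs1 (mem_bot.1 (e ▸ hs))
  haveI := hP₁.isPGroup.center_nontrivial
  obtain ⟨k, hk0, hk⟩ := (IsPGroup.nontrivial_iff_card (hP₁.isPGroup.to_subgroup (center P₁))).1 inferInstance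
  obtain ⟨i, hi⟩ := exists_prime_orderOf_dvd_card' (G := center P₁) 2 (hk ▸ dvd_pow_self 2 hk0.ne')
  rw [← Subgroup.orderOf_coe, ← Subgroup.orderOf_coe] at hi
  obtain ⟨c, hc⟩ := Invol.se_exists_fix h.se hi
  have hPc : ∀ x ∈ P₁, x • c = c := fun x hx => Invol.se_fix_unique h.se hi (by
    rw [← mul_smul, show ((i : P₁) : G) * x = x * (i : P₁) from
      (congrArg Subtype.val (mem_center_iff.1 i.2 ⟨x, hx⟩)).symm, mul_smul, hc]) hc
  -- the odd elements normalising the Sylow subgroup lie in `Wat W c`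
  have hlift : ∀ b : G, b ∈ K → b ∈ normalizer (P₁ : Set G) → Odd (orderOf b) → b ∈ Wat W c := by
    intro b hbK hbN hbo
    have hb : ∀ hb2 : ψ ⟨b, hbK⟩ * ψ ⟨s, hsK⟩ = ψ ⟨s, hsK⟩ * ψ ⟨b, hbK⟩, b ∈ Wat W c := by
      intro hb2
      obtain ⟨c₁, hc₁, hc₂⟩ := CoprimeAct.exists_mem_centralizer (A := zpowers b) (K := P₁)
        (zpowers_le.2 hbN)
        (by
          obtain ⟨j, hj⟩ := hP₁.isPGroup.exists_card_eq
          rw [Nat.card_zpowers, hj]
          exact (Nat.coprime_two_right.2 hbo).pow_right j)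
        (Or.inl (Group.isSolvable_of_comm fun a b => mul_comm' a b))
        (N := P₁ ⊓ (ψ.ker.map K.subtype)) inf_le_left
        (le_normalizer_of fun x hx y hy => ⟨P₁.mul_mem (P₁.mul_mem hx hy.1) (P₁.inv_mem hx), by
          obtain ⟨z, hz, hzy⟩ := hy.2
          exact ⟨⟨x, hZK (hP₁.le hx)⟩ * z * ⟨x, hZK (hP₁.le hx)⟩⁻¹,
            (inferInstance : ψ.ker.Normal).conj_mem z hz _, by simp [← hzy]⟩⟩)
        (zpowers_le.2 (mem_normalizer_of fun y hy => ⟨conj_mem_of hbN hy.1, by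
          obtain ⟨z, hz, hzy⟩ := hy.2
          exact ⟨⟨b, hbK⟩ * z * ⟨b, hbK⟩⁻¹, (inferInstance : ψ.ker.Normal).conj_mem z hz _, by simp [← hzy]⟩⟩))
        (k := s) hs (fun a ha => by
          obtain ⟨j, rfl⟩ := ha
          show b ^ j * s * (b ^ j)⁻¹ * s⁻¹ ∈ P₁ ⊓ ψ.ker.map K.subtype
          refine ⟨P₁.mul_mem (conj_mem_of (zpow_mem hbN j) hs) (P₁.inv_mem hs),
            ⟨(⟨b, hbK⟩ : K) ^ j * ⟨s, hsK⟩ * ((⟨b, hbK⟩ : K) ^ j)⁻¹ * ⟨s, hsK⟩⁻¹, ?_, by simp⟩⟩
          show ψ _ = 1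
          rw [map_mul, map_mul, map_mul, map_inv, map_inv, map_zpow,
            ((show Commute (ψ ⟨b, hbK⟩) (ψ ⟨s, hsK⟩) from hb2).zpow_left j).eq]
          group)
      obtain ⟨hc₁P, hc₁C⟩ := mem_inf.1 hc₁
      have hc₁1 : c₁ ≠ 1 := by
        rintro rfl
        rw [mul_one, inv_mem_iff] at hc₂
        obtain ⟨z, hz, hzs⟩ := hc₂.2
        have hz' : ψ z = 1 := hz
        rw [show z = ⟨s, hsK⟩ from Subtype.ext hzs, hψs] at hz'
        exact PStable.neg_one_ne_one h.ne_two hz'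
      obtain ⟨j, hj⟩ := IsPGroup.iff_orderOf.1 hP₁.isPGroup ⟨c₁, hc₁P⟩
      rw [Subgroup.orderOf_mk] at hj
      rcases Nat.eq_zero_or_pos j with rfl | hj0
      · exact absurd (orderOf_eq_one_iff.1 (by rw [hj, pow_zero])) hc₁1
      have ht : orderOf (c₁ ^ 2 ^ (j - 1)) = 2 := by
        rw [orderOf_pow_of_dvd (pow_ne_zero _ two_ne_zero) (hj ▸ pow_dvd_pow 2 (Nat.sub_le j 1)), hj,
          Nat.pow_div (Nat.sub_le j 1) two_pos, show j - (j - 1) = 1 by omega, pow_one]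
      exact h.toHyp.core_at ht (hPc _ (P₁.pow_mem hc₁P _)) hbo
        ((show Commute b c₁ from mem_centralizer_iff.1 hc₁C b (mem_zpowers b)).pow_right _).eq
    exact hb (by rw [hψs]; exact (Commute.neg_one_right _).eq)
  -- every odd element of the quotient lifts into that normaliser
  set Q : Subgroup (Matrix.SpecialLinearGroup (Fin 2) (ZMod p)) :=
    (((Wat W c).subgroupOf K).map ψ) with hQ
  have hQodd : Odd (Nat.card Q) := by
    refine Odd.of_dvd_nat ?_ (card_map_dvd _ ψ)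
    refine odd_card_of_orders fun x hx hx2 => ?_
    have := odd_order (h.toHyp.Wat_odd c) (mem_subgroupOf.1 hx)
    rw [Subgroup.orderOf_coe, hx2] at this
    exact absurd this (by decide)
  have hoddQ : ∀ y : Matrix.SpecialLinearGroup (Fin 2) (ZMod p), Odd (orderOf y) → y ∈ Q := by
    intro y hy
    obtain ⟨x, rfl⟩ := hψ y
    have hZn : ∀ k ∈ K, ∀ z ∈ Z₁, k * z * k⁻¹ ∈ Z₁ := by
      intro k hk z hz
      obtain ⟨z', hz', rfl⟩ := hz
      refine ⟨⟨k, hk⟩ * z' * ⟨k, hk⟩⁻¹, ?_, rfl⟩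
      show ψ _ ∈ zpowers _
      rw [map_mul, map_mul, map_inv, hcen _ hz', mul_inv_cancel_right]
      exact hz'
    obtain ⟨r, hr, hrn⟩ := frattini hP₁ (hZn x x.2)
    have hrK := hZK hr
    have hψr : ψ ⟨r, hrK⟩ ∈ zpowers (-1 : Matrix.SpecialLinearGroup (Fin 2) (ZMod p)) := (hmemZ _).1 hr
    set n : K := ⟨r, hrK⟩ * x with hn
    -- the odd part of the new lift
    obtain ⟨e, m, hm, hem⟩ := Nat.exists_eq_two_pow_mul_odd (orderOf_pos (n : G)).ne'
    have hodd : Odd (orderOf ((n : G) ^ 2 ^ e)) := by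
      rw [orderOf_pow_of_dvd (pow_ne_zero _ two_ne_zero) (hem ▸ dvd_mul_right _ m), hem,
        Nat.mul_div_cancel_left _ (Nat.two_pow_pos e)]
      exact hm
    have hmem := hlift _ (K.pow_mem n.2 _) (Subgroup.pow_mem _ hrn _) hodd
    have himg : ψ (n ^ 2 ^ e) ∈ Q := ⟨n ^ 2 ^ e, mem_subgroupOf.2 hmem, rfl⟩
    rcases Nat.eq_zero_or_pos e with rfl | he
    · -- then the lift itself is odd
      rw [pow_zero, pow_one] at himg
      have h1 : Odd (orderOf (ψ n)) := by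
        rw [pow_zero, one_mul] at hem
        refine Odd.of_dvd_nat (hem ▸ hm) ?_
        rw [Subgroup.orderOf_coe]
        exact orderOf_map_dvd ψ n
      have he1 : ψ ⟨r, hrK⟩ = 1 := by
        have hc : Commute (ψ ⟨r, hrK⟩) (ψ x) := (hcen _ hψr (ψ x)).symm
        obtain ⟨j, hj⟩ := hψr
        by_contra hne
        have ho2 : orderOf (ψ ⟨r, hrK⟩) = 2 := by
          refine orderOf_eq_prime ?_ hne
          rw [← hj, ← zpow_natCast, ← zpow_mul, mul_comm, zpow_mul, zpow_natCast, neg_one_sq, one_zpow]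
        have h2 := hc.orderOf_mul_eq_mul_orderOf_of_coprime (by rw [ho2]; exact Nat.coprime_two_left.2 hy)
        rw [← map_mul, ← hn, ho2] at h2
        rw [h2] at h1
        exact absurd h1 (Nat.not_odd_iff_even.2 (even_two_mul _))
      rwa [hn, map_mul, he1, one_mul] at himg
    · rw [map_pow, hn, map_mul, Commute.mul_pow (hcen _ hψr (ψ x)).symm] at himg
      have h1 : ψ ⟨r, hrK⟩ ^ 2 ^ e = 1 := by
        obtain ⟨j, hj⟩ := hψr
        rw [← Nat.sub_add_cancel he, pow_succ', pow_mul, show ψ ⟨r, hrK⟩ ^ 2 = 1 by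
          rw [← hj, ← zpow_natCast, ← zpow_mul, mul_comm, zpow_mul, zpow_natCast, neg_one_sq, one_zpow], one_pow]
      rw [h1, one_mul] at himg
      obtain ⟨k, hk⟩ := exists_pow_eq_self_of_coprime (x := ψ x)
        (show Nat.Coprime (2 ^ e) (orderOf (ψ x)) from (Nat.coprime_two_left.2 hy).pow_left e)
      exact hk ▸ Q.pow_mem himg k
  -- two transvections with a product of order four
  have hu : ∀ v : ZMod p, (PStable.upp v : Matrix.SpecialLinearGroup (Fin 2) (ZMod p)) ^ p = 1 := fun v => by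
    have : ∀ n : ℕ, (PStable.upp v : Matrix.SpecialLinearGroup (Fin 2) (ZMod p)) ^ n = PStable.upp (n * v) := by
      intro n
      induction n with
      | zero => rw [pow_zero, Nat.cast_zero, zero_mul, PStable.upp_zero]
      | succ n ih => rw [pow_succ, ih, PStable.upp_mul, Nat.cast_succ, add_mul, one_mul]
    rw [this, ZMod.natCast_self, zero_mul, PStable.upp_zero]
  have hl : ∀ v : ZMod p, (PStable.low v : Matrix.SpecialLinearGroup (Fin 2) (ZMod p)) ^ p = 1 := fun v => by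
    have h0 : (PStable.low 0 : Matrix.SpecialLinearGroup (Fin 2) (ZMod p)) = 1 :=
      Subtype.ext (by simp [PStable.low_val, Matrix.one_fin_two])
    have : ∀ n : ℕ, (PStable.low v : Matrix.SpecialLinearGroup (Fin 2) (ZMod p)) ^ n = PStable.low (n * v) := by
      intro n
      induction n with
      | zero => rw [pow_zero, Nat.cast_zero, zero_mul, h0]
      | succ n ih => rw [pow_succ, ih, PStable.low_mul, Nat.cast_succ, add_mul, one_mul]
    rw [this, ZMod.natCast_self, zero_mul, h0]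
  have hop : ∀ y : Matrix.SpecialLinearGroup (Fin 2) (ZMod p), y ^ p = 1 → y ∈ Q := fun y hy =>
    hoddQ y ((h.prime.odd_of_ne_two h.ne_two).of_dvd_nat (orderOf_dvd_of_pow_eq_one hy))
  set a : Matrix.SpecialLinearGroup (Fin 2) (ZMod p) := PStable.upp 1 * PStable.low (-2) with ha
  have haQ : a ∈ Q := Q.mul_mem (hop _ (hu 1)) (hop _ (hl (-2)))
  have ha2 : a ^ 2 = -1 := by
    apply Subtype.ext
    rw [pow_two, ha]
    ext i j
    fin_cases i <;> fin_cases j <;>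
      simp [PStable.upp_val, PStable.low_val, Matrix.mul_apply, Fin.sum_univ_two] <;> ring
  have hodd := odd_order hQodd (Q.pow_mem haQ 2)
  rw [ha2, hm1] at hodd
  exact absurd hodd (by decide)

/-- No section isomorphic to `Qd(p)`. -/
theorem not_qd : ¬ Cfsg.Involves ↥(Cfsg.qd p) G := by
  intro hinv
  haveI := Fact.mk h.prime
  obtain ⟨K, ψ, hψ⟩ := PStable.exists_surjective_of_involves hinv
  have hrep := fun A : ↥(Cfsg.qd p) => PStable.mem_qd_iff.1 A.2
  choose B v hBv using hrep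
  let g : ↥(Cfsg.qd p) →* Matrix.SpecialLinearGroup (Fin 2) (ZMod p) := MonoidHom.mk' B fun X Y => by
    refine (PStable.aff_injective (v := v (X * Y)) (w := v X + (B X).1.mulVec (v Y)) ?_).1
    rw [hBv, ← PStable.aff_mul, hBv, hBv]
    rfl
  refine not_sl2 h (PStable.involves_of_surjective (g.comp ψ) fun M => ?_)
  obtain ⟨k, hk⟩ := hψ ⟨PStable.aff M 0, PStable.mem_qd_iff.2 ⟨M, 0, rfl⟩⟩
  refine ⟨k, ?_⟩
  show B (ψ k) = M
  refine (PStable.aff_injective (v := v (ψ k)) (w := 0) ?_).1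
  rw [hBv, hk]

theorem isQuad (L : Subgroup G) : ZJ.IsQuad p L := by
  haveI := Fact.mk h.prime
  exact PStable.isQuad_of_not_involves_sl2 h.ne_two fun hL => not_sl2 h (PStable.involves_of_subgroup hL)

/-- With trivial core prime to `p`, the centre of the Thompson subgroup is normal in `H`. -/
theorem zCore_norm [Fact p.Prime] (hN : h.N = ⊥) {T D : Subgroup G} (hT : IsSylowIn p T H) (hDT : D ≤ T)
    (hD : ∀ x ∈ D, ∀ g ∈ H, g * x * g⁻¹ ∈ T → g * x * g⁻¹ ∈ D) :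
    ∀ g ∈ H, ∀ x ∈ ZJ.zCore p False D, g * x * g⁻¹ ∈ ZJ.zCore p False D := by
  obtain ⟨S, hS⟩ := hT.exists_sylow
  have hsc : IsStronglyClosed (D.subgroupOf H) (S : Subgroup H) :=
    ⟨fun x hx => by rw [hS]; exact hDT hx, fun x hx g hg => by
      rw [hS, mem_subgroupOf] at hg
      exact hD x hx g g.2 hg⟩
  have hW0 : Cfsg.pPrimeCore p W = ⊥ :=
    (Subgroup.map_eq_bot_iff_of_injective _ W.subtype_injective).1 hN
  have hcons : centralizer (Cfsg.pCore p H : Set H) ≤ Cfsg.pCore p H := by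
    intro x hx
    have hPO : h.P.subgroupOf H ≤ Cfsg.pCore p H := FittingCores.le_pCore
      (normal_subgroupOf_of_le_normalizer (le_normalizer_of (P_norm h)))
      ((P_pgroup h).comap_subtype)
    have hxP : ∀ y ∈ h.P, (x : G) * y = y * x := fun y hy =>
      (congrArg Subtype.val (mem_centralizer_iff.1 hx ⟨y, h.W_le (P_le h hy)⟩ (hPO hy))).symm
    have hxW := cent_P h x.2 hxP
    haveI := solvable_of_odd h.W_odd
    have hxO : (⟨x, hxW⟩ : W) ∈ Cfsg.pCore p W := FittingCores.centralizer_pCore_le h.prime hW0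
      (mem_centralizer_iff.2 fun y hy => Subtype.ext (hxP y ⟨y, hy, rfl⟩).symm)
    exact hPO (show (x : G) ∈ h.P from ⟨_, hxO, rfl⟩)
  have hn := ZJClosed.zCore_normal h.ne_two (isQuad h H) hcons S hsc False
  intro g hg x hx
  have hmap : (ZJ.zCore p False (D.subgroupOf H)).map H.subtype = ZJ.zCore p False D := by
    rw [ZJ.zCore_map H.subtype H.subtype_injective.injOn, subgroupOf_map_subtype,
      inf_eq_left.2 (hDT.trans hT.le)]
  rw [← hmap] at hx ⊢
  obtain ⟨y, hy, rfl⟩ := hx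
  exact ⟨⟨g, hg⟩ * y * ⟨g, hg⟩⁻¹, hn.conj_mem y hy _, rfl⟩

end Mov

end Cfsg.Agent.SEBrick
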