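import Cfsg.Agent.Lib.SEBrick.Moving1
import Cfsg.Agent.Lib.OddOrder.OmegaCentral
import Cfsg.Agent.Lib.Isolated.RankOne

/-!
Subgroups of the moved core normalised by a four-group have normalisers in `H`; the seed pair.
-/

set_option autoImplicit false
set_option linter.style.haveILetI false
set_option linter.unusedSectionVars false

namespace Cfsg.Agent.SEBrick

open Cfsg Subgroup Cfsg.Agent.Functors

universe u

variable {G : Type u} [Group G] [Finite G] {H W E : Subgroup G} {p : ℕ}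

/-- A four-group acting on a group of odd order, abelian modulo a central part: the elements it
sends to themselves or their inverses modulo that part generate. -/
theorem eigen_generate (hE : IsFour E) {M Z : Subgroup G} (hodd : Odd (Nat.card M))
    (hEM : ∀ e ∈ E, ∀ m ∈ M, e * m * e⁻¹ ∈ M) (hZn : ∀ e ∈ E, ∀ z ∈ Z, e * z * e⁻¹ ∈ Z)
    (hMM : ∀ a ∈ M, ∀ b ∈ M, a * b * a⁻¹ * b⁻¹ ∈ Z) (hMZ : ∀ a ∈ M, ∀ z ∈ Z, a * z * a⁻¹ ∈ Z)
    {S : Subgroup G} (hZS : Z ≤ S)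
    (hS : ∀ w ∈ M, (∀ e ∈ E, e * w * e⁻¹ * w⁻¹ ∈ Z ∨ e * w * e⁻¹ * w ∈ Z) → w ∈ S) : M ≤ S := by
  classical
  haveI : Fintype G := Fintype.ofFinite G
  -- two elements are congruent when their quotient lies in `Z`
  have htrans : ∀ a b c : G, a * b⁻¹ ∈ Z → b * c⁻¹ ∈ Z → a * c⁻¹ ∈ Z := fun a b c hab hbc => by
    have := Z.mul_mem hab hbc
    rwa [show a * b⁻¹ * (b * c⁻¹) = a * c⁻¹ by group] at this
  have hmul : ∀ a b c d : G, a ∈ M → a * b⁻¹ ∈ Z → c * d⁻¹ ∈ Z → (a * c) * (b * d)⁻¹ ∈ Z := by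
    intro a b c d ha hab hcd
    have := Z.mul_mem (hMZ a ha _ hcd) hab
    rwa [show a * (c * d⁻¹) * a⁻¹ * (a * b⁻¹) = a * c * (b * d)⁻¹ by group] at this
  have hinv : ∀ a b : G, a ∈ M → a * b⁻¹ ∈ Z → a⁻¹ * b⁻¹⁻¹ ∈ Z := fun a b ha hab => by
    have := hMZ a⁻¹ (M.inv_mem ha) _ (Z.inv_mem hab)
    rwa [show a⁻¹ * (a * b⁻¹)⁻¹ * a⁻¹⁻¹ = a⁻¹ * b⁻¹⁻¹ by group] at this
  have hcomm : ∀ a ∈ M, ∀ b ∈ M, (a * b) * (b * a)⁻¹ ∈ Z := fun a ha b hb => by
    rw [show a * b * (b * a)⁻¹ = a * b * a⁻¹ * b⁻¹ by group]; exact hMM a ha b hb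
  have hconj : ∀ e ∈ E, ∀ a b : G, a * b⁻¹ ∈ Z → e * a * e⁻¹ * (e * b * e⁻¹)⁻¹ ∈ Z := fun e he a b hab => by
    rw [show e * a * e⁻¹ * (e * b * e⁻¹)⁻¹ = e * (a * b⁻¹) * e⁻¹ by group]; exact hZn e he _ hab
  have key : ∀ s : Finset G, (∀ e ∈ s, e ∈ E) → ∀ R : Subgroup G, Z ≤ R →
      (∀ w ∈ M, (∀ e ∈ s, e * w * e⁻¹ * w⁻¹ ∈ Z ∨ e * w * e⁻¹ * w⁻¹⁻¹ ∈ Z) → w ∈ R) → M ≤ R := by
    intro s
    induction s using Finset.induction_on with
    | empty => intro _ R _ hR w hw; exact hR w hw fun e he => absurd he (Finset.notMem_empty e)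
    | @insert e s hes ih =>
      intro hsE R hZR hR
      have heE := hsE e (Finset.mem_insert_self e s)
      refine ih (fun f hf => hsE f (Finset.mem_insert_of_mem hf)) R hZR fun w hw hws => ?_
      set w' := e * w * e⁻¹ with hw'
      have hw'M : w' ∈ M := hEM e heE w hw
      have hee : e * w' * e⁻¹ = w := by
        rw [hw', show e * (e * w * e⁻¹) * e⁻¹ = (e * e) * w * (e * e)⁻¹ by group, hE.mul_self heE]; simp
      have hef : ∀ f ∈ s, f * w' * f⁻¹ = e * (f * w * f⁻¹) * e⁻¹ := fun f hf => by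
        have hc : f * e = e * f := hE.comm (hsE f (Finset.mem_insert_of_mem hf)) heE
        rw [hw', show f * (e * w * e⁻¹) * f⁻¹ = (f * e) * w * (f * e)⁻¹ by group, hc]; group
      -- the two combinations are eigen for the larger set
      have hA : w * w' ∈ R := by
        refine hR _ (M.mul_mem hw hw'M) fun f hf => ?_
        rcases Finset.mem_insert.1 hf with rfl | hf
        · refine Or.inl ?_
          rw [show f * (w * w') * f⁻¹ = (f * w * f⁻¹) * (f * w' * f⁻¹) by group, ← hw', hee]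
          exact hcomm w' hw'M w hw
        · have hfE := hsE f (Finset.mem_insert_of_mem hf)
          rcases hws f hf with h1 | h1
          · refine Or.inl ?_
            rw [show f * (w * w') * f⁻¹ = (f * w * f⁻¹) * (f * w' * f⁻¹) by group]
            refine hmul _ _ _ _ (hEM f hfE w hw) h1 ?_
            rw [hef f hf, hw']
            exact hconj e heE _ _ h1
          · refine Or.inr ?_
            rw [show f * (w * w') * f⁻¹ = (f * w * f⁻¹) * (f * w' * f⁻¹) by group]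
            refine htrans _ (w⁻¹ * w'⁻¹) _ (hmul _ _ _ _ (hEM f hfE w hw) h1 ?_) ?_
            · rw [hef f hf, hw', show (e * w * e⁻¹)⁻¹ = e * w⁻¹ * e⁻¹ by group]
              exact hconj e heE _ _ h1
            · have := hcomm _ (M.inv_mem hw) _ (M.inv_mem hw'M)
              rwa [show w⁻¹ * w'⁻¹ * (w'⁻¹ * w⁻¹)⁻¹ = w⁻¹ * w'⁻¹ * (w * w')⁻¹⁻¹ by group] at this
      have hB : w * w'⁻¹ ∈ R := by
        refine hR _ (M.mul_mem hw (M.inv_mem hw'M)) fun f hf => ?_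
        rcases Finset.mem_insert.1 hf with rfl | hf
        · refine Or.inr ?_
          rw [show f * (w * w'⁻¹) * f⁻¹ = (f * w * f⁻¹) * (f * w' * f⁻¹)⁻¹ by group, ← hw', hee,
            show w' * w⁻¹ * (w * w'⁻¹)⁻¹⁻¹ = 1 by group]
          exact Z.one_mem
        · have hfE := hsE f (Finset.mem_insert_of_mem hf)
          have hfw' : f * w' * f⁻¹ ∈ M := hEM f hfE w' hw'M
          rcases hws f hf with h1 | h1
          · refine Or.inl ?_
            rw [show f * (w * w'⁻¹) * f⁻¹ = (f * w * f⁻¹) * (f * w' * f⁻¹)⁻¹ by group]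
            refine hmul _ _ _ _ (hEM f hfE w hw) h1 (hinv _ _ hfw' ?_)
            rw [hef f hf, hw']
            exact hconj e heE _ _ h1
          · refine Or.inr ?_
            rw [show f * (w * w'⁻¹) * f⁻¹ = (f * w * f⁻¹) * (f * w' * f⁻¹)⁻¹ by group]
            refine htrans _ (w⁻¹ * w'⁻¹⁻¹) _ (hmul _ _ _ _ (hEM f hfE w hw) h1 (hinv _ _ hfw' ?_)) ?_
            · rw [hef f hf, hw', show (e * w * e⁻¹)⁻¹ = e * w⁻¹ * e⁻¹ by group]
              exact hconj e heE _ _ h1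
            · rw [inv_inv, mul_inv_rev, inv_inv]
              exact hcomm _ (M.inv_mem hw) _ hw'M
      have hz : w * w * ((w * w') * (w * w'⁻¹))⁻¹ ∈ R := by
        refine hZR ?_
        rw [show w * w * ((w * w') * (w * w'⁻¹))⁻¹ = w * (w * w' * w⁻¹ * w'⁻¹) * w⁻¹ by group]
        exact hMZ w hw _ (hMM w hw w' hw'M)
      have hsq : w ^ 2 ∈ R := by
        rw [pow_two, ← inv_mul_cancel_right (w * w) ((w * w') * (w * w'⁻¹))]
        exact R.mul_mem hz (R.mul_mem hA hB)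
      obtain ⟨k, hk⟩ := exists_pow_eq_self_of_coprime (x := w) (n := 2)
        (Nat.coprime_two_left.2 (odd_order hodd hw))
      exact hk ▸ R.pow_mem hsq k
  refine key (Finset.univ.filter fun e => e ∈ E) (fun e he => (Finset.mem_filter.1 he).2) S hZS
    fun w hw hwe => hS w hw fun e he => ?_
  have := hwe e (Finset.mem_filter.2 ⟨Finset.mem_univ e, he⟩)
  rwa [inv_inv] at this

namespace Mov

variable (h : Mov H W E p)
include h

/-- The elements of order `p` of the moved core, central modulo `Z`. -/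
def IsY (Z : Subgroup G) (x : G) : Prop := x ∈ h.P ∧ x ^ p = 1 ∧ ∀ a ∈ h.P, x * a * x⁻¹ * a⁻¹ ∈ Z

/-- A central subgroup of exponent `p` of the moved core, invariant under `H`. -/
structure IsZ (Z : Subgroup G) : Prop where
  le : Z ≤ h.P
  pow : ∀ z ∈ Z, z ^ p = 1
  cen : ∀ z ∈ Z, ∀ x ∈ h.P, z * x = x * z
  norm : ∀ g ∈ H, ∀ z ∈ Z, g * z * g⁻¹ ∈ Z

/-- The subgroup of such elements. -/
def Y {Z : Subgroup G} (hZ : h.IsZ Z) : Subgroup G where
  carrier := {x | h.IsY Z x}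
  one_mem' := ⟨h.P.one_mem, one_pow p, fun a _ => by simp [Z.one_mem]⟩
  mul_mem' := fun {x y} hx hy => by
    obtain ⟨hxP, hxp, hxc⟩ := hx
    obtain ⟨hyP, hyp, hyc⟩ := hy
    refine ⟨h.P.mul_mem hxP hyP, ?_, fun a ha => ?_⟩
    · haveI := Fact.mk h.prime
      set c := x⁻¹ * y⁻¹ * x * y with hc
      have hcZ : c ∈ Z := by
        have := hxc _ (h.P.inv_mem hyP)
        have h2 := hZ.norm x⁻¹ (H.inv_mem (h.W_le (P_le h hxP))) _ this
        rw [show x⁻¹ * (x * y⁻¹ * x⁻¹ * y⁻¹⁻¹) * x⁻¹⁻¹ = y⁻¹ * x⁻¹ * y * x by group] at h2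
        have h3 := Z.inv_mem h2
        rwa [show (y⁻¹ * x⁻¹ * y * x)⁻¹ = c by rw [hc]; group] at h3
      have hba : y * x = x * y * c⁻¹ := by rw [hc]; group
      obtain ⟨d, hd⟩ := h.prime.dvd_choose_self (k := 2) two_ne_zero
        (lt_of_le_of_ne h.prime.two_le (Ne.symm h.ne_two))
      rw [LEOmega.mul_pow_class_two hba (hZ.cen _ (Z.inv_mem hcZ) x hxP) (hZ.cen _ (Z.inv_mem hcZ) y hyP) p,
        hxp, hyp, hd, pow_mul, inv_pow, hZ.pow c hcZ]
      simp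
    · have := Z.mul_mem (hZ.norm x (h.W_le (P_le h hxP)) _ (hyc a ha)) (hxc a ha)
      rwa [show x * (y * a * y⁻¹ * a⁻¹) * x⁻¹ * (x * a * x⁻¹ * a⁻¹) = x * y * a * (x * y)⁻¹ * a⁻¹ by group]
        at this
  inv_mem' := fun {x} hx => by
    obtain ⟨hxP, hxp, hxc⟩ := hx
    refine ⟨h.P.inv_mem hxP, by rw [inv_pow, hxp, inv_one], fun a ha => ?_⟩
    have := hZ.norm x⁻¹ (H.inv_mem (h.W_le (P_le h hxP))) _ (Z.inv_mem (hxc a ha))
    rwa [show x⁻¹ * (x * a * x⁻¹ * a⁻¹)⁻¹ * x⁻¹⁻¹ = x⁻¹ * a * x⁻¹⁻¹ * a⁻¹ by group] at this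

theorem Y_le {Z : Subgroup G} (hZ : h.IsZ Z) : h.Y hZ ≤ h.P := fun _ hx => hx.1

theorem Y_pow {Z : Subgroup G} (hZ : h.IsZ Z) {x : G} (hx : x ∈ h.Y hZ) : x ^ p = 1 := hx.2.1

theorem Y_comm {Z : Subgroup G} (hZ : h.IsZ Z) {x y : G} (hx : x ∈ h.Y hZ) (hy : y ∈ h.P) :
    x * y * x⁻¹ * y⁻¹ ∈ Z := hx.2.2 y hy

theorem Z_le_Y {Z : Subgroup G} (hZ : h.IsZ Z) : Z ≤ h.Y hZ := fun z hz => ⟨hZ.le hz, hZ.pow z hz, fun a ha => by
  rw [hZ.cen z hz a ha, mul_inv_cancel_right, mul_inv_cancel]; exact Z.one_mem⟩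

theorem Y_norm {Z : Subgroup G} (hZ : h.IsZ Z) : ∀ g ∈ H, ∀ x ∈ h.Y hZ, g * x * g⁻¹ ∈ h.Y hZ := by
  intro g hg x hx
  refine ⟨P_norm h g hg x hx.1, by rw [conj_pow, hx.2.1]; group, fun a ha => ?_⟩
  have ha' : g⁻¹ * a * g⁻¹⁻¹ ∈ h.P := P_norm h _ (H.inv_mem hg) a ha
  have := hZ.norm g hg _ (hx.2.2 _ ha')
  rwa [show g * (x * (g⁻¹ * a * g⁻¹⁻¹) * x⁻¹ * (g⁻¹ * a * g⁻¹⁻¹)⁻¹) * g⁻¹ =
    g * x * g⁻¹ * a * (g * x * g⁻¹)⁻¹ * a⁻¹ by group] at this

/-- The subgroups of the moved core normalised by a four-group of `H`. -/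
theorem norm_le {Q E₀ : Subgroup G} (hQ : Q ≤ h.P) (hQ1 : Q ≠ ⊥) (hE₀ : IsFour E₀) (hE₀H : E₀ ≤ H)
    (hn : E₀ ≤ normalizer (Q : Set G)) : normalizer (Q : Set G) ≤ H := by
  haveI := Fact.mk h.prime
  by_contra hLH
  by_cases hN : h.N = ⊥
  · obtain ⟨T₀, -, hT₀, hT₀N⟩ := h.toMin.climb (p := p) hQ1 (hQ.trans (P_le h)) ((P_pgroup h).to_le hQ)
      hE₀ hE₀H hn hLH
    obtain ⟨T, hT, hTT⟩ := exists_isSylowIn_ge hT₀.isPGroup (hT₀.le.trans h.W_le)
    have hTW : T₀ = T ⊓ W :=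
      hT₀.eq_of_le (hT.isPGroup.to_le inf_le_left) (le_inf hTT hT₀.le) inf_le_right
    have hT₀1 : T₀ ≠ ⊥ := fun e => by
      obtain ⟨n, hn, hle⟩ := exists_conj_le_of_isSylowIn hT₀ (P_pgroup h) (P_le h)
      rw [e, le_bot_iff, Subgroup.map_eq_bot_iff_of_injective _ (cj_injective n)] at hle
      exact P_ne_bot h hle
    have hX := zCore_norm h hN hT hTT fun x hx g hg hgx => by
      rw [hTW] at hx ⊢
      exact ⟨hgx, h.W_norm g hg x hx.2⟩
    refine hT₀N ((ClosedZJ.normalizer_le T₀).trans (h.norm _ ((ClosedZJ.zCore_le T₀).trans hT₀.le) ?_ hX).le)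
    exact ZJ.zCore_ne_bot hT₀.isPGroup hT₀1
  · set L := normalizer (Q : Set G) with hL
    have hLtop : L ≠ ⊤ := h.toMin.normalizer_ne_top hQ1 (odd_of_le h.W_odd (hQ.trans (P_le h)))
    have hR := h.f2 L hLtop E₀ hn hE₀H hE₀ hLH
    set R := W ⊓ L with hRdef
    haveI := solvable_of_odd h.W_odd
    have hN0 : Cfsg.pPrimeCore p W ≠ ⊥ := fun e => hN (by rw [N, e, Subgroup.map_bot])
    obtain ⟨Z₀, s, hs, hZn, hZ1, hZN, -, -, hZs, -⟩ :=
      SolvBasic.exists_minimal_normal_abelian (FittingCores.pPrimeCore_normal (G := W) p) hN0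
    haveI := Fact.mk hs
    have hsp : s ≠ p := by
      rintro rfl
      obtain ⟨k, hk⟩ := hZs.exists_card_eq
      rcases Nat.eq_zero_or_pos k with rfl | hk0
      · exact hZ1 (Subgroup.card_eq_one.1 (by rw [hk, pow_zero]))
      · have hd : s ∣ Nat.card (Cfsg.pPrimeCore s W) := (dvd_pow_self s hk0.ne').trans (hk ▸ card_dvd_of_le hZN)
        exact (h.prime.coprime_iff_not_dvd.1 (FittingCores.pPrimeCore_coprime s).symm) hd
    set O := (Cfsg.pCore s W).map W.subtype with hO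
    have hO1 : O ≠ ⊥ := fun e => hZ1 (le_bot_iff.1
      ((Subgroup.map_eq_bot_iff_of_injective _ W.subtype_injective).1 e ▸ FittingCores.le_pCore hZn hZs))
    have hOs : IsPGroup s O := (FittingCores.pCore_isPGroup s).map _
    have hcop : ∀ {A B : Subgroup G}, IsPGroup s A → IsPGroup p B → (Nat.card A).Coprime (Nat.card B) := by
      intro A B hA hB
      obtain ⟨i, hi⟩ := hA.exists_card_eq
      obtain ⟨j, hj⟩ := hB.exists_card_eq
      rw [hi, hj]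
      exact ((Nat.coprime_primes hs h.prime).2 hsp).pow i j
    have hOW : O ≤ W := map_subtype_le _
    have hOn : ∀ g ∈ H, ∀ x ∈ O, g * x * g⁻¹ ∈ O :=
      fun g hg x hx => char_norm h (FittingCores.pCore_characteristic s) hg hx
    have hOP : ∀ x ∈ O, ∀ y ∈ h.P, x * y = y * x := fun x hx y hy => AxB.commute_of_coprime
      (le_normalizer_of fun a ha b hb => P_norm h a (h.W_le (hOW ha)) b hb)
      (le_normalizer_of fun a ha b hb => hOn a (h.W_le (P_le h ha)) b hb)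
      (hcop hOs (P_pgroup h)) hx hy
    have hcentL : ∀ x ∈ centralizer (h.P : Set G), x ∈ L := fun x hx => mem_normalizer_of fun y hy => by
      rw [← mem_centralizer_iff.1 hx y (hQ hy), mul_inv_cancel_right]; exact hy
    have hOR : O ≤ R := fun x hx =>
      ⟨hOW hx, hcentL x (mem_centralizer_iff.2 fun y hy => (hOP x hx y hy).symm)⟩
    set OR := (Cfsg.pCore s R).map R.subtype with hORdef
    have hle1 : O ≤ OR := by
      intro x hx
      refine ⟨⟨x, hOR hx⟩, FittingCores.le_pCore (N := O.subgroupOf R)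
        (normal_subgroupOf_of_le_normalizer (le_normalizer_of fun a ha => hOn a (h.W_le ha.1)))
        hOs.comap_subtype hx, rfl⟩
    have hORR : OR ≤ R := map_subtype_le _
    have hORs : IsPGroup s OR := (FittingCores.pCore_isPGroup s).map _
    have hORn : R ≤ normalizer (OR : Set G) := le_normalizer_of fun a ha x hx => by
      obtain ⟨y, hy, rfl⟩ := hx
      exact ⟨⟨a, ha⟩ * y * ⟨a, ha⟩⁻¹, (FittingCores.pCore_normal s).conj_mem y hy _, rfl⟩
    have hPL : h.P ⊓ L ≤ R := fun x hx => ⟨P_le h hx.1, hx.2⟩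
    have hORP : ∀ x ∈ OR, ∀ y ∈ h.P, x * y = y * x := by
      intro x hx
      have hcl : ∀ y ∈ h.P ⊓ L, x * y = y * x := fun y hy => AxB.commute_of_coprime
        (le_normalizer_of (X := h.P ⊓ L) fun a ha b hb => ⟨P_norm h a (h.W_le (hORR ha).1) b hb.1,
          L.mul_mem (L.mul_mem (hORR ha).2 hb.2) (L.inv_mem (hORR ha).2)⟩)
        (hPL.trans hORn) (hcop hORs ((P_pgroup h).to_le inf_le_left)) hx hy
      obtain ⟨j, hj⟩ := IsPGroup.iff_orderOf.1 hORs ⟨x, hx⟩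
      rw [Subgroup.orderOf_mk] at hj
      refine AxB.thompson (P := h.P) (A := Q) (n := orderOf x) (P_pgroup h) ((P_pgroup h).to_le hQ)
        (hQ.trans le_normalizer) (fun y hy => P_norm h x (h.W_le (hORR hx).1) y hy)
        (fun a ha => (hcl a ⟨hQ ha, le_normalizer ha⟩).symm) (pow_orderOf_eq_one x)
        (hj ▸ ((Nat.coprime_primes h.prime hs).2 (Ne.symm hsp)).pow_right j)
        (fun y hy hyQ => hcl y ⟨hy, mem_normalizer_of fun a ha => by rw [← hyQ a ha, mul_inv_cancel_right]; exact ha⟩)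
    set K₀ := (W ⊓ centralizer (h.P : Set G)).subgroupOf W with hK₀
    haveI hK₀n : K₀.Normal := normal_subgroupOf_of_le_normalizer (le_normalizer_of fun a ha x hx =>
      ⟨W.mul_mem (W.mul_mem ha hx.1) (W.inv_mem ha), mem_centralizer_iff.2 fun y hy => by
        have hy' : a⁻¹ * y * a⁻¹⁻¹ ∈ h.P := P_norm h _ (H.inv_mem (h.W_le ha)) y hy
        have := mem_centralizer_iff.1 hx.2 _ hy'
        calc y * (a * x * a⁻¹) = a * (a⁻¹ * y * a⁻¹⁻¹ * x) * a⁻¹ := by group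
          _ = a * (x * (a⁻¹ * y * a⁻¹⁻¹)) * a⁻¹ := by rw [this]
          _ = _ := by group⟩)
    have hle2 : OR ≤ O := by
      intro x hx
      have hxK : x ∈ W ⊓ centralizer (h.P : Set G) :=
        ⟨(hORR hx).1, mem_centralizer_iff.2 fun y hy => (hORP x hx y hy).symm⟩
      set OK : Subgroup K₀ := (OR.subgroupOf W).subgroupOf K₀ with hOK
      have hOKn : OK.Normal := ⟨fun y hy g => by
        have hg : (((g : K₀) : W) : G) ∈ R := ⟨((g : K₀) : W).2, hcentL _ (mem_subgroupOf.1 g.2).2⟩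
        exact (show _ ∈ OR from conj_mem_of (hORn hg) hy)⟩
      have h1 : ((⟨⟨x, (hORR hx).1⟩, hxK⟩ : K₀) : W) ∈ Cfsg.pCore s W :=
        FittingCores.pCore_map_subtype_le s hK₀n ⟨⟨⟨x, (hORR hx).1⟩, hxK⟩,
          FittingCores.le_pCore hOKn (hORs.comap_subtype.comap_subtype) hx, rfl⟩
      exact ⟨_, h1, rfl⟩
    refine hLH ?_
    rw [← h.norm O hOW hO1 hOn]
    refine le_normalizer_of fun l hl x hx => hle2 ?_
    obtain ⟨y, hy, hyx⟩ := hle1 hx
    subst hyx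
    let φ : R ≃* R := R.normalizerMonoidHom ⟨l, mem_normalizer_of fun r hr => hR l hl r hr⟩
    refine ⟨φ y, ?_, rfl⟩
    rw [← (Subgroup.characteristic_iff_map_eq.1 (FittingCores.pCore_characteristic s)) φ]
    exact ⟨y, hy, rfl⟩

/-- A seed pair. -/
structure Seed (Z : Subgroup G) (z w₀ : G) : Prop where
  isZ : h.IsZ Z
  Z_eq : Z = ⊥ ∨ Z = zpowers z
  z_mem : z ∈ h.P
  z_pow : z ^ p = 1
  z_ne : z ≠ 1
  z_cen : ∀ x ∈ h.P, z * x = x * z
  w_mem : h.IsY Z w₀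
  w_not : w₀ ∉ zpowers z
  eig_z : ∀ e ∈ E, e * z * e⁻¹ = z ∨ e * z * e⁻¹ = z⁻¹
  eig_w : ∀ e ∈ E, e * w₀ * e⁻¹ = w₀ ∨ e * w₀ * e⁻¹ = w₀⁻¹

/-- Exact eigenvectors in an abelian group of exponent `p`. -/
theorem exists_eigen {M S : Subgroup G} (hMp : ∀ m ∈ M, m ^ p = 1) (hMc : ∀ a ∈ M, ∀ b ∈ M, a * b = b * a)
    (hEM : ∀ e ∈ E, ∀ m ∈ M, e * m * e⁻¹ ∈ M) (hMS : ¬ M ≤ S) :
    ∃ w ∈ M, w ∉ S ∧ ∀ e ∈ E, e * w * e⁻¹ = w ∨ e * w * e⁻¹ = w⁻¹ := by
  by_contra! hno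
  refine hMS (eigen_generate (Z := ⊥) (E_four h) (odd_card_of_orders fun m hm hm2 => ?_) hEM
    (fun e _ z hz => by rw [mem_bot.1 hz]; simp)
    (fun a ha b hb => by rw [hMc a ha b hb]; simp)
    (fun a _ z hz => by rw [mem_bot.1 hz]; simp) bot_le fun w hw hwe => ?_)
  · have := orderOf_dvd_of_pow_eq_one (hMp m hm)
    rw [hm2] at this
    exact h.ne_two ((Nat.prime_dvd_prime_iff_eq Nat.prime_two h.prime).1 this).symm
  · by_contra hwS
    obtain ⟨e, he, h1, h2⟩ := hno w hw hwS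
    rcases hwe e he with h3 | h3
    · exact h1 (mul_inv_eq_one.1 (mem_bot.1 h3))
    · exact h2 (eq_inv_of_mul_eq_one_left (mem_bot.1 h3))

theorem exists_seed : ∃ (Z : Subgroup G) (z w₀ : G), h.Seed Z z w₀ := by
  haveI := Fact.mk h.prime
  have hbot : h.IsZ (⊥ : Subgroup G) := ⟨bot_le, fun z hz => by rw [mem_bot.1 hz]; simp,
    fun z hz x _ => by rw [mem_bot.1 hz]; simp, fun g _ z hz => by rw [mem_bot.1 hz]; simp⟩
  set Ω := h.Y hbot with hΩ
  have hΩc : ∀ x ∈ Ω, ∀ a ∈ h.P, x * a = a * x := fun x hx a ha =>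
    mul_inv_eq_iff_eq_mul.1 (mul_inv_eq_one.1 (mem_bot.1 (Y_comm h hbot hx ha)))
  have hΩE : ∀ e ∈ E, ∀ m ∈ Ω, e * m * e⁻¹ ∈ Ω := fun e he => Y_norm h hbot e (h.E_le he)
  haveI : Nontrivial h.P := (nontrivial_iff_ne_bot h.P).2 (P_ne_bot h)
  obtain ⟨c, hc1, hcp⟩ : ∃ c : center h.P, c ≠ 1 ∧ c ^ p = 1 := by
    haveI := (P_pgroup h).center_nontrivial
    obtain ⟨k, hk0, hk⟩ :=
      (IsPGroup.nontrivial_iff_card ((P_pgroup h).to_subgroup (center h.P))).1 inferInstance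
    obtain ⟨c, hc⟩ := exists_prime_orderOf_dvd_card' (G := center h.P) p (hk ▸ dvd_pow_self p hk0.ne')
    exact ⟨c, fun e => h.prime.ne_one (by rw [← hc, e, orderOf_one]), orderOf_dvd_iff_pow_eq_one.1 hc.dvd⟩
  have hcΩ : ((c : h.P) : G) ∈ Ω := ⟨(c : h.P).2, by
      have := congrArg (fun x : center h.P => ((x : h.P) : G)) hcp
      simpa using this, fun a ha => by
    rw [show ((c : h.P) : G) * a = a * (c : h.P) from
      (congrArg Subtype.val (mem_center_iff.1 c.2 ⟨a, ha⟩)).symm, mul_inv_cancel_right, mul_inv_cancel]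
    exact one_mem _⟩
  have hΩ1 : ¬ Ω ≤ (⊥ : Subgroup G) := fun hle =>
    hc1 (Subtype.ext (Subtype.ext (mem_bot.1 (hle hcΩ))))
  have hΩcomm : ∀ a ∈ Ω, ∀ b ∈ Ω, a * b = b * a := fun a ha b hb => hΩc a ha b (Y_le h hbot hb)
  obtain ⟨z, hz, hz1, hze⟩ := exists_eigen h (fun m hm => Y_pow h hbot hm) hΩcomm hΩE hΩ1
  have hz1' : z ≠ 1 := fun e => hz1 (mem_bot.2 e)
  by_cases hcyc : Ω ≤ zpowers z
  swap
  · obtain ⟨w, hw, hwz, hwe⟩ := exists_eigen h (fun m hm => Y_pow h hbot hm) hΩcomm hΩE hcyc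
    exact ⟨⊥, z, w, hbot, Or.inl rfl, Y_le h hbot hz, Y_pow h hbot hz, hz1', hΩc z hz, hw, hwz, hze, hwe⟩
  have hΩeq : Ω = zpowers z := le_antisymm hcyc (zpowers_le.2 hz)
  have hZ : h.IsZ (zpowers z) := hΩeq ▸ ⟨Y_le h hbot, fun x hx => Y_pow h hbot hx, hΩc, Y_norm h hbot⟩
  -- the second centre leaves `zpowers z`
  obtain ⟨a, ha, haz⟩ : ∃ a, h.IsY (zpowers z) a ∧ a ∉ zpowers z := by
    set Z' := (zpowers z).subgroupOf h.P with hZ'
    haveI : Z'.Normal := normal_subgroupOf_of_le_normalizer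
      (le_normalizer_of fun g hg => hZ.norm g (h.W_le (P_le h hg)))
    have hZ'ea : Cfsg.IsElementaryAbelian p Z' :=
      ⟨.of_setLike_mul_comm fun a ha b _ => Subtype.ext (hZ.cen _ (mem_subgroupOf.1 ha) _ b.2),
        fun a ha => Subtype.ext (by simpa using hZ.pow _ (mem_subgroupOf.1 ha))⟩
    obtain ⟨A, hZA, hA⟩ := Finite.exists_le_maximal (a := Z')
      (p := fun A : Subgroup h.P => A.Normal ∧ Cfsg.IsElementaryAbelian p A) ⟨inferInstance, hZ'ea⟩
    obtain ⟨⟨hAn, hAe⟩, hAmax⟩ := hA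
    haveI := hAn
    haveI := (P_pgroup h).isNilpotent
    have hAZ : ¬ A ≤ Z' := fun hle => P_not_cyclic h (IsolatedP.isCyclic_of_odd_unique (P_pgroup h) h.ne_two
      ⟨z, Y_le h hbot hz⟩ (Subtype.ext (by simpa using Y_pow h hbot hz)) fun y hy => by
        have hyA : y ∈ A := OddOrder.OmegaCen.mem_of_centralizes h.ne_two (P_pgroup h) A hAe
          (fun B hBn hBe hAB => le_antisymm (hAmax ⟨hBn, hBe⟩ hAB) hAB)
          (mem_centralizer_iff.2 fun b hb => Subtype.ext (hZ.cen _ (mem_subgroupOf.1 (hle hb)) _ y.2)) hy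
        obtain ⟨i, hi⟩ := mem_subgroupOf.1 (hle hyA)
        exact ⟨i, Subtype.ext (by simpa using hi)⟩)
    obtain ⟨x, hxA, hxZ, hxc⟩ := OddOrder.Nilp.exists_mem_commutator_le (A := Z') hAZ
    refine ⟨(x : G), ⟨x.2, by simpa using congrArg Subtype.val (hAe.2 x hxA), fun b hb => ?_⟩,
      fun hm => hxZ (mem_subgroupOf.2 hm)⟩
    have := mem_subgroupOf.1 (hxc ⟨b, hb⟩)
    simpa [commutatorElement_def] using this
  -- an eigenvector modulo `zpowers z`, then an exact one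
  set Y := h.Y hZ with hY
  obtain ⟨w, hw, hwz, hwe⟩ : ∃ w ∈ Y, w ∉ zpowers z ∧
      ∀ e ∈ E, e * w * e⁻¹ * w⁻¹ ∈ zpowers z ∨ e * w * e⁻¹ * w ∈ zpowers z := by
    by_contra! hno
    refine haz (eigen_generate (E_four h) (odd_card_of_orders fun m hm hm2 => ?_)
      (fun e he => Y_norm h hZ e (h.E_le he)) (fun e he => hZ.norm e (h.E_le he))
      (fun a ha b hb => Y_comm h hZ ha (Y_le h hZ hb)) (fun a ha => hZ.norm a (h.W_le (P_le h (Y_le h hZ ha))))
      le_rfl (fun w hw hwe => ?_) (show a ∈ Y from ha))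
    · have := orderOf_dvd_of_pow_eq_one (Y_pow h hZ hm)
      rw [hm2] at this
      exact h.ne_two ((Nat.prime_dvd_prime_iff_eq Nat.prime_two h.prime).1 this).symm
    · by_contra hwz
      obtain ⟨e, he, h1, h2⟩ := hno w hw hwz
      rcases hwe e he with h3 | h3
      · exact h1 h3
      · exact h2 h3
  set M₂ := closure ({z, w} : Set G) with hM₂
  have hzw : z * w = w * z := hΩc z hz w (Y_le h hZ hw)
  haveI : IsMulCommutative M₂ := isMulCommutative_closure (by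
    rintro a (rfl | rfl) b (rfl | rfl)
    · rfl
    · exact hzw
    · exact hzw.symm
    · rfl)
  have hM₂Y : M₂ ≤ Y := (closure_le _).2 (by
    rintro x (rfl | rfl)
    · exact Z_le_Y h hZ (mem_zpowers x)
    · exact hw)
  have hzM : zpowers z ≤ M₂ := zpowers_le.2 (subset_closure (Or.inl rfl))
  have hwM : w ∈ M₂ := subset_closure (Or.inr rfl)
  have hEM₂ : ∀ e ∈ E, ∀ m ∈ M₂, e * m * e⁻¹ ∈ M₂ := fun e he m hm =>
    (show M₂.map (MulAut.conj e).toMonoidHom ≤ M₂ by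
      rw [hM₂, MonoidHom.map_closure, closure_le]
      rintro _ ⟨x, hx, rfl⟩
      rcases hx with hx | hx <;> rw [hx]
      · exact hzM (hZ.norm e (h.E_le he) z (mem_zpowers z))
      · show e * w * e⁻¹ ∈ M₂
        rcases hwe e he with h1 | h1
        · have := M₂.mul_mem (hzM h1) hwM
          rwa [inv_mul_cancel_right] at this
        · have := M₂.mul_mem (hzM h1) (M₂.inv_mem hwM)
          rwa [mul_inv_cancel_right] at this) ⟨m, hm, rfl⟩
  obtain ⟨w₀, hw₀, hw₀z, hw₀e⟩ := exists_eigen h (fun m hm => Y_pow h hZ (hM₂Y hm))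
    (fun a ha b hb => setLike_mul_comm ha hb) hEM₂ (S := zpowers z) fun hle => hwz (hle hwM)
  exact ⟨zpowers z, z, w₀, hZ, Or.inr rfl, Y_le h hbot hz, Y_pow h hbot hz, hz1', hΩc z hz,
    hM₂Y hw₀, hw₀z, hze, hw₀e⟩

end Mov

end Cfsg.Agent.SEBrick
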