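import Cfsg.Agent.Lib.SEBrick.Moving2
import Cfsg.Agent.Lib.SEBrick.CaseBBadStruct

/-!
Good abelian subgroups of the moved core, the normalisers of the Sylow subgroups and fusion in `H`.
-/

set_option autoImplicit false
set_option linter.style.haveILetI false
set_option linter.unusedSectionVars false

namespace Cfsg.Agent.SEBrick

open Cfsg Subgroup Cfsg.Agent.Functors

universe u

variable {G : Type u} [Group G] [Finite G] {H W E : Subgroup G} {p : ℕ}

/-- Two roots of prime order in a cyclic subgroup generate the same subgroup. -/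
theorem root_mem [Fact p.Prime] {C : Subgroup G} (hC : IsCyclic C) {u v : G} (hu : u ∈ C) (hv : v ∈ C)
    (hu1 : u ^ p = 1) (hv1 : v ^ p = 1) (hv : v ≠ 1) : u ∈ zpowers v := by
  haveI := hC
  obtain ⟨i, hi⟩ := mem_zpowers_of_cyclic (K := C) (a := ⟨u, hu⟩) (b := ⟨v, by assumption⟩) (q := p)
    (Subtype.ext hu1) (Subtype.ext hv1) (fun e => hv (congrArg Subtype.val e))
  exact ⟨i, congrArg Subtype.val hi⟩

namespace Mov

variable (h : Mov H W E p)
include h

/-- An abelian noncyclic subgroup of the moved core, all of whose centralisers are inside `H`. -/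
structure GoodB (B : Subgroup G) : Prop where
  le : B ≤ h.P
  comm : ∀ a ∈ B, ∀ b ∈ B, a * b = b * a
  not_cyclic : ¬ IsCyclic B
  cent : ∀ b ∈ B, b ≠ 1 → centralizer ({b} : Set G) ≤ H

theorem good_exists_ne {B : Subgroup G} (hB : h.GoodB B) : ∃ b ∈ B, b ≠ 1 := by
  by_contra! hno
  refine hB.not_cyclic ?_
  rw [(eq_bot_iff_forall B).2 hno]
  infer_instance

/-- The seed pair generates a good subgroup. -/
theorem seed_good {Z : Subgroup G} {z w₀ : G} (hS : h.Seed Z z w₀) :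
    h.GoodB (closure ({z, w₀} : Set G)) := by
  haveI := Fact.mk h.prime
  set B := closure ({z, w₀} : Set G) with hB
  have hc : ∀ a ∈ ({z, w₀} : Set G), ∀ b ∈ ({z, w₀} : Set G), a * b = b * a := by
    rintro a (rfl | rfl) b (rfl | rfl)
    · rfl
    · exact hS.z_cen _ hS.w_mem.1
    · exact (hS.z_cen _ hS.w_mem.1).symm
    · rfl
  have hpp : ∀ a ∈ ({z, w₀} : Set G), a ^ p = 1 := by
    rintro a (rfl | rfl)
    · exact hS.z_pow
    · exact hS.w_mem.2.1
  haveI hBc := isMulCommutative_closure hc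
  have hcB : ∀ a ∈ B, ∀ b ∈ B, a * b = b * a := fun a ha b hb => setLike_mul_comm ha hb
  have hBP : B ≤ h.P := (closure_le _).2 (by
    rintro x (rfl | rfl)
    · exact hS.z_mem
    · exact hS.w_mem.1)
  refine ⟨hBP, hcB, fun hcyc => hS.w_not ?_, fun b hb hb1 => ?_⟩
  · exact root_mem hcyc (subset_closure (Or.inr rfl)) (subset_closure (Or.inl rfl)) hS.w_mem.2.1
      hS.z_pow hS.z_ne
  -- the elements of `E` acting on both generators with the same sign
  let E₀ : Subgroup G :=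
    { carrier := {e | e ∈ E ∧ ((e * z * e⁻¹ = z ∧ e * w₀ * e⁻¹ = w₀) ∨
        (e * z * e⁻¹ = z⁻¹ ∧ e * w₀ * e⁻¹ = w₀⁻¹))}
      one_mem' := ⟨E.one_mem, Or.inl ⟨by group, by group⟩⟩
      mul_mem' := fun {e f} he hf => by
        have hef : ∀ x : G, e * f * x * (e * f)⁻¹ = e * (f * x * f⁻¹) * e⁻¹ := fun x => by group
        have hei : ∀ x : G, e * x⁻¹ * e⁻¹ = (e * x * e⁻¹)⁻¹ := fun x => by group
        refine ⟨E.mul_mem he.1 hf.1, ?_⟩
        rw [hef, hef]
        rcases hf.2 with ⟨f1, f2⟩ | ⟨f1, f2⟩ <;> rw [f1, f2] <;>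
          rcases he.2 with ⟨e1, e2⟩ | ⟨e1, e2⟩
        · exact Or.inl ⟨e1, e2⟩
        · exact Or.inr ⟨e1, e2⟩
        · exact Or.inr ⟨by rw [hei, e1], by rw [hei, e2]⟩
        · exact Or.inl ⟨by rw [hei, e1, inv_inv], by rw [hei, e2, inv_inv]⟩
      inv_mem' := fun {e} he => by
        show e⁻¹ ∈ E ∧ _
        rw [inv_eq_of_mul_eq_one_right ((E_four h).mul_self he.1)]
        exact he }
  have hE₀E : E₀ ≤ E := fun e he => he.1
  have hfour : IsFour E₀ := by
    refine ⟨⟨.of_setLike_mul_comm fun a ha b hb => (E_four h).comm (hE₀E ha) (hE₀E hb),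
      fun a ha => h.ea.2 a (hE₀E ha)⟩, ?_⟩
    by_cases hall : E ≤ E₀
    · exact le_trans (le_trans (by norm_num) h.eight) (Subgroup.card_le_of_le hall)
    obtain ⟨e, heE, he⟩ := SetLike.not_le_iff_exists.1 hall
    have hsign : ∀ f ∈ E, f ∉ E₀ → (f * z * f⁻¹ = z ∧ f * w₀ * f⁻¹ = w₀⁻¹) ∨
        (f * z * f⁻¹ = z⁻¹ ∧ f * w₀ * f⁻¹ = w₀) := fun f hf hf0 => by
      rcases hS.eig_z f hf with h1 | h1 <;> rcases hS.eig_w f hf with h2 | h2
      · exact absurd ⟨hf, Or.inl ⟨h1, h2⟩⟩ hf0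
      · exact Or.inl ⟨h1, h2⟩
      · exact Or.inr ⟨h1, h2⟩
      · exact absurd ⟨hf, Or.inr ⟨h1, h2⟩⟩ hf0
    have hsub : (E : Set G) ⊆ (E₀ : Set G) ∪ (fun x => e * x) '' (E₀ : Set G) := by
      intro f hf
      by_cases hf0 : f ∈ E₀
      · exact Or.inl hf0
      refine Or.inr ⟨e * f, ⟨E.mul_mem heE hf, ?_⟩, ?_⟩
      · have hef : ∀ x : G, e * f * x * (e * f)⁻¹ = e * (f * x * f⁻¹) * e⁻¹ := fun x => by group
        have hei : ∀ x : G, e * x⁻¹ * e⁻¹ = (e * x * e⁻¹)⁻¹ := fun x => by group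
        rw [hef, hef]
        rcases hsign f hf hf0 with ⟨f1, f2⟩ | ⟨f1, f2⟩ <;> rw [f1, f2] <;>
          rcases hsign e heE he with ⟨e1, e2⟩ | ⟨e1, e2⟩
        · exact Or.inl ⟨e1, by rw [hei, e2, inv_inv]⟩
        · exact Or.inr ⟨e1, by rw [hei, e2]⟩
        · exact Or.inr ⟨by rw [hei, e1], e2⟩
        · exact Or.inl ⟨by rw [hei, e1, inv_inv], e2⟩
      · show e * (e * f) = f
        rw [← mul_assoc, (E_four h).mul_self heE, one_mul]
    have h1 := (Set.ncard_le_ncard hsub (Set.toFinite _)).trans (Set.ncard_union_le _ _)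
    rw [Set.ncard_image_of_injective _ (mul_right_injective e)] at h1
    have h8 := h.eight
    rw [← Nat.card_coe_set_eq, ← Nat.card_coe_set_eq] at h1
    change Nat.card E ≤ Nat.card E₀ + Nat.card E₀ at h1
    omega
  refine (show centralizer ({b} : Set G) ≤ normalizer ((zpowers b : Subgroup G) : Set G) from ?_).trans
    (norm_le h (zpowers_le.2 (hBP hb)) (zpowers_ne_bot.2 hb1) hfour (hE₀E.trans h.E_le) ?_)
  · intro g hg
    refine mem_normalizer_of ?_
    rintro _ ⟨i, rfl⟩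
    rw [((show Commute g b from mem_centralizer_singleton_iff.1 hg).zpow_right i).eq, mul_inv_cancel_right]
    exact ⟨i, rfl⟩
  refine le_normalizer_of fun e he => ?_
  have hbe : e * b * e⁻¹ ∈ zpowers b := by
    obtain ⟨hf, hi⟩ | ⟨hf, hi⟩ := he.2
    · have key : ∀ x ∈ B, e * x * e⁻¹ = x := by
        intro x hx
        induction hx using closure_induction with
        | mem x hx => rcases hx with rfl | rfl <;> assumption
        | one => group
        | mul a c _ _ ha hc => rw [show e * (a * c) * e⁻¹ = e * a * e⁻¹ * (e * c * e⁻¹) by group, ha, hc]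
        | inv a _ ha => rw [show e * a⁻¹ * e⁻¹ = (e * a * e⁻¹)⁻¹ by group, ha]
      rw [key b hb]
      exact mem_zpowers b
    · have key : ∀ x ∈ B, e * x * e⁻¹ = x⁻¹ := by
        intro x hx
        induction hx using closure_induction with
        | mem x hx => rcases hx with rfl | rfl <;> assumption
        | one => group
        | mul a c hA hC ha hc =>
          rw [show e * (a * c) * e⁻¹ = e * a * e⁻¹ * (e * c * e⁻¹) by group, ha, hc, mul_inv_rev]
          exact hcB _ (B.inv_mem hA) _ (B.inv_mem hC)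
        | inv a _ ha => rw [show e * a⁻¹ * e⁻¹ = (e * a * e⁻¹)⁻¹ by group, ha]
      rw [key b hb]
      exact inv_mem (mem_zpowers b)
  rintro _ ⟨i, rfl⟩
  show e * b ^ i * e⁻¹ ∈ zpowers b
  rw [← conj_zpow]
  exact zpow_mem hbe i

/-- A subgroup of order prime to `p` normalised by a good subgroup lies in `H`. -/
theorem pPrime_le {B Q : Subgroup G} (hB : h.GoodB B) (hn : B ≤ normalizer (Q : Set G))
    (hcop : (Nat.card Q).Coprime p) : Q ≤ H := by
  haveI := Fact.mk h.prime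
  haveI : IsMulCommutative B := .of_setLike_mul_comm hB.comm
  have hcop' : (Nat.card B).Coprime (Nat.card Q) := by
    obtain ⟨k, hk⟩ := ((P_pgroup h).to_le hB.le).exists_card_eq
    rw [hk]
    exact (hcop.symm).pow_left k
  rw [← CoprimeAct.generated_by_centralizers hB.not_cyclic hn hcop']
  exact iSup₂_le fun b hb => inf_le_right.trans (hB.cent b hb.1 hb.2)

variable [Fact p.Prime]

theorem P_le_sylow {T : Subgroup G} (hT : IsSylowIn p T H) : h.P ≤ T := by
  obtain ⟨n, hn, hle⟩ := exists_conj_le_of_isSylowIn hT (P_pgroup h) ((P_le h).trans h.W_le)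
  rwa [map_cj_eq_iff.2 (mem_normalizer_of (P_norm h n hn))] at hle

theorem sylow_W {T : Subgroup G} (hT : IsSylowIn p T H) : IsSylowIn p (T ⊓ W) W :=
  hT.inf_normalized h.W_le h.toHyp.W_normal

theorem conjN_le {Z : Subgroup G} {z w₀ : G} (hS : h.Seed Z z w₀) {T : Subgroup G} (hT : IsSylowIn p T H)
    (hN : h.N ≠ ⊥) {n : G} (hn : T ⊓ W ≤ normalizer ((h.N.map (cj n) : Subgroup G) : Set G)) :
    n ∈ H := by
  set M := h.N.map (cj n) with hM
  have hcardM : Nat.card M = Nat.card h.N := card_map_cj _ n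
  have hPu : h.P ≤ T ⊓ W := le_inf (P_le_sylow h hT) (P_le h)
  have hMH : M ≤ H := pPrime_le h (seed_good h hS) (((seed_good h hS).le.trans hPu).trans hn)
    (hcardM ▸ N_coprime h)
  have hMW : M ≤ W := fun x hx => cent_P h (hMH hx) fun y hy => AxB.commute_of_coprime
    (le_normalizer_of fun a ha b hb => P_norm h a (hMH ha) b hb) (hPu.trans hn)
    (by
      obtain ⟨k, hk⟩ := (P_pgroup h).exists_card_eq
      rw [hk, hcardM]
      exact (N_coprime h).pow_right k) hx hy
  haveI := solvable_of_odd h.W_odd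
  set N' := Cfsg.pPrimeCore p W with hN'
  haveI : N'.Normal := FittingCores.pPrimeCore_normal p
  set π := QuotientGroup.mk' N' with hπ
  obtain ⟨S, hSeq⟩ := (sylow_W h hT).exists_sylow
  set M' := (M.subgroupOf W).map π with hM'
  have hcopM' : (Nat.card M').Coprime p := Nat.Coprime.coprime_dvd_left (card_map_dvd _ π) (by
    rw [Nat.card_congr (subgroupOfEquivOfLe hMW).toEquiv, hcardM]; exact N_coprime h)
  have hpc : Cfsg.pCore p (W ⧸ N') ≤ normalizer (M' : Set (W ⧸ N')) := fun y hy => by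
    obtain ⟨s, hs, rfl⟩ := FittingCores.pCore_le_sylow (S.mapSurjective (QuotientGroup.mk'_surjective N')) hy
    refine mem_normalizer_of ?_
    rintro _ ⟨m, hm, rfl⟩
    refine ⟨s * m * s⁻¹, ?_, by simp [hπ]⟩
    show ((s * m * s⁻¹ : W) : G) ∈ M
    have hsT : (s : G) ∈ T ⊓ W := by
      change s ∈ (S : Subgroup W) at hs
      rwa [hSeq, mem_subgroupOf] at hs
    simpa using conj_mem_of (hn hsT) (mem_subgroupOf.1 hm)
  have hcop2 : (Nat.card M').Coprime (Nat.card (Cfsg.pCore p (W ⧸ N'))) := by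
    obtain ⟨k, hk⟩ := (FittingCores.pCore_isPGroup (G := W ⧸ N') p).exists_card_eq
    rw [hk]; exact hcopM'.pow_right k
  have hle : M' ≤ Cfsg.pCore p (W ⧸ N') := by
    refine le_trans (fun x hx => mem_centralizer_iff.2 fun y hy => ?_)
      (FittingCores.centralizer_pCore_le h.prime (FittingCores.pPrimeCore_quotient_eq_bot p N' rfl))
    haveI := FittingCores.pCore_normal (G := W ⧸ N') p
    exact (AxB.commute_of_coprime (le_normalizer_of fun a _ b hb =>
      (inferInstance : (Cfsg.pCore p (W ⧸ N')).Normal).conj_mem b hb a) hpc hcop2 hx hy).symm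
  have hbot : M' = ⊥ := by
    refine Subgroup.card_eq_one.1 (Nat.eq_one_of_dvd_coprimes (hcop2) dvd_rfl (card_dvd_of_le hle))
  have hMN : M ≤ h.N := fun x hx => by
    have h1 : (⟨x, hMW hx⟩ : W) ∈ π.ker := (Subgroup.map_eq_bot_iff _).1 hbot hx
    rw [hπ, QuotientGroup.ker_mk'] at h1
    exact ⟨_, h1, rfl⟩
  have heq : M = h.N := Subgroup.eq_of_le_of_card_ge hMN hcardM.ge
  have hmem := map_cj_eq_iff.1 heq
  rwa [h.norm h.N (N_le h) hN (N_norm h)] at hmem

theorem normPu {Z : Subgroup G} {z w₀ : G} (hS : h.Seed Z z w₀) {T : Subgroup G} (hT : IsSylowIn p T H) :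
    normalizer ((T ⊓ W : Subgroup G) : Set G) ≤ H := by
  by_cases hN : h.N = ⊥
  · have hPu1 : T ⊓ W ≠ ⊥ := fun e =>
      P_ne_bot h (le_bot_iff.1 (e ▸ le_inf (P_le_sylow h hT) (P_le h)))
    have hX := zCore_norm h hN hT (D := T ⊓ W) inf_le_left fun x hx g hg hgx =>
      ⟨hgx, h.W_norm g hg x hx.2⟩
    refine (ClosedZJ.normalizer_le (p := p) (e := False) (T ⊓ W)).trans
      (h.norm _ ((ClosedZJ.zCore_le _).trans inf_le_right) ?_ hX).le
    exact ZJ.zCore_ne_bot (hT.isPGroup.to_le inf_le_left) hPu1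
  · intro n hn
    refine conjN_le h hS hT hN (n := n) fun s hs => mem_normalizer_of ?_
    rintro _ ⟨x, hx, rfl⟩
    have hs' : n⁻¹ * s * n⁻¹⁻¹ ∈ T ⊓ W := conj_mem_of (inv_mem hn) hs
    refine ⟨n⁻¹ * s * n⁻¹⁻¹ * x * (n⁻¹ * s * n⁻¹⁻¹)⁻¹, N_norm h _ (h.W_le hs'.2) x hx, ?_⟩
    simp only [cj_apply]
    group

theorem pPrimeCore_H_le : (Cfsg.pPrimeCore p H).map H.subtype ≤ W := by
  rintro _ ⟨x, hx, rfl⟩
  refine cent_P h x.2 fun y hy => ?_
  haveI := FittingCores.pPrimeCore_normal (G := H) p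
  refine AxB.commute_of_coprime (H := (Cfsg.pPrimeCore p H).map H.subtype) (K := h.P)
    (le_normalizer_of fun a ha b hb => P_norm h a (map_subtype_le _ ha) b hb) ?_ ?_ ⟨x, hx, rfl⟩ hy
  · refine le_normalizer_of fun a ha b hb => ?_
    obtain ⟨c, hc, rfl⟩ := hb
    exact ⟨⟨a, h.W_le (P_le h ha)⟩ * c * ⟨a, h.W_le (P_le h ha)⟩⁻¹,
      (inferInstance : (Cfsg.pPrimeCore p H).Normal).conj_mem c hc _, rfl⟩
  · obtain ⟨k, hk⟩ := (P_pgroup h).exists_card_eq
    rw [hk, card_map_of_injective H.subtype_injective]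
    exact (FittingCores.pPrimeCore_coprime p).pow_right k

theorem normX {Z : Subgroup G} {z w₀ : G} (hS : h.Seed Z z w₀) {T : Subgroup G} (hT : IsSylowIn p T H) :
    normalizer (ZJ.zCore p False T : Set G) ≤ H := by
  haveI hsol := solvable_of_odd h.W_odd
  set N₂ := Cfsg.pPrimeCore p H with hN₂
  haveI : N₂.Normal := FittingCores.pPrimeCore_normal p
  set π := QuotientGroup.mk' N₂ with hπ
  have hπs : Function.Surjective π := QuotientGroup.mk'_surjective N₂
  -- the quotient is constrained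
  haveI hW'n : (W.subgroupOf H).Normal := normal_subgroupOf_of_le_normalizer h.toHyp.W_normal
  set Wb := (W.subgroupOf H).map π with hWb
  haveI hWbn : Wb.Normal := hW'n.map π hπs
  haveI : Group.IsSolvable (W.subgroupOf H) := Group.isSolvable_of_isSolvable_injective
    (f := (subgroupOfEquivOfLe h.W_le).toMonoidHom) (subgroupOfEquivOfLe h.W_le).injective
  haveI : Group.IsSolvable Wb :=
    Group.isSolvable_of_surjective (π.subgroupMap_surjective (W.subgroupOf H))
  have hWb0 : Cfsg.pPrimeCore p Wb = ⊥ := (Subgroup.map_eq_bot_iff_of_injective _ Wb.subtype_injective).1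
    (le_bot_iff.1 ((FittingCores.pPrimeCore_map_subtype_le p hWbn).trans
      (FittingCores.pPrimeCore_quotient_eq_bot p N₂ rfl).le))
  have hcons : centralizer (Cfsg.pCore p (H ⧸ N₂) : Set (H ⧸ N₂)) ≤ Cfsg.pCore p (H ⧸ N₂) := by
    intro xb hxb
    obtain ⟨x, rfl⟩ := hπs xb
    haveI hPn : (h.P.subgroupOf H).Normal :=
      normal_subgroupOf_of_le_normalizer (le_normalizer_of (P_norm h))
    have hPO : (h.P.subgroupOf H).map π ≤ Cfsg.pCore p (H ⧸ N₂) :=
      FittingCores.le_pCore (hPn.map π hπs) ((P_pgroup h).comap_subtype.map π)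
    have hxW : (x : G) ∈ W := by
      refine cent_P h x.2 fun y hy => ?_
      set y' : H := ⟨y, h.W_le (P_le h hy)⟩ with hy'
      have h1 := mem_centralizer_iff.1 hxb (π y') (hPO ⟨y', hy, rfl⟩)
      have h2 : x * y' * x⁻¹ * y'⁻¹ ∈ N₂ := by
        rw [← QuotientGroup.eq_one_iff]
        show π _ = 1
        rw [map_mul, map_mul, map_mul, map_inv, map_inv, ← h1]
        group
      have h3 : x * y' * x⁻¹ * y'⁻¹ ∈ h.P.subgroupOf H :=
        mul_mem (hPn.conj_mem y' hy x) (inv_mem hy)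
      have h4 : x * y' * x⁻¹ * y'⁻¹ = 1 := by
        rw [← Subgroup.mem_bot, ← PBasic.inf_eq_bot_of_coprime (FittingCores.pPrimeCore_coprime p)
          ((P_pgroup h).comap_subtype : IsPGroup p (h.P.subgroupOf H))]
        exact ⟨h2, h3⟩
      exact congrArg Subtype.val (mul_inv_eq_iff_eq_mul.1 (mul_inv_eq_one.1 h4))
    have hxb' : π x ∈ Wb := ⟨x, hxW, rfl⟩
    have h5 : (⟨π x, hxb'⟩ : Wb) ∈ Cfsg.pCore p Wb := FittingCores.centralizer_pCore_le h.prime hWb0
      (mem_centralizer_iff.2 fun y hy => Subtype.ext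
        (mem_centralizer_iff.1 hxb _ (FittingCores.pCore_map_subtype_le p hWbn ⟨y, hy, rfl⟩)))
    exact FittingCores.pCore_map_subtype_le p hWbn ⟨_, h5, rfl⟩
  -- its `ZJ` subgroup pulls back to a normal subgroup of odd order
  obtain ⟨S, hSeq⟩ := hT.exists_sylow
  have hquad : ZJ.IsQuad p (H ⧸ N₂) := PStable.isQuad_of_not_involves_sl2 h.ne_two fun hq =>
    not_sl2 h (PStable.involves_of_subgroup (PStable.involves_of_quotient π hπs hq))
  haveI hnb := ZJClosed.zCore_normal h.ne_two hquad hcons (S.mapSurjective hπs)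
    (D := (S.mapSurjective hπs : Subgroup (H ⧸ N₂))) ⟨le_rfl, fun _ _ _ hg => hg⟩ False
  have hker : (Nat.card π.ker).Coprime p := by
    rw [hπ, QuotientGroup.ker_mk']; exact FittingCores.pPrimeCore_coprime p
  set X' := ZJ.zCore p False (S : Subgroup H) with hX'
  have hmapb : X'.map π = ZJ.zCore p False (S.mapSurjective hπs : Subgroup (H ⧸ N₂)) :=
    ZJ.zCore_map π (CoprimeQuotient.injOn_of_coprime_ker π hker S.isPGroup')
  have hR'n : (X' ⊔ N₂).Normal := by
    rw [show X' ⊔ N₂ = (X'.map π).comap π by rw [comap_map_eq, hπ, QuotientGroup.ker_mk'], hmapb]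
    exact hnb.comap π
  set R := (X' ⊔ N₂).map H.subtype with hR
  set X := ZJ.zCore p False T with hX
  have hXeq : X'.map H.subtype = X := by
    rw [hX', ZJ.zCore_map H.subtype H.subtype_injective.injOn, hSeq, subgroupOf_map_subtype,
      inf_eq_left.2 hT.le]
  have hXT : X ≤ T := ClosedZJ.zCore_le T
  have hXp : IsPGroup p X := hT.isPGroup.to_le hXT
  have hT1 : T ≠ ⊥ := fun e => P_ne_bot h (le_bot_iff.1 (e ▸ P_le_sylow h hT))
  have hX1 : X ≠ ⊥ := ZJ.zCore_ne_bot hT.isPGroup hT1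
  have hRH : R ≤ H := map_subtype_le _
  have hXR : X ≤ R := hXeq ▸ map_mono le_sup_left
  have hN₂W := pPrimeCore_H_le h
  have hN₂odd : Odd (Nat.card N₂) := by
    rw [← card_map_of_injective (K := N₂) H.subtype_injective]; exact odd_of_le h.W_odd hN₂W
  have hcardR : Nat.card R ∣ Nat.card X * Nat.card N₂ := by
    rw [hR, card_map_of_injective H.subtype_injective, ← hXeq,
      card_map_of_injective (K := X') H.subtype_injective]
    exact AxB.card_sup_dvd X' N₂
  have hXS : IsSylowIn p X R := by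
    refine ⟨hXR, hXp, fun hd => ?_⟩
    have h1 : X.relIndex R * Nat.card X = Nat.card R := by
      rw [Subgroup.relIndex, mul_comm, ← Nat.card_congr (subgroupOfEquivOfLe hXR).toEquiv]
      exact card_mul_index _
    rw [← h1, mul_comm (X.relIndex R)] at hcardR
    have h2 := hd.trans ((Nat.mul_dvd_mul_iff_left Nat.card_pos).1 hcardR)
    exact h.prime.coprime_iff_not_dvd.1 (FittingCores.pPrimeCore_coprime (G := H) p).symm h2
  have hRodd : Odd (Nat.card R) := by
    refine Odd.of_dvd_nat ?_ hcardR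
    obtain ⟨k, hk⟩ := hXp.exists_card_eq
    rw [hk]
    exact ((h.prime.odd_of_ne_two h.ne_two).pow).mul hN₂odd
  -- a four-group of `H` normalising `X`
  have hER : E ≤ normalizer (R : Set G) := le_normalizer_of fun e he x hx => by
    obtain ⟨c, hc, rfl⟩ := hx
    exact ⟨⟨e, h.E_le he⟩ * c * ⟨e, h.E_le he⟩⁻¹, hR'n.conj_mem c hc _, rfl⟩
  haveI := h.ea.1
  obtain ⟨Q, hEQ⟩ := CoprimeAct.exists_invariant_sylow hER (coprime_four (E_four h) hRodd)
    (Or.inl (Group.isSolvable_of_comm fun a b => mul_comm' a b)) p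
  obtain ⟨r, hr, hrQ⟩ := exists_conj_eq_of_isSylowIn hXS (isSylowIn_map_subtype Q)
  have hEX : E.map (cj r) ≤ normalizer (X : Set G) := by
    rintro _ ⟨e, he, rfl⟩
    refine mem_normalizer_of ?_
    rw [← hrQ]
    rintro _ ⟨q, hq, rfl⟩
    refine ⟨e * q * e⁻¹, conj_mem_of (hEQ he) hq, ?_⟩
    simp only [cj_apply]
    group
  have hEH : E.map (cj r) ≤ H := by
    rintro _ ⟨e, he, rfl⟩
    exact H.mul_mem (H.mul_mem (hRH hr) (h.E_le he)) (H.inv_mem (hRH hr))
  by_contra hMH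
  set M := normalizer (X : Set G) with hM
  have hXodd : Odd (Nat.card X) := by
    obtain ⟨k, hk⟩ := hXp.exists_card_eq
    rw [hk]
    exact (h.prime.odd_of_ne_two h.ne_two).pow
  have hf := h.f2 M (h.toMin.normalizer_ne_top hX1 hXodd) (E.map (cj r)) hEX hEH ((E_four h).conj r) hMH
  have hTM : T ≤ M := le_normalizer.trans (ClosedZJ.normalizer_le T)
  have hPuU : IsSylowIn p (T ⊓ W) (W ⊓ M) :=
    (sylow_W h hT).of_le (le_inf inf_le_right (inf_le_left.trans hTM)) inf_le_left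
  refine hMH fun m hm => ?_
  obtain ⟨c, hc, hcm⟩ := frattini hPuU (hf m hm)
  have := mul_mem (inv_mem (h.W_le hc.1)) (normPu h hS hT hcm)
  rwa [inv_mul_cancel_left] at this

theorem normT {Z : Subgroup G} {z w₀ : G} (hS : h.Seed Z z w₀) {T : Subgroup G} (hT : IsSylowIn p T H) :
    normalizer (T : Set G) ≤ H :=
  (ClosedZJ.normalizer_le T).trans (normX h hS hT)

theorem exists_sylow_top {Z : Subgroup G} {z w₀ : G} (hS : h.Seed Z z w₀) {T : Subgroup G}
    (hT : IsSylowIn p T H) : ∃ S : Sylow p G, (S : Subgroup G) = T := by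
  obtain ⟨S, hTS⟩ := hT.isPGroup.exists_le_sylow
  refine ⟨S, ?_⟩
  rcases eq_or_lt_of_le hTS with e | hlt
  · exact e.symm
  · exfalso
    have h1 := lt_inf_normalizer_of_lt S.isPGroup' hlt
    exact h1.ne (hT.eq_of_le (S.isPGroup'.to_le inf_le_left) h1.le (inf_le_right.trans (normT h hS hT)))

/-- Fusion between `p`-subgroups of `H` takes place in `H`. -/
theorem fus {Z : Subgroup G} {z w₀ : G} (hS : h.Seed Z z w₀) {R : Subgroup G} (hR : IsPGroup p R)
    (hRH : R ≤ H) {g : G} (hg : ∀ x ∈ R, g * x * g⁻¹ ∈ H) :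
    ∃ k ∈ H, ∀ x ∈ R, k * x * k⁻¹ = g * x * g⁻¹ := by
  obtain ⟨T, hT, -⟩ := exists_isSylowIn_ge (p := p) (A := (⊥ : Subgroup G)) (H := H) IsPGroup.of_bot bot_le
  obtain ⟨S, hSeq⟩ := exists_sylow_top h hS hT
  obtain ⟨a, ha, haT⟩ := exists_conj_le_of_isSylowIn hT hR hRH
  obtain ⟨b, hb, hbT⟩ := exists_conj_le_of_isSylowIn hT (hR.map (cj g)) (by
    rintro _ ⟨x, hx, rfl⟩; exact hg x hx)
  obtain ⟨-, -, n, hn, hna⟩ := ClosedZJ.ctl_of_not_involves (e := False) h.ne_two (not_qd h) S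
    (S : Subgroup G) ⟨le_rfl, fun _ _ _ hx => hx⟩ ((R.map (cj a) : Subgroup G) : Set G) (b * g * a⁻¹)
    (hSeq ▸ haT) (by
      rintro _ ⟨_, ⟨x, hx, rfl⟩, rfl⟩
      rw [hSeq]
      have := hbT ⟨_, ⟨x, hx, rfl⟩, rfl⟩
      simp only [cj_apply] at this ⊢
      rwa [show b * g * a⁻¹ * (a * x * a⁻¹) * (b * g * a⁻¹)⁻¹ = b * (g * x * g⁻¹) * b⁻¹ by group])
  rw [hSeq] at hn
  refine ⟨b⁻¹ * n * a, mul_mem (mul_mem (inv_mem hb) (normX h hS hT hn)) ha, fun x hx => ?_⟩
  have h1 := hna (a * x * a⁻¹) ⟨x, hx, rfl⟩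
  calc b⁻¹ * n * a * x * (b⁻¹ * n * a)⁻¹ = b⁻¹ * (n * (a * x * a⁻¹) * n⁻¹) * b := by group
    _ = _ := by rw [h1]; group

/-- The normaliser of a `p`-subgroup of `H` holding a good subgroup. -/
theorem NR {Z : Subgroup G} {z w₀ : G} (hS : h.Seed Z z w₀) {B R : Subgroup G} (hB : h.GoodB B)
    (hBR : B ≤ R) (hR : IsPGroup p R) (hRH : R ≤ H) : normalizer (R : Set G) ≤ H := by
  intro g hg
  obtain ⟨k, hk, hka⟩ := fus h hS hR hRH (g := g) fun x hx => hRH (conj_mem_of hg hx)
  obtain ⟨b, hb, hb1⟩ := good_exists_ne h hB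
  have hc : k⁻¹ * g ∈ H := hB.cent b hb hb1 (mem_centralizer_singleton_iff.2 (by
    have := hka b (hBR hb)
    calc k⁻¹ * g * b = k⁻¹ * (g * b * g⁻¹) * g := by group
      _ = k⁻¹ * (k * b * k⁻¹) * g := by rw [this]
      _ = b * (k⁻¹ * g) := by group))
  have := mul_mem hk hc
  rwa [mul_inv_cancel_left] at this

end Mov

end Cfsg.Agent.SEBrick
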