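import Cfsg.Agent.Lib.SEBrick.MovingCent

/-!
All nontrivial elements of `Y` have centralisers inside `H`.
-/

set_option autoImplicit false
set_option linter.style.haveILetI false
set_option linter.unusedSectionVars false

namespace Cfsg.Agent.SEBrick

open Cfsg Subgroup Cfsg.Agent.Functors

universe u

variable {G : Type u} [Group G] [Finite G] {H W E : Subgroup G} {p : ℕ}

namespace Mov

variable (h : Mov H W E p)
include h

/-- Commutators of powers with values in the central part. -/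
theorem comm_pow {Z : Subgroup G} (hZ : h.IsZ Z) {v y : G} (hv : v ∈ h.P)
    (hvy : v * y * v⁻¹ * y⁻¹ ∈ Z) (n : ℕ) : v ^ n * y * (v ^ n)⁻¹ * y⁻¹ = (v * y * v⁻¹ * y⁻¹) ^ n := by
  induction n with
  | zero => simp
  | succ n ih =>
    set d := v * y * v⁻¹ * y⁻¹ with hd
    have hc : d ^ n * v = v * d ^ n := hZ.cen _ (Z.pow_mem hvy n) v hv
    calc v ^ (n + 1) * y * (v ^ (n + 1))⁻¹ * y⁻¹
        = v * (v ^ n * y * (v ^ n)⁻¹ * y⁻¹) * (y * v⁻¹ * y⁻¹) := by rw [pow_succ']; group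
      _ = v * d ^ n * (y * v⁻¹ * y⁻¹) := by rw [ih]
      _ = d ^ n * v * (y * v⁻¹ * y⁻¹) := by rw [hc]
      _ = d ^ n * d := by rw [hd]; group
      _ = d ^ (n + 1) := by rw [pow_succ]

/-- With cyclic central part, a commutator is cancelled by a power. -/
theorem exists_cancel {Z : Subgroup G} (hZ : h.IsZ Z) (hcyc : IsCyclic Z) {u v y : G} (hu : u ∈ h.P)
    (hv : v ∈ h.P) (huy : u * y * u⁻¹ * y⁻¹ ∈ Z) (hvy : v * y * v⁻¹ * y⁻¹ ∈ Z)
    (hne : v * y ≠ y * v) : ∃ n : ℕ, u * v ^ n * y = y * (u * v ^ n) := by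
  haveI := Fact.mk h.prime
  set d := v * y * v⁻¹ * y⁻¹ with hd
  set c := u * y * u⁻¹ * y⁻¹ with hc
  have hd1 : d ≠ 1 := fun e => hne (mul_inv_eq_iff_eq_mul.1 (mul_inv_eq_one.1 e))
  obtain ⟨n, hn⟩ := mem_powers_iff_mem_zpowers.2
    (root_mem hcyc (Z.inv_mem huy) hvy (hZ.pow _ (Z.inv_mem huy)) (hZ.pow _ hvy) hd1)
  refine ⟨n, mul_inv_eq_iff_eq_mul.1 (mul_inv_eq_one.1 ?_)⟩
  have hn' : d ^ n = c⁻¹ := hn
  have h1 : d ^ n * u = u * d ^ n := hZ.cen _ (Z.pow_mem hvy n) u hu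
  calc u * v ^ n * y * (u * v ^ n)⁻¹ * y⁻¹ = u * (v ^ n * y * (v ^ n)⁻¹ * y⁻¹) * (y * u⁻¹ * y⁻¹) := by group
    _ = u * d ^ n * (y * u⁻¹ * y⁻¹) := by rw [comm_pow h hZ hv hvy]
    _ = d ^ n * u * (y * u⁻¹ * y⁻¹) := by rw [h1]
    _ = c⁻¹ * c := by rw [hn', hc]; group
    _ = 1 := inv_mul_cancel c

variable [Fact p.Prime]

/-- All nontrivial elements of `Y` have centralisers in `H`. -/
theorem Y_good {Z : Subgroup G} {z w₀ : G} (hS : h.Seed Z z w₀) {y : G} (hy : y ∈ h.Y hS.isZ)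
    (hy1 : y ≠ 1) : centralizer ({y} : Set G) ≤ H := by
  have hZ := hS.isZ
  have hB0 := seed_good h hS
  have hPH : h.P ≤ H := (P_le h).trans h.W_le
  have hw : w₀ ∈ h.Y hZ := hS.w_mem
  -- elements commuting with the seed
  have h0 : ∀ b ∈ h.Y hZ, b ≠ 1 → b * w₀ = w₀ * b → centralizer ({b} : Set G) ≤ H := by
    intro b hb hb1 hbw
    refine cent_le h hS hB0 (hPH (Y_le h hZ hb)) (Y_pow h hZ hb) hb1 fun x hx => ?_
    induction hx using closure_induction with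
    | mem x hx =>
      rcases hx with rfl | rfl
      · exact (hS.z_cen b (Y_le h hZ hb)).symm
      · exact hbw
    | one => simp
    | mul a c _ _ ha hc => exact (show Commute b a from ha).mul_right (show Commute b c from hc)
    | inv a _ ha => exact (show Commute b a from ha).inv_right
  by_cases hyw : y * w₀ = w₀ * y
  · exact h0 y hy hy1 hyw
  have hZz : Z = zpowers z := hS.Z_eq.resolve_left fun e => hyw
    (mul_inv_eq_iff_eq_mul.1 (mul_inv_eq_one.1 (by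
      have := Y_comm h hZ hy (Y_le h hZ hw)
      rwa [e, mem_bot] at this)))
  have hzZ : z ∈ Z := hZz ▸ mem_zpowers z
  have hzY : z ∈ h.Y hZ := Z_le_Y h hZ hzZ
  have hcyc : IsCyclic Z := hZz ▸ inferInstance
  by_cases hex : ∃ w ∈ h.Y hZ, w ∉ Z ∧ w * y = y * w ∧ w * w₀ = w₀ * w
  · obtain ⟨w, hwY, hwZ, hwy, hww⟩ := hex
    have hc : ∀ a ∈ ({z, w} : Set G), ∀ b ∈ ({z, w} : Set G), a * b = b * a := by
      rintro a (rfl | rfl) b (rfl | rfl)
      · rfl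
      · exact hS.z_cen _ (Y_le h hZ hwY)
      · exact (hS.z_cen _ (Y_le h hZ hwY)).symm
      · rfl
    haveI := isMulCommutative_closure hc
    set B := closure ({z, w} : Set G) with hB
    have hBY : B ≤ h.Y hZ := (closure_le _).2 (by
      rintro x (rfl | rfl)
      · exact hzY
      · exact hwY)
    have hBw : ∀ b ∈ B, Commute b w₀ ∧ Commute y b := by
      intro b hb
      induction hb using closure_induction with
      | mem x hx =>
        rcases hx with rfl | rfl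
        · exact ⟨hS.z_cen _ (Y_le h hZ hw), (hS.z_cen _ (Y_le h hZ hy)).symm⟩
        · exact ⟨hww, hwy.symm⟩
      | one => exact ⟨Commute.one_left _, Commute.one_right _⟩
      | mul a c _ _ ha hc => exact ⟨ha.1.mul_left hc.1, ha.2.mul_right hc.2⟩
      | inv a _ ha => exact ⟨ha.1.inv_left, ha.2.inv_right⟩
    have hgood : h.GoodB B := ⟨hBY.trans (Y_le h hZ), fun a ha b hb => setLike_mul_comm ha hb,
      fun hBcyc => hwZ (hZz ▸ root_mem hBcyc (subset_closure (Or.inr rfl)) (subset_closure (Or.inl rfl))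
        (Y_pow h hZ hwY) hS.z_pow hS.z_ne), fun b hb hb1 => h0 b (hBY hb) hb1 (hBw b hb).1⟩
    exact cent_le h hS hgood (hPH (Y_le h hZ hy)) (Y_pow h hZ hy) hy1 fun b hb => (hBw b hb).2
  push Not at hex
  -- the centraliser of `w₀` in `Y`
  set C₀ := closure ({z, w₀} : Set G) with hC₀
  have hC : ∀ c ∈ h.Y hZ, c * w₀ = w₀ * c → c ∈ C₀ := by
    intro c hc hcw
    obtain ⟨n, hn⟩ := exists_cancel h hZ hcyc (Y_le h hZ hc) (Y_le h hZ hw)
      (Y_comm h hZ hc (Y_le h hZ hy)) (Y_comm h hZ hw (Y_le h hZ hy)) (fun e => hyw e.symm)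
    have hcn : c * w₀ ^ n ∈ h.Y hZ := mul_mem hc (pow_mem hw n)
    have hcz : c * w₀ ^ n ∈ Z := by
      by_contra hout
      exact hex _ hcn hout hn
        ((show Commute c w₀ from hcw).mul_left ((Commute.refl w₀).pow_left n)).eq
    rw [hZz] at hcz
    have h1 : c * w₀ ^ n ∈ C₀ := (zpowers_le.2 (subset_closure (Or.inl rfl) : z ∈ C₀)) hcz
    have := mul_mem h1 (inv_mem (pow_mem (subset_closure (Or.inr rfl) : w₀ ∈ C₀) n))
    rwa [mul_inv_cancel_right] at this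
  -- a third generator
  obtain ⟨w₁, hw₁, hw₁w, hw₁e⟩ : ∃ w₁ ∈ h.Y hZ, w₁ * w₀ ≠ w₀ * w₁ ∧
      ∀ e ∈ E, e * w₁ * e⁻¹ * w₁⁻¹ ∈ Z ∨ e * w₁ * e⁻¹ * w₁ ∈ Z := by
    by_contra! hno
    refine hyw (mem_centralizer_singleton_iff.1 (eigen_generate (E_four h)
      (odd_card_of_orders fun m hm hm2 => ?_) (fun e he => Y_norm h hZ e (h.E_le he))
      (fun e he => hZ.norm e (h.E_le he)) (fun a ha b hb => Y_comm h hZ ha (Y_le h hZ hb))
      (fun a ha => hZ.norm a (hPH (Y_le h hZ ha))) (S := centralizer ({w₀} : Set G))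
      (fun x hx => mem_centralizer_singleton_iff.2 (hZ.cen x hx _ (Y_le h hZ hw)))
      (fun v hv hve => mem_centralizer_singleton_iff.2 ?_) hy))
    · have := orderOf_dvd_of_pow_eq_one (Y_pow h hZ hm)
      rw [hm2] at this
      exact h.ne_two ((Nat.prime_dvd_prime_iff_eq Nat.prime_two h.prime).1 this).symm
    · by_contra hvw
      obtain ⟨e, he, h1, h2⟩ := hno v hv hvw
      rcases hve e he with h3 | h3
      · exact h1 h3
      · exact h2 h3
  have hgen : ∀ u ∈ h.Y hZ, u ∈ closure ({z, w₀, w₁} : Set G) := by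
    intro u hu
    obtain ⟨n, hn⟩ := exists_cancel h hZ hcyc (Y_le h hZ hu) (Y_le h hZ hw₁)
      (Y_comm h hZ hu (Y_le h hZ hw)) (Y_comm h hZ hw₁ (Y_le h hZ hw)) hw₁w
    have h1 : u * w₁ ^ n ∈ closure ({z, w₀, w₁} : Set G) :=
      closure_mono (by rintro x (rfl | rfl) <;> simp) (hC _ (mul_mem hu (pow_mem hw₁ n)) hn)
    have := mul_mem h1 (inv_mem (pow_mem (subset_closure (by simp) : w₁ ∈ closure ({z, w₀, w₁} : Set G)) n))
    rwa [mul_inv_cancel_right] at this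
  -- some involution of `E` centralises `Y`
  obtain ⟨g, hgE, hg1, hgw, hgw₁⟩ : ∃ g ∈ E, g ≠ 1 ∧ g * w₀ * g⁻¹ = w₀ ∧ g * w₁ * g⁻¹ * w₁⁻¹ ∈ Z := by
    classical
    haveI := Fintype.ofFinite E
    obtain ⟨⟨e, he⟩, ⟨f, hf⟩, hne, hef⟩ := Fintype.exists_ne_map_eq_of_card_lt
      (fun e : E => (decide ((e : G) * w₀ * (e : G)⁻¹ = w₀),
        decide ((e : G) * w₁ * (e : G)⁻¹ * w₁⁻¹ ∈ Z)))
      (by
        rw [Fintype.card_prod, Fintype.card_bool, ← Nat.card_eq_fintype_card]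
        exact lt_of_lt_of_le (by norm_num) h.eight)
    simp only [Prod.mk.injEq, decide_eq_decide] at hef
    have hee : ∀ x : G, e * f * x * (e * f)⁻¹ = e * (f * x * f⁻¹) * e⁻¹ := fun x => by group
    refine ⟨e * f, E.mul_mem he hf, fun e1 => hne (Subtype.ext ?_), ?_, ?_⟩
    · show e = f
      rw [eq_inv_of_mul_eq_one_left e1, inv_eq_of_mul_eq_one_right ((E_four h).mul_self hf)]
    · rw [hee]
      rcases hS.eig_w f hf with h2 | h2
      · rw [h2, hef.1.2 h2]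
      · by_cases h3 : f * w₀ * f⁻¹ = w₀
        · rw [h3, hef.1.2 h3]
        · rw [h2, show e * w₀⁻¹ * e⁻¹ = (e * w₀ * e⁻¹)⁻¹ by group,
            (hS.eig_w e he).resolve_left (fun h4 => h3 (hef.1.1 h4)), inv_inv]
    · rw [hee]
      by_cases h3 : f * w₁ * f⁻¹ * w₁⁻¹ ∈ Z
      · have h4 := mul_mem (hZ.norm e (h.E_le he) _ h3) (hef.2.2 h3)
        rwa [show e * (f * w₁ * f⁻¹ * w₁⁻¹) * e⁻¹ * (e * w₁ * e⁻¹ * w₁⁻¹) =
          e * (f * w₁ * f⁻¹) * e⁻¹ * w₁⁻¹ by group] at h4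
      · have hf2 := (hw₁e f hf).resolve_left h3
        have he2 := (hw₁e e he).resolve_left (fun h4 => h3 (hef.2.1 h4))
        set a := e * (f * w₁ * f⁻¹ * w₁) * e⁻¹ with ha
        set b := e * w₁ * e⁻¹ * w₁ with hb
        have hcb := hZ.cen b he2 w₁ (Y_le h hZ hw₁)
        have heq : e * (f * w₁ * f⁻¹) * e⁻¹ * w₁⁻¹ = a * b⁻¹ := by
          calc e * (f * w₁ * f⁻¹) * e⁻¹ * w₁⁻¹ = a * (w₁ * b⁻¹ * w₁⁻¹) := by rw [ha, hb]; group
            _ = a * b⁻¹ := by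
              rw [show w₁ * b⁻¹ = b⁻¹ * w₁ from ((show Commute b w₁ from hcb).inv_left).eq.symm,
                mul_inv_cancel_right]
        rw [heq]
        exact mul_mem (hZ.norm e (h.E_le he) _ hf2) (inv_mem he2)
  have hgH := h.E_le hgE
  have hg2 := (E_four h).order hgE hg1
  set d := w₁ * w₀ * w₁⁻¹ * w₀⁻¹ with hd
  have hdZ : d ∈ Z := Y_comm h hZ hw₁ (Y_le h hZ hw)
  have hd1 : d ≠ 1 := fun e => hw₁w (mul_inv_eq_iff_eq_mul.1 (mul_inv_eq_one.1 e))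
  set ζ := g * w₁ * g⁻¹ * w₁⁻¹ with hζ
  have hgd : g * d * g⁻¹ = d := by
    have hcζ : ζ * (w₁ * w₀ * w₁⁻¹) = w₁ * w₀ * w₁⁻¹ * ζ := hZ.cen ζ hgw₁ _
      (mul_mem (mul_mem (Y_le h hZ hw₁) (Y_le h hZ hw)) (inv_mem (Y_le h hZ hw₁)))
    calc g * d * g⁻¹ = (g * w₁ * g⁻¹) * (g * w₀ * g⁻¹) * (g * w₁ * g⁻¹)⁻¹ * (g * w₀ * g⁻¹)⁻¹ := by
          rw [hd]; group
      _ = ζ * (w₁ * w₀ * w₁⁻¹) * ζ⁻¹ * w₀⁻¹ := by rw [hgw, hζ]; group
      _ = w₁ * w₀ * w₁⁻¹ * w₀⁻¹ := by rw [hcζ, mul_inv_cancel_right]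
  have hgz : ∀ v ∈ Z, g * v * g⁻¹ = v := fun v hv => by
    obtain ⟨i, hi⟩ := root_mem hcyc hv hdZ (hZ.pow v hv) (hZ.pow d hdZ) hd1
    have hi' : d ^ i = v := hi
    rw [← hi', ← conj_zpow, hgd]
  have hgw₁' : g * w₁ * g⁻¹ = w₁ := by
    have h1 : g * w₁ * g⁻¹ = ζ * w₁ := by rw [hζ]; group
    have h2 : w₁ = ζ * (ζ * w₁) := by
      calc w₁ = (g * g) * w₁ * (g * g)⁻¹ := by rw [(E_four h).mul_self hgE]; group
        _ = g * (g * w₁ * g⁻¹) * g⁻¹ := by group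
        _ = g * (ζ * w₁) * g⁻¹ := by rw [h1]
        _ = g * ζ * g⁻¹ * (g * w₁ * g⁻¹) := by group
        _ = ζ * (ζ * w₁) := by rw [hgz ζ hgw₁, h1]
    have h3 : ζ * ζ = 1 := mul_right_cancel (b := w₁) (by rw [one_mul, mul_assoc, ← h2])
    have h4 : ζ = 1 := Invol.eq_one_of_sq_of_odd ((h.prime.odd_of_ne_two h.ne_two).of_dvd_nat
      (orderOf_dvd_of_pow_eq_one (hZ.pow ζ hgw₁))) (by rw [pow_two, h3])
    rw [h1, h4, one_mul]
  have hgY : ∀ v ∈ h.Y hZ, g * v * g⁻¹ = v := by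
    intro v hv
    have hv' := hgen v hv
    clear hv
    induction hv' using closure_induction with
    | mem x hx =>
      rcases hx with rfl | rfl | rfl
      · exact hgz _ hzZ
      · exact hgw
      · exact hgw₁'
    | one => group
    | mul a c _ _ ha hc => rw [show g * (a * c) * g⁻¹ = g * a * g⁻¹ * (g * c * g⁻¹) by group, ha, hc]
    | inv a _ ha => rw [show g * a⁻¹ * g⁻¹ = (g * a * g⁻¹)⁻¹ by group, ha]
  -- so all of them centralise `y`
  have hall : ∀ a ∈ E, a * y * a⁻¹ = y := by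
    intro a ha
    rcases eq_or_ne a 1 with rfl | ha1
    · group
    obtain ⟨d', hd'⟩ := isConj_iff.1 (Invol.se_isConj h.se hg2 ((E_four h).order ha ha1))
    have hd'H : d' ∈ H := Invol.se_mem_of_conj h.se hg2 hgH (hd' ▸ h.E_le ha)
    have h5 := hgY _ (Y_norm h hZ d'⁻¹ (H.inv_mem hd'H) y hy)
    calc a * y * a⁻¹ = d' * (g * (d'⁻¹ * y * d'⁻¹⁻¹) * g⁻¹) * d'⁻¹ := by rw [← hd']; group
      _ = y := by rw [h5]; group
  refine le_trans (fun c hc => mem_normalizer_of ?_)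
    (norm_le h (zpowers_le.2 (Y_le h hZ hy)) (zpowers_ne_bot.2 hy1) (E_four h) h.E_le
      (le_normalizer_of fun a ha => ?_))
  · rintro _ ⟨i, rfl⟩
    rw [((show Commute c y from mem_centralizer_singleton_iff.1 hc).zpow_right i).eq, mul_inv_cancel_right]
    exact ⟨i, rfl⟩
  · rintro _ ⟨i, rfl⟩
    show a * y ^ i * a⁻¹ ∈ zpowers y
    rw [← conj_zpow, hall a ha]
    exact ⟨i, rfl⟩

end Mov

end Cfsg.Agent.SEBrick
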