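import Cfsg.Agent.Lib.SEBrick.Moving4
import Cfsg.Agent.Lib.SEBrick.CaseBBad

/-!
The moving case is impossible.
-/

set_option autoImplicit false
set_option linter.style.haveILetI false
set_option linter.unusedSectionVars false

namespace Cfsg.Agent.SEBrick

open Cfsg Subgroup Cfsg.Agent.Functors

universe u

variable {G : Type u} [Group G] [Finite G] {H W E : Subgroup G} {p : ℕ}

/-- The stabiliser in `H` of a second point is transitive on the involutions of `H`. -/
theorem Hyp.trans_invol (h : Hyp H W) {y : G ⧸ H} (hy : y ≠ ((1 : G) : G ⧸ H)) {a b : G} (ha : a ∈ H)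
    (ha2 : orderOf a = 2) (hb : b ∈ H) (hb2 : orderOf b = 2) :
    ∃ d ∈ H, d • y = y ∧ d * a * d⁻¹ = b := by
  obtain ⟨v, hv, hvx, hvy⟩ := h.exists_swap (Ne.symm hy)
  obtain ⟨⟨w₁, hw₁, hw₁x⟩, hbij⟩ := (Invol.swap_conj_bijective h.se (Ne.symm hy)
    ⟨a, ha2, fix_base_iff.2 ha⟩).2 ⟨v * b * v⁻¹, (Invol.order_conj v b).trans hb2, by
      rw [Invol.inv_self hv, mul_smul, mul_smul, hvy, fix_base_iff.2 hb, hvx]⟩
  have hbij' : w₁ * a * w₁⁻¹ = v * b * v⁻¹ := congrArg Subtype.val hbij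
  have hw₁y : w₁ • y = ((1 : G) : G ⧸ H) := by
    rw [← hw₁x, ← mul_smul, Invol.mul_self hw₁, one_smul]
  refine ⟨v⁻¹ * w₁, fix_base_iff.1 ?_, ?_, ?_⟩
  · rw [mul_smul, hw₁x, Invol.inv_self hv, hvy]
  · rw [mul_smul, hw₁y, Invol.inv_self hv, hvx]
  · calc v⁻¹ * w₁ * a * (v⁻¹ * w₁)⁻¹ = v⁻¹ * (w₁ * a * w₁⁻¹) * v := by group
      _ = _ := by rw [hbij']; group

/-- A subgroup strictly above one of prime index is everything. -/
theorem le_of_lt_prime_index [hp : Fact p.Prime] {K M P : Subgroup G} (hKM : K < M) (hMP : M ≤ P)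
    (hK : K.relIndex P = p) : P ≤ M := by
  rw [← relIndex_eq_one]
  have h1 := relIndex_mul_relIndex K M P hKM.le hMP
  rw [hK] at h1
  rcases (Nat.dvd_prime hp.out).1 (Dvd.intro _ h1 : K.relIndex M ∣ p) with h2 | h2
  · exact absurd (relIndex_eq_one.1 h2) hKM.not_ge
  · rw [h2] at h1
    exact Nat.eq_of_mul_eq_mul_left hp.out.pos (h1.trans (mul_one p).symm)

/-- The index of a subgroup in a normal one divides the index in the whole. -/
theorem relIndex_dvd_of_normal {C P K : Subgroup G} (hPK : P ≤ K) (hn : K ≤ normalizer (P : Set G)) :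
    C.relIndex P ∣ C.relIndex K := by
  haveI := normal_subgroupOf_of_le_normalizer hn
  rw [← relIndex_subgroupOf (H := C) hPK]
  set C' := C.subgroupOf K
  set P' := P.subgroupOf K
  have h1 := relIndex_mul_relIndex (P' ⊓ C') P' (C' ⊔ P') inf_le_left le_sup_right
  have h2 := relIndex_mul_relIndex (P' ⊓ C') C' (C' ⊔ P') inf_le_right le_sup_left
  rw [inf_relIndex_left, relIndex_sup_right] at h1
  rw [inf_relIndex_right] at h2
  have h3 : P'.relIndex C' ≠ 0 := index_ne_zero_of_finite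
  rw [← h1, mul_comm (C'.relIndex P')] at h2
  rw [← Nat.eq_of_mul_eq_mul_left (Nat.pos_of_ne_zero h3) h2]
  exact relIndex_dvd_index_of_le le_sup_left

namespace Mov

variable (h : Mov H W E p) [Fact p.Prime]
include h

/-- A good subgroup of order `p²` normal in a Sylow subgroup of `H`, with a central element. -/
theorem exists_B {Z : Subgroup G} {z w₀ : G} (hS : h.Seed Z z w₀) {T : Subgroup G} (hT : IsSylowIn p T H) :
    ∃ B : Subgroup G, h.GoodB B ∧ Nat.card B = p ^ 2 ∧ (∀ a ∈ T, ∀ b ∈ B, a * b * a⁻¹ ∈ B) ∧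
      ∃ z₁ ∈ B, z₁ ≠ 1 ∧ ∀ a ∈ T, a * z₁ = z₁ * a := by
  have hB0 := seed_good h hS
  set Y := h.Y hS.isZ with hY
  have hB0Y : closure ({z, w₀} : Set G) ≤ Y := (closure_le _).2 (by
    rintro x (rfl | rfl)
    · refine ⟨hS.z_mem, hS.z_pow, fun a ha => ?_⟩
      rw [hS.z_cen a ha, mul_inv_cancel_right, mul_inv_cancel]
      exact Z.one_mem
    · exact hS.w_mem)
  have hYT : Y ≤ T := (Y_le h hS.isZ).trans (P_le_sylow h hT)
  have hcard : p ^ 2 ≤ Nat.card (Y.subgroupOf T) := by
    rw [Nat.card_congr (subgroupOfEquivOfLe hYT).toEquiv]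
    refine le_trans ?_ (Subgroup.card_le_of_le hB0Y)
    obtain ⟨k, hk⟩ := ((P_pgroup h).to_le hB0.le).exists_card_eq
    rw [hk]
    refine Nat.pow_le_pow_right h.prime.pos ?_
    by_contra hk2
    refine hB0.not_cyclic ?_
    rcases (show k = 0 ∨ k = 1 by omega) with rfl | rfl
    · rw [Subgroup.card_eq_one.1 (hk.trans (pow_zero p))]; infer_instance
    · exact isCyclic_of_prime_card (hk.trans (pow_one p))
  haveI : (Y.subgroupOf T).Normal := normal_subgroupOf_of_le_normalizer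
    (le_normalizer_of fun a ha x hx => Y_norm h hS.isZ a (hT.le ha) x hx)
  obtain ⟨B', hB'n, hB'Y, hB'⟩ := OddOrder.OmegaCen.exists_normal_card hT.isPGroup (Y.subgroupOf T) hcard
  haveI := hB'n
  set B := B'.map T.subtype with hB
  have hBY : B ≤ Y := by
    rintro _ ⟨x, hx, rfl⟩
    exact mem_subgroupOf.1 (hB'Y hx)
  have hBcard : Nat.card B = p ^ 2 := (card_map_of_injective T.subtype_injective).trans hB'
  haveI : Group.IsNilpotent T := hT.isPGroup.isNilpotent
  have hB'1 : B' ≠ ⊥ := fun e => by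
    rw [e, card_bot] at hB'
    exact (Nat.one_lt_pow two_ne_zero h.prime.one_lt).ne hB'
  obtain ⟨z₁, hz₁, hz₁1⟩ :=
    ((B' ⊓ center T).bot_or_exists_ne_one).resolve_left (SolvStruct.inf_center_ne_bot hB'1)
  refine ⟨B, ⟨hBY.trans (Y_le h hS.isZ), fun a ha b hb => congrArg Subtype.val
      (IsPGroup.commutative_of_card_eq_prime_sq hBcard ⟨a, ha⟩ ⟨b, hb⟩), fun hc => ?_,
      fun b hb hb1 => Y_good h hS (hBY hb) hb1⟩, hBcard, ?_,
    z₁, ⟨z₁, hz₁.1, rfl⟩, fun e => hz₁1 (Subtype.ext e), fun a ha =>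
      congrArg Subtype.val (mem_center_iff.1 hz₁.2 ⟨a, ha⟩)⟩
  · obtain ⟨g, hg⟩ := hc.exists_generator
    have h1 := orderOf_eq_card_of_forall_mem_zpowers hg
    have h2 : orderOf g ∣ p := orderOf_dvd_of_pow_eq_one (Subtype.ext (by
      simpa using Y_pow h hS.isZ (hBY g.2)))
    rw [h1, hBcard] at h2
    have h3 := (Nat.pow_dvd_pow_iff_le_right h.prime.one_lt (k := 2) (l := 1)).1 (by rwa [pow_one])
    omega
  · intro a ha b hb
    obtain ⟨x, hx, rfl⟩ := hb
    exact ⟨⟨a, ha⟩ * x * ⟨a, ha⟩⁻¹, hB'n.conj_mem x hx _, rfl⟩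

/-- An element with centraliser in `H` fixes only the base point. -/
theorem not_fix {Z : Subgroup G} {z w₀ : G} (hS : h.Seed Z z w₀) {a : G} (haH : a ∈ H) (hap : a ^ p = 1)
    (hac : centralizer ({a} : Set G) ≤ H) {y : G ⧸ H} (hy : y ≠ ((1 : G) : G ⧸ H)) : a • y ≠ y := by
  induction y using QuotientGroup.induction_on with
  | _ k =>
    intro hfix
    have hk : k⁻¹ * a * k ∈ H := fix_iff.1 hfix
    have hpow : (k⁻¹ * a * k) ^ p = 1 := by
      rw [show k⁻¹ * a * k = k⁻¹ * a * k⁻¹⁻¹ by group, conj_pow, hap]; group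
    obtain ⟨b, hb, hba⟩ := fus h hS (isPGroup_zpowers hpow) (zpowers_le.2 hk) (g := k) (by
      rintro _ ⟨i, rfl⟩
      show k * (k⁻¹ * a * k) ^ i * k⁻¹ ∈ H
      rw [← conj_zpow, show k * (k⁻¹ * a * k) * k⁻¹ = a by group]
      exact zpow_mem haH i)
    have hbx : b * (k⁻¹ * a * k) * b⁻¹ = a := (hba _ (mem_zpowers _)).trans (by group)
    have h1 : b * k⁻¹ ∈ H := hac (mem_centralizer_singleton_iff.2 (mul_inv_eq_iff_eq_mul.1 (by
      calc b * k⁻¹ * a * (b * k⁻¹)⁻¹ = b * (k⁻¹ * a * k) * b⁻¹ := by group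
        _ = a := hbx)))
    refine hy (QuotientGroup.eq.2 ?_)
    have h2 := mul_mem (inv_mem hb) h1
    rw [inv_mul_cancel_left] at h2
    simpa using h2

/-- The stabiliser in `H` of a second point has order not divisible by `p²`. -/
theorem D_small {Z : Subgroup G} {z w₀ : G} (hS : h.Seed Z z w₀) {y : G ⧸ H} (hy : y ≠ ((1 : G) : G ⧸ H)) :
    ¬ p ^ 2 ∣ Nat.card (H ⊓ MulAction.stabilizer G y : Subgroup G) := by
  intro hdvd
  obtain ⟨A₀, hA₀⟩ := Sylow.exists_subgroup_card_pow_prime p hdvd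
  set A := A₀.map (H ⊓ MulAction.stabilizer G y : Subgroup G).subtype with hA
  have hAcard : Nat.card A = p ^ 2 := (card_map_of_injective (Subgroup.subtype_injective _)).trans hA₀
  have hAD : A ≤ H ⊓ MulAction.stabilizer G y := map_subtype_le _
  obtain ⟨T, hT, -⟩ := exists_isSylowIn_ge (p := p) (A := (⊥ : Subgroup G)) (H := H) IsPGroup.of_bot bot_le
  obtain ⟨n, hn, hnT⟩ := exists_conj_le_of_isSylowIn hT (IsPGroup.of_card hAcard) (hAD.trans inf_le_left)
  set A' := A.map (Functors.cj n) with hA'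
  have hA'card : Nat.card A' = p ^ 2 := (card_map_cj A n).trans hAcard
  set y' := n • y with hy'
  have hy'1 : y' ≠ ((1 : G) : G ⧸ H) := fun e => hy (by
    have h1 := congrArg (fun c : G ⧸ H => n⁻¹ • c) e
    simp only [hy', inv_smul_smul] at h1
    rw [h1]
    exact fix_base_iff.2 (inv_mem hn))
  have hfix : ∀ a ∈ A', a • y' = y' := by
    rintro _ ⟨a, ha, rfl⟩
    rw [Functors.cj_apply, hy', ← mul_smul, inv_mul_cancel_right, mul_smul, mem_stab.1 (hAD ha).2]
  obtain ⟨B, hB, hBcard, hBn, z₁, hz₁B, hz₁, hz₁c⟩ := exists_B h hS hT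
  obtain ⟨b, hbB, hbz⟩ : ∃ b ∈ B, b ∉ zpowers z₁ := by
    by_contra! hno
    exact hB.not_cyclic (isCyclic_of_le hno)
  -- some nontrivial element fixes `b`
  obtain ⟨a, haA, ha1, hab⟩ : ∃ a ∈ A', a ≠ 1 ∧ a * b = b * a := by
    by_contra! hno
    have hb1 : b ≠ 1 := fun e => hbz (e ▸ one_mem _)
    have hinj : Set.InjOn (fun a : G => a * b * a⁻¹) A' := fun a ha c hc hac => by
      by_contra hne
      refine hno (c⁻¹ * a) (mul_mem (inv_mem hc) ha) (fun e => hne (inv_mul_eq_one.1 e).symm) ?_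
      change a * b * a⁻¹ = c * b * c⁻¹ at hac
      calc c⁻¹ * a * b = c⁻¹ * (a * b * a⁻¹) * a := by group
        _ = c⁻¹ * (c * b * c⁻¹) * a := by rw [hac]
        _ = b * (c⁻¹ * a) := by group
    have hle := Set.ncard_le_ncard_of_injOn (s := (A' : Set G)) (t := (B : Set G) \ {1}) _
      (fun a ha => ⟨hBn a (hnT ha) b hbB, fun e => hb1 (conj_eq_one_iff.1 e)⟩) hinj (Set.toFinite _)
    rw [Set.ncard_diff_singleton_of_mem B.one_mem, ← Nat.card_coe_set_eq, ← Nat.card_coe_set_eq] at hle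
    change Nat.card A' ≤ Nat.card B - 1 at hle
    rw [hA'card, hBcard] at hle
    have := pow_pos h.prime.pos 2
    omega
  obtain ⟨k, hk1, hk2⟩ := exists_root (isPGroup_of_mem (hT.isPGroup.to_le (le_refl T)) (hnT haA)) ha1
  set a' := a ^ k with ha'
  have ha'A : a' ∈ A' := A'.pow_mem haA k
  have hzb : ∀ u ∈ ({z₁, b} : Set G), ∀ v ∈ ({z₁, b} : Set G), u * v = v * u := by
    rintro u (rfl | rfl) v (rfl | rfl)
    · rfl
    · exact hB.comm _ hz₁B _ hbB
    · exact hB.comm _ hbB _ hz₁B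
    · rfl
  have hB1 : closure ({z₁, b} : Set G) ≤ B := (closure_le _).2 (by
    rintro u (rfl | rfl)
    · exact hz₁B
    · exact hbB)
  have hBp : ∀ u ∈ B, u ^ p = 1 := by
    intro u hu
    rcases eq_or_ne u 1 with rfl | hu1
    · exact one_pow p
    have hd : orderOf u ∣ p ^ 2 := hBcard ▸ Subgroup.orderOf_dvd_natCard B hu
    obtain ⟨i, hi, hiu⟩ := (Nat.dvd_prime_pow h.prime).1 hd
    rcases Nat.lt_or_ge i 2 with hi2 | hi2
    · exact orderOf_dvd_iff_pow_eq_one.1 (by
        rw [hiu]; exact (Nat.pow_dvd_pow p (show i ≤ 1 by omega)).trans (pow_one p).dvd)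
    · exfalso
      refine hB.not_cyclic (isCyclic_of_orderOf_eq_card (⟨u, hu⟩ : B) ?_)
      rw [Subgroup.orderOf_mk, hiu, hBcard, show i = 2 by omega]
  have hgood : h.GoodB (closure ({z₁, b} : Set G)) := ⟨hB1.trans hB.le,
    fun u hu v hv => hB.comm u (hB1 hu) v (hB1 hv),
    fun hc => hbz (root_mem hc (subset_closure (Or.inr rfl)) (subset_closure (Or.inl rfl)) (hBp b hbB)
      (hBp z₁ hz₁B) hz₁), fun u hu hu1 => hB.cent u (hB1 hu) hu1⟩
  refine not_fix h hS (hT.le (hnT ha'A)) hk1 (cent_le h hS hgood (hT.le (hnT ha'A)) hk1 hk2 fun u hu => ?_)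
    hy'1 (hfix a' ha'A)
  induction hu using closure_induction with
  | mem u hu =>
    rcases hu with rfl | rfl
    · exact hz₁c a' (hnT ha'A)
    · exact ((show Commute a _ from hab).pow_left k).eq
  | one => simp
  | mul u v _ _ hu hv => exact (show Commute a' u from hu).mul_right (show Commute a' v from hv)
  | inv u _ hu => exact (show Commute a' u from hu).inv_right

/-- The centraliser in `P` of an involution of `H` has index `p`. -/
theorem index_p {Z : Subgroup G} {z w₀ : G} (hS : h.Seed Z z w₀) {t : G} (htH : t ∈ H) (ht : orderOf t = 2) :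
    (h.P ⊓ centralizer ({t} : Set G)).relIndex h.P = p := by
  obtain ⟨g, hg⟩ := h.toHyp.exists_out
  set y : G ⧸ H := (g : G ⧸ H) with hy
  have hy1 : y ≠ ((1 : G) : G ⧸ H) := fun e => hg (by
    rw [hy, QuotientGroup.eq, mul_one, inv_mem_iff] at e; exact e)
  set C := centralizer ({t} : Set G) with hC
  set D := H ⊓ MulAction.stabilizer G y with hD
  have hDC : C.relIndex H = C.relIndex D := by
    refine (Nat.card_eq_of_bijective (quotientSubgroupOfEmbeddingOfLE C (inf_le_left : D ≤ H))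
      ⟨(quotientSubgroupOfEmbeddingOfLE C _).injective, fun q => ?_⟩).symm
    induction q using QuotientGroup.induction_on with
    | _ a =>
      obtain ⟨d, hd, hdy, hde⟩ := h.toHyp.trans_invol hy1 htH ht
        (H.mul_mem (H.mul_mem a.2 htH) (H.inv_mem a.2)) ((Invol.order_conj (a : G) t).trans ht)
      refine ⟨((⟨d, hd, mem_stab.2 hdy⟩ : D) : D ⧸ C.subgroupOf D), ?_⟩
      rw [quotientSubgroupOfEmbeddingOfLE_apply_mk, QuotientGroup.eq, mem_subgroupOf]
      refine mem_centralizer_singleton_iff.2 ?_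
      show d⁻¹ * (a : G) * t = t * (d⁻¹ * (a : G))
      calc d⁻¹ * (a : G) * t = d⁻¹ * ((a : G) * t * (a : G)⁻¹) * (a : G) := by group
        _ = d⁻¹ * (d * t * d⁻¹) * (a : G) := by rw [hde]
        _ = _ := by group
  have hdvd : C.relIndex h.P ∣ Nat.card D := by
    refine (relIndex_dvd_of_normal ((P_le h).trans h.W_le) (le_normalizer_of (P_norm h))).trans ?_
    rw [hDC]
    exact relIndex_dvd_card _ _
  rw [inf_relIndex_left]
  obtain ⟨k, hk⟩ := (P_pgroup h).exists_card_eq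
  obtain ⟨i, -, hi⟩ := (Nat.dvd_prime_pow h.prime).1 (hk ▸ relIndex_dvd_card C h.P)
  rcases Nat.lt_trichotomy i 1 with hi1 | hi1 | hi1
  · exfalso
    have hle : h.P ≤ C := relIndex_eq_one.1 (by rw [hi, show i = 0 by omega, pow_zero])
    exact not_cent h htH ht fun x hx => (mem_centralizer_singleton_iff.1 (hle hx)).symm
  · rw [hi, hi1, pow_one]
  · exact absurd ((Nat.pow_dvd_pow p hi1).trans (hi ▸ hdvd)) (D_small h hS hy1)

theorem false_of_mov : False := by
  obtain ⟨Z, z, w₀, hS⟩ := exists_seed h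
  obtain ⟨a, haE, ha1⟩ : ∃ a ∈ E, a ≠ 1 := by
    by_contra! hno
    have h8 := h.eight
    rw [(eq_bot_iff_forall _).2 hno, card_bot] at h8
    omega
  obtain ⟨b, hbE, hb1, hba⟩ : ∃ b ∈ E, b ≠ 1 ∧ b ≠ a := by
    by_contra! hno
    have hle : (E : Set G) ⊆ {1, a} := fun x hx => by
      by_cases hx1 : x = 1
      · exact Or.inl hx1
      · exact Or.inr (hno x hx hx1)
    have h8 := h.eight
    have := Set.ncard_le_ncard hle ((Set.finite_singleton a).insert 1)
    rw [← Nat.card_coe_set_eq] at this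
    have h2 := (Set.ncard_insert_le (1 : G) {a}).trans (by rw [Set.ncard_singleton])
    change Nat.card E ≤ _ at this
    omega
  have hE := E_four h
  set c := a * b with hc
  have hcE : c ∈ E := E.mul_mem haE hbE
  have hc1 : c ≠ 1 := fun e => hba (by
    rw [eq_inv_of_mul_eq_one_right e, inv_eq_of_mul_eq_one_right (hE.mul_self haE)])
  let K : G → Subgroup G := fun t => h.P ⊓ centralizer ({t} : Set G)
  have hKmem : ∀ {t x : G}, x ∈ K t ↔ x ∈ h.P ∧ x * t = t * x := fun {t x} =>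
    and_congr Iff.rfl mem_centralizer_singleton_iff
  have hKp : ∀ t ∈ E, t ≠ 1 → (K t).relIndex h.P = p := fun t ht ht1 =>
    index_p h hS (h.E_le ht) (hE.order ht ht1)
  have hKn : ∀ t ∈ E, t ≠ 1 → h.P ≤ normalizer (K t : Set G) := by
    intro t ht ht1
    have hlt : K t < h.P := by
      refine lt_of_le_of_ne inf_le_left fun e => ?_
      have h1 := hKp t ht ht1
      rw [e, relIndex_self] at h1
      exact h.prime.ne_one h1.symm
    exact (le_of_lt_prime_index (lt_inf_normalizer_of_lt (P_pgroup h) hlt) inf_le_left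
      (hKp t ht ht1)).trans inf_le_right
  -- the three subgroups are distinct
  have hdist : ∀ u ∈ E, u ≠ 1 → ∀ v ∈ E, v ≠ 1 → u ≠ v → K u ≠ K v := by
    intro u hu hu1 v hv hv1 huv hK
    have huv1 : u * v ≠ 1 := fun e => huv (by
      rw [eq_inv_of_mul_eq_one_left e, inv_eq_of_mul_eq_one_right (hE.mul_self hv)])
    refine not_cent h (h.E_le (E.mul_mem hu hv)) (hE.order (E.mul_mem hu hv) huv1) fun x hx => ?_
    set F := closure ({u, v} : Set G) with hF
    have hmem : ∀ e ∈ F, e = 1 ∨ e = u ∨ e = v ∨ e = u * v := by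
      intro e he
      have hvu := hE.comm hv hu
      have huu := hE.mul_self hu
      have hvv := hE.mul_self hv
      induction he using closure_induction with
      | mem e he => rcases he with rfl | rfl <;> simp
      | one => exact Or.inl rfl
      | mul e f _ _ he hf =>
        have h3 : u * (u * v) = v := by rw [← mul_assoc, huu, one_mul]
        have h4 : v * (u * v) = u := by rw [← mul_assoc, hvu, mul_assoc, hvv, mul_one]
        have h5 : u * v * u = v := by rw [mul_assoc, hvu, h3]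
        have h6 : u * v * v = u := by rw [mul_assoc, hvv, mul_one]
        have h7 : u * v * (u * v) = 1 := by rw [mul_assoc, h4, huu]
        rcases he with rfl | rfl | rfl | rfl <;> rcases hf with rfl | rfl | rfl | rfl <;>
          simp [huu, hvv, hvu, h3, h4, h5, h6, h7]
      | inv e _ he =>
        have hu' := inv_eq_of_mul_eq_one_right huu
        have hv' := inv_eq_of_mul_eq_one_right hvv
        rcases he with rfl | rfl | rfl | rfl <;> simp [hu', hv', hvu]
    have hFE : F ≤ E := (closure_le _).2 (by rintro e (rfl | rfl) <;> assumption)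
    have hFc : ∀ e ∈ F, ∀ f ∈ F, e * f = f * e := fun e he f hf => hE.comm (hFE he) (hFE hf)
    haveI : IsMulCommutative F := .of_setLike_mul_comm hFc
    have hFcyc : ¬ IsCyclic F := by
      intro hcyc
      haveI : Fact (Nat.Prime 2) := ⟨Nat.prime_two⟩
      obtain ⟨n, hn⟩ := mem_powers_iff_mem_zpowers.2 (root_mem (p := 2) (C := F) hcyc
        (subset_closure (Or.inr rfl) : v ∈ F) (subset_closure (Or.inl rfl) : u ∈ F) (h.ea.2 v hv)
        (h.ea.2 u hu) hu1)
      have hn' : u ^ n = v := hn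
      rw [← pow_mod_orderOf, hE.order hu hu1] at hn'
      rcases Nat.mod_two_eq_zero_or_one n with h2 | h2 <;> rw [h2] at hn'
      · exact hv1 (hn'.symm.trans (pow_zero u))
      · exact huv ((pow_one u).symm.trans hn')
    have hcop : (Nat.card F).Coprime (Nat.card h.P) :=
      (coprime_four hE (odd_of_le h.W_odd (P_le h))).coprime_dvd_left (card_dvd_of_le hFE)
    have hle : h.P ≤ K (u * v) := by
      rw [← CoprimeAct.generated_by_centralizers hFcyc
        (le_normalizer_of fun e he y hy => P_norm h e (h.E_le (hFE he)) y hy) hcop]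
      refine iSup₂_le fun e he y hy => ?_
      have hy' := mem_centralizer_singleton_iff.1 hy.2
      have hKu : y ∈ K u → y ∈ K (u * v) := fun h1 => by
        have h2 := hKmem.1 (hK ▸ h1 : y ∈ K v)
        exact hKmem.2 ⟨hy.1, ((show Commute y u from (hKmem.1 h1).2).mul_right
          (show Commute y v from h2.2)).eq⟩
      rcases hmem e he.1 with rfl | rfl | rfl | rfl
      · exact absurd rfl he.2
      · exact hKu (hKmem.2 ⟨hy.1, hy'⟩)
      · exact hKu (hK ▸ hKmem.2 ⟨hy.1, hy'⟩)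
      · exact hKmem.2 ⟨hy.1, hy'⟩
    exact (hKmem.1 (hle hx)).2.symm
  -- the other two act trivially modulo `K a`
  have hmod : ∀ v ∈ E, v ≠ 1 → v ≠ a → ∀ x ∈ h.P, v * x * v⁻¹ * x⁻¹ ∈ K a := by
    intro v hv hv1 hva
    have hn := hKn a haE ha1
    let S : Subgroup G :=
      { carrier := {x | x ∈ h.P ∧ v * x * v⁻¹ * x⁻¹ ∈ K a}
        one_mem' := ⟨h.P.one_mem, by simp⟩
        mul_mem' := fun {x y} hx hy => ⟨h.P.mul_mem hx.1 hy.1, by
          have := mul_mem hx.2 (conj_mem_of (hn hx.1) hy.2)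
          rwa [show v * x * v⁻¹ * x⁻¹ * (x * (v * y * v⁻¹ * y⁻¹) * x⁻¹) =
            v * (x * y) * v⁻¹ * (x * y)⁻¹ by group] at this⟩
        inv_mem' := fun {x} hx => ⟨h.P.inv_mem hx.1, by
          have := conj_mem_of (hn (h.P.inv_mem hx.1)) ((K a).inv_mem hx.2)
          rwa [show x⁻¹ * (v * x * v⁻¹ * x⁻¹)⁻¹ * x⁻¹⁻¹ = v * x⁻¹ * v⁻¹ * x⁻¹⁻¹ by group] at this⟩ }
    have hvn : ∀ x ∈ K a, v * x * v⁻¹ ∈ K a := fun x hx => by
      refine hKmem.2 ⟨P_norm h v (h.E_le hv) x (hKmem.1 hx).1, ?_⟩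
      have hva' : Commute v a := hE.comm hv haE
      exact (((hva'.mul_left (show Commute x a from (hKmem.1 hx).2))).mul_left hva'.inv_left).eq
    have hKS : K a ⊔ K v ≤ S := sup_le
      (fun x hx => ⟨(hKmem.1 hx).1, mul_mem (hvn x hx) ((K a).inv_mem hx)⟩)
      (fun x hx => ⟨(hKmem.1 hx).1, by
        rw [← (hKmem.1 hx).2, mul_inv_cancel_right, mul_inv_cancel]; exact one_mem _⟩)
    have hne : K a < K a ⊔ K v := by
      refine lt_of_le_of_ne le_sup_left fun e => hdist v hv hv1 a haE ha1 hva ?_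
      have hle : K v ≤ K a := e ▸ le_sup_right
      rcases eq_or_lt_of_le hle with e' | hlt
      · exact e'
      · exfalso
        have h1 := le_of_lt_prime_index hlt inf_le_left (hKp v hv hv1)
        exact not_cent h (h.E_le haE) (hE.order haE ha1) fun x hx => ((hKmem.1 (h1 hx)).2).symm
    have hP := le_of_lt_prime_index hne (sup_le inf_le_left inf_le_left) (hKp a haE ha1)
    exact fun x hx => (hKS (hP hx)).2
  have hcna : c ≠ a := fun e => hb1 (mul_left_cancel (a := a) (by rw [mul_one]; exact e))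
  refine not_cent h (h.E_le haE) (hE.order haE ha1) fun x hx => ?_
  have hbn : b * (c * x * c⁻¹ * x⁻¹) * b⁻¹ ∈ K a := by
    have h1 := hmod c hcE hc1 hcna x hx
    refine hKmem.2 ⟨P_norm h b (h.E_le hbE) _ (hKmem.1 h1).1, ?_⟩
    have hba' : Commute b a := hE.comm hbE haE
    exact (((hba'.mul_left (show Commute _ a from (hKmem.1 h1).2))).mul_left hba'.inv_left).eq
  have hkey : a * x * a⁻¹ * x⁻¹ ∈ K a := by
    have := mul_mem hbn (hmod b hbE hb1 hba x hx)
    rwa [show b * (c * x * c⁻¹ * x⁻¹) * b⁻¹ * (b * x * b⁻¹ * x⁻¹) = (b * c) * x * (b * c)⁻¹ * x⁻¹ by group,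
      show b * c = a by rw [hc, hE.comm haE hbE, ← mul_assoc, hE.mul_self hbE, one_mul]] at this
  set d := x⁻¹ * (a * x * a⁻¹ * x⁻¹) * x with hd
  have hdK : d ∈ K a := by
    have := conj_mem_of (hKn a haE ha1 (h.P.inv_mem hx)) hkey
    rwa [inv_inv] at this
  have hd1 := AxB.fixed_of_conj_eq_mul (q := x) (x := a) (d := d) (hKmem.1 hdK).2.symm
    (by rw [hd]; group) (h.ea.2 a haE)
    (Nat.coprime_two_right.2 (odd_order h.W_odd (P_le h (hKmem.1 hdK).1)))
  have h2 : a * x * a⁻¹ = x := by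
    calc a * x * a⁻¹ = x * d := by rw [hd]; group
      _ = x := by rw [hd1, mul_one]
  exact mul_inv_eq_iff_eq_mul.1 h2

end Mov

/-- The moving case holds. -/
theorem movingCase : MovingCase.{u} := by
  intro G _ _ _ H W M E hEH hE h8 t htH ht hmove
  obtain ⟨p, h⟩ := exists_mov M hEH hE h8 htH ht hmove
  haveI := Fact.mk h.prime
  exact Mov.false_of_mov h

/-- In a simple group the odd core of a strongly embedded subgroup with a four-group and the core
condition is trivial, given the rank two case. -/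
theorem oddCore_eq_bot {G : Type u} [Group G] [Finite G] [IsSimpleGroup G] (hTwo : RankTwoCase.{u})
    (H : Subgroup G) (hSE : Cfsg.IsStronglyEmbedded H)
    (four : ∃ E : Subgroup G, E ≤ H ∧ Cfsg.IsElementaryAbelian 2 E ∧ 4 ≤ Nat.card E)
    (hcore : ∀ t ∈ H, orderOf t = 2 → ∀ x : G, Odd (orderOf x) → x * t = t * x →
      x ∈ (Cfsg.oddCore ↥H).map H.subtype) : Cfsg.oddCore ↥H = ⊥ :=
  oddCore_eq_bot_of hTwo movingCase H hSE four hcore

end Cfsg.Agent.SEBrick
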