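import Cfsg.Agent.Lib.SEBrick.Moving3
import Cfsg.Agent.Lib.SEBrick.MainReduce
import Cfsg.Agent.Lib.BrauerSuzuki.Main

/-!
An element of order `p` of `H` centralising a good subgroup has its centraliser inside `H`.
-/

set_option autoImplicit false
set_option linter.style.haveILetI false
set_option linter.unusedSectionVars false

namespace Cfsg.Agent.SEBrick

open Cfsg Subgroup Cfsg.Agent.Functors

universe u

variable {G : Type u} [Group G] [Finite G] {H W E : Subgroup G} {p : ℕ}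

/-- A group of two-rank one whose involution centralisers are soluble is soluble. -/
theorem solvable_of_rankOne {Y : Type u} [Group Y] [Finite Y] (hR : BrauerSuzuki.RankOne Y)
    (hC : ∀ i : Y, orderOf i = 2 → Group.IsSolvable (centralizer ({i} : Set Y))) : Group.IsSolvable Y := by
  by_cases hex : ∃ i : Y, orderOf i = 2
  swap
  · push Not at hex
    exact OddChar.oddSolvable Y (Nat.not_even_iff_odd.1 fun he => by
      haveI : Fact (Nat.Prime 2) := ⟨Nat.prime_two⟩
      obtain ⟨i, hi⟩ := exists_prime_orderOf_dvd_card' (G := Y) 2 (even_iff_two_dvd.1 he)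
      exact hex i hi)
  obtain ⟨i, hi⟩ := hex
  haveI := hC i hi
  set O := Cfsg.pPrimeCore 2 Y with hO
  haveI : O.Normal := FittingCores.pPrimeCore_normal 2
  have hOodd : Odd (Nat.card O) := oddCore_odd
  haveI : Group.IsSolvable O := OddChar.oddSolvable O hOodd
  have hsurj : Function.Surjective ((QuotientGroup.mk' O).comp (centralizer ({i} : Set Y)).subtype) := by
    intro yb
    obtain ⟨g, rfl⟩ := QuotientGroup.mk'_surjective O yb
    have hj : orderOf (g * i * g⁻¹) = 2 := (Invol.order_conj g i).trans hi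
    have hmem : g * i * g⁻¹ * i⁻¹ ∈ O := BrauerSuzuki.inZStar Y hR i hi g
    rw [Invol.inv_self hi] at hmem
    obtain ⟨d, hd, hde⟩ := conj_of_odd' hj hi (odd_order hOodd hmem)
    have hdO : d ∈ O := (zpowers_le.2 hmem) hd
    refine ⟨⟨d * g, mem_centralizer_singleton_iff.2 (mul_inv_eq_iff_eq_mul.1 ?_)⟩, ?_⟩
    · calc d * g * i * (d * g)⁻¹ = d * (g * i * g⁻¹) * d⁻¹ := by group
        _ = i := hde
    · show ((d * g : Y) : Y ⧸ O) = g
      rw [QuotientGroup.mk_mul, (QuotientGroup.eq_one_iff d).2 hdO, one_mul]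
  haveI : Group.IsSolvable (Y ⧸ O) := Group.isSolvable_of_surjective hsurj
  exact (Group.isSolvable_iff_subgroup_quotient O).2 ⟨inferInstance, inferInstance⟩

theorem Hyp.cent_solvable (h : Hyp H W) {t : G} (ht : orderOf t = 2) :
    Group.IsSolvable (centralizer ({t} : Set G)) := by
  haveI : Fact (Nat.Prime 2) := ⟨Nat.prime_two⟩
  obtain ⟨N, hN, hcop, k, hk⟩ := PBasic.hasNormalPComplement_iff.1 (h.cent_twoNilp ht)
  haveI := hN
  haveI : Group.IsSolvable N := OddChar.oddSolvable N (Nat.coprime_two_right.1 hcop)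
  haveI : Group.IsNilpotent (centralizer ({t} : Set G) ⧸ N) :=
    (IsPGroup.of_card (p := 2) (n := k) (by rw [← index_eq_card]; exact hk)).isNilpotent
  exact (Group.isSolvable_iff_subgroup_quotient N).2 ⟨inferInstance, inferInstance⟩

namespace Mov

variable (h : Mov H W E p) [Fact p.Prime]
include h

/-- An element of order `p` of `H` centralising a good subgroup has centraliser in `H`. -/
theorem cent_le {Z : Subgroup G} {z w₀ : G} (hS : h.Seed Z z w₀) {B : Subgroup G} (hB : h.GoodB B)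
    {x : G} (hxH : x ∈ H) (hxp : x ^ p = 1) (hx1 : x ≠ 1) (hxB : ∀ b ∈ B, x * b = b * x) :
    centralizer ({x} : Set G) ≤ H := by
  set L := centralizer ({x} : Set G) with hL
  have hxL : x ∈ L := mem_centralizer_singleton_iff.2 rfl
  have hxodd : Odd (orderOf x) :=
    (h.prime.odd_of_ne_two h.ne_two).of_dvd_nat (orderOf_dvd_of_pow_eq_one hxp)
  have hcomm : ∀ l ∈ L, l * x = x * l := fun l hl => mem_centralizer_singleton_iff.1 hl
  have hLtop : L ≠ ⊤ := by
    intro htop
    have hn : (zpowers x).Normal := by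
      refine ⟨?_⟩
      rintro _ ⟨i, rfl⟩ g
      rw [((show Commute g x from hcomm g (htop ▸ mem_top g)).zpow_right i).eq, mul_inv_cancel_right]
      exact ⟨i, rfl⟩
    exact hx1 (zpowers_eq_bot.1 (le_bot_iff.1
      (h.ocore ▸ le_oddCore hn (by rwa [Nat.card_zpowers]))))
  have hBL : B ≤ L := fun b hb => mem_centralizer_singleton_iff.2 (hxB b hb).symm
  have hBH : B ≤ H := hB.le.trans ((P_le h).trans h.W_le)
  have hBp : IsPGroup p B := (P_pgroup h).to_le hB.le
  -- a Sylow subgroup of `L` inside `H`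
  obtain ⟨R₁, hR₁, hBR₁⟩ := exists_isSylowIn_ge (H := L ⊓ H) hBp (le_inf hBL hBH)
  have hR₁H : R₁ ≤ H := hR₁.le.trans inf_le_right
  have hxR₁ : x ∈ R₁ := by
    obtain ⟨n, hn, hle⟩ := exists_conj_le_of_isSylowIn hR₁ (isPGroup_zpowers hxp)
      (zpowers_le.2 ⟨hxL, hxH⟩)
    have := hle ⟨x, mem_zpowers x, rfl⟩
    rwa [Functors.cj_apply, hcomm n hn.1, mul_inv_cancel_right] at this
  have hR₁L : IsSylowIn p R₁ L := by
    obtain ⟨R₂, hR₂, hle⟩ := exists_isSylowIn_ge hR₁.isPGroup (hR₁.le.trans inf_le_left)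
    rcases eq_or_lt_of_le hle with e | hlt
    · exact e ▸ hR₂
    · exfalso
      have h1 := lt_inf_normalizer_of_lt hR₂.isPGroup hlt
      exact h1.ne (hR₁.eq_of_le (hR₂.isPGroup.to_le inf_le_left) h1.le
        (le_inf (inf_le_left.trans hR₂.le)
          (inf_le_right.trans (NR h hS hB hBR₁ hR₁.isPGroup hR₁H))))
  by_cases hfour : ∃ E₁ : Subgroup G, IsFour E₁ ∧ E₁ ≤ L
  · -- a four-group in `L` may be moved into `H`
    obtain ⟨E₁, hE₁, hE₁L⟩ := hfour
    obtain ⟨a, haE, ha1⟩ : ∃ a ∈ E₁, a ≠ 1 := by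
      by_contra! hno
      have h4 := hE₁.2
      rw [(eq_bot_iff_forall _).2 hno, card_bot] at h4
      omega
    have ha2 := hE₁.order haE ha1
    obtain ⟨c, hc⟩ := Invol.se_exists_fix h.se ha2
    have hEc : ∀ e ∈ E₁, e • c = c := fun e he => Invol.se_fix_unique h.se ha2 (by
      rw [← mul_smul, hE₁.comm haE he, mul_smul, hc]) hc
    obtain ⟨k, rfl⟩ := QuotientGroup.mk_surjective c
    have hxW : k⁻¹ * x * k ∈ W :=
      h.toHyp.mem_Wat.1 (h.toHyp.core_at ha2 hc hxodd (hcomm a (hE₁L haE)).symm)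
    have hpow : (k⁻¹ * x * k) ^ p = 1 := by
      rw [show k⁻¹ * x * k = k⁻¹ * x * k⁻¹⁻¹ by group, conj_pow, hxp]; group
    obtain ⟨b, hb, hba⟩ := fus h hS (isPGroup_zpowers hpow) (zpowers_le.2 (h.W_le hxW)) (g := k) (by
      rintro _ ⟨i, rfl⟩
      show k * (k⁻¹ * x * k) ^ i * k⁻¹ ∈ H
      rw [← conj_zpow, show k * (k⁻¹ * x * k) * k⁻¹ = x by group]
      exact zpow_mem hxH i)
    have hbx : b * (k⁻¹ * x * k) * b⁻¹ = x := (hba _ (mem_zpowers _)).trans (by group)
    have hlL : b * k⁻¹ ∈ L := mem_centralizer_singleton_iff.2 (mul_inv_eq_iff_eq_mul.1 (by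
      calc b * k⁻¹ * x * (b * k⁻¹)⁻¹ = b * (k⁻¹ * x * k) * b⁻¹ := by group
        _ = x := hbx))
    set E₃ := E₁.map (Functors.cj (b * k⁻¹)) with hE₃
    have hE₃H : E₃ ≤ H := by
      rintro _ ⟨e, he, rfl⟩
      rw [Functors.cj_apply, show b * k⁻¹ * e * (b * k⁻¹)⁻¹ = b * (k⁻¹ * e * k) * b⁻¹ by group]
      exact H.mul_mem (H.mul_mem hb (fix_iff.1 (hEc e he))) (H.inv_mem hb)
    have hE₃L : E₃ ≤ L := by
      rintro _ ⟨e, he, rfl⟩
      exact L.mul_mem (L.mul_mem hlL (hE₁L he)) (L.inv_mem hlL)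
    by_contra hLH
    have hn := h.f2 L hLtop E₃ hE₃L hE₃H (hE₁.conj _) hLH
    have hU : IsSylowIn p (R₁ ⊓ (W ⊓ L)) (W ⊓ L) :=
      hR₁L.inf_normalized inf_le_right (le_normalizer_of hn)
    have hBU : B ≤ R₁ ⊓ (W ⊓ L) := le_inf hBR₁ (le_inf (hB.le.trans (P_le h)) hBL)
    refine hLH fun l hl => ?_
    obtain ⟨r, hr, hrl⟩ := frattini hU (hn l hl)
    have := mul_mem (inv_mem (h.W_le hr.1))
      (NR h hS hB hBU hU.isPGroup (inf_le_left.trans hR₁H) hrl)
    rwa [inv_mul_cancel_left] at this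
  -- otherwise `L` is soluble
  push Not at hfour
  have hrank : BrauerSuzuki.RankOne L := by
    intro a b ha hb hab
    by_contra hne
    have ha' : orderOf (a : G) = 2 := by rwa [Subgroup.orderOf_coe]
    have hb' : orderOf (b : G) = 2 := by rwa [Subgroup.orderOf_coe]
    have hc : ∀ u ∈ ({(a : G), (b : G)} : Set G), ∀ v ∈ ({(a : G), (b : G)} : Set G), u * v = v * u := by
      rintro u (rfl | rfl) v (rfl | rfl)
      · rfl
      · exact congrArg Subtype.val hab.eq
      · exact congrArg Subtype.val hab.eq.symm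
      · rfl
    have hp2 : ∀ u ∈ ({(a : G), (b : G)} : Set G), u ^ 2 = 1 := by
      rintro u (rfl | rfl)
      · rw [← ha']; exact pow_orderOf_eq_one _
      · rw [← hb']; exact pow_orderOf_eq_one _
    refine hfour (closure {(a : G), (b : G)}) ⟨⟨isMulCommutative_closure hc,
      pow_eq_one_closure hc hp2⟩, ?_⟩ ((closure_le _).2 (by rintro u (rfl | rfl) <;> exact Subtype.coe_prop _))
    haveI : Fact (Nat.Prime 2) := ⟨Nat.prime_two⟩
    obtain ⟨n, hn⟩ := (isPGroup_closure (q := 2) hc hp2).exists_card_eq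
    have hsub : ({1, (a : G), (b : G)} : Set G) ⊆ (closure {(a : G), (b : G)} : Set G) := by
      rintro u (rfl | rfl | rfl)
      · exact one_mem _
      · exact subset_closure (Or.inl rfl)
      · exact subset_closure (Or.inr rfl)
    have h3 : ({1, (a : G), (b : G)} : Set G).ncard = 3 := by
      refine Set.ncard_eq_three.2 ⟨1, a, b, ?_, ?_, fun e => hne (Subtype.ext e), rfl⟩
      · intro e; rw [← e, orderOf_one] at ha'; omega
      · intro e; rw [← e, orderOf_one] at hb'; omega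
    have hle := Set.ncard_le_ncard hsub (Set.toFinite _)
    rw [h3, ← Nat.card_coe_set_eq] at hle
    change 3 ≤ Nat.card (closure {(a : G), (b : G)}) at hle
    rw [hn] at hle ⊢
    rcases n with _ | _ | n
    · simp at hle
    · simp at hle
    · calc 4 = 2 ^ 2 := by norm_num
        _ ≤ 2 ^ (n + 2) := Nat.pow_le_pow_right two_pos (by omega)
  haveI : Group.IsSolvable L := by
    refine solvable_of_rankOne hrank fun i hi => ?_
    haveI := h.toHyp.cent_solvable (t := (i : G)) (by rwa [Subgroup.orderOf_coe])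
    exact Group.isSolvable_of_isSolvable_injective
      (f := (L.subtype.comp (centralizer ({i} : Set L)).subtype).codRestrict (centralizer ({(i : G)} : Set G))
        fun y => mem_centralizer_singleton_iff.2
          (congrArg Subtype.val (mem_centralizer_singleton_iff.1 y.2)))
      fun y z hyz => Subtype.ext (Subtype.ext (congrArg (fun w : (centralizer ({(i : G)} : Set G)) => (w : G)) hyz :))
  set O := Cfsg.pPrimeCore p L with hO
  haveI hOn : O.Normal := FittingCores.pPrimeCore_normal p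
  set π := QuotientGroup.mk' O with hπ
  have hπs : Function.Surjective π := QuotientGroup.mk'_surjective O
  have hOH : O.map L.subtype ≤ H := pPrime_le h hB (hBL.trans (AxB.le_normalizer_map_subtype hOn))
    (by rw [card_map_of_injective L.subtype_injective]; exact FittingCores.pPrimeCore_coprime p)
  set V := (Cfsg.pCore p (L ⧸ O)).comap π with hV
  haveI hVn : V.Normal := (FittingCores.pCore_normal p).comap π
  set Vg := V.map L.subtype with hVg
  have hxV : (⟨x, hxL⟩ : L) ∈ V := by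
    have hXn : (zpowers (⟨x, hxL⟩ : L)).Normal := ⟨by
      rintro _ ⟨i, rfl⟩ g
      have hg : Commute g (⟨x, hxL⟩ : L) := Subtype.ext (hcomm g g.2)
      rw [(hg.zpow_right i).eq, mul_inv_cancel_right]
      exact ⟨i, rfl⟩⟩
    exact (FittingCores.le_pCore (hXn.map π hπs)
      ((isPGroup_zpowers (Subtype.ext (by simpa using hxp))).map π)) ⟨_, mem_zpowers _, rfl⟩
  obtain ⟨S, hSeq⟩ := hR₁L.exists_sylow
  have hlift : ∀ v ∈ V, ∃ s ∈ V, (s : G) ∈ R₁ ∧ π s = π v := fun v hv => by
    obtain ⟨s, hs, hsv⟩ := FittingCores.pCore_le_sylow (S.mapSurjective hπs) (show π v ∈ _ from hv)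
    refine ⟨s, ?_, ?_, hsv⟩
    · refine mem_comap.2 ?_
      rw [hsv]; exact hv
    · change s ∈ (S : Subgroup L) at hs
      rwa [hSeq, mem_subgroupOf] at hs
  have hVH : Vg ≤ H := by
    rintro _ ⟨v, hv, rfl⟩
    obtain ⟨s, -, hs, hsv⟩ := hlift v hv
    have h1 : s⁻¹ * v ∈ O := QuotientGroup.eq.1 hsv
    have := mul_mem (hR₁H hs) (hOH ⟨_, h1, rfl⟩)
    simpa using this
  have hVL : Vg ≤ L := map_subtype_le _
  have hR₀ : IsSylowIn p (R₁ ⊓ Vg) Vg := hR₁L.inf_normalized hVL (AxB.le_normalizer_map_subtype hVn)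
  have hN : ∀ n ∈ L, n ∈ normalizer ((R₁ ⊓ Vg : Subgroup G) : Set G) → n ∈ H := fun n hn hnN => by
    obtain ⟨k, hk, hka⟩ := fus h hS hR₀.isPGroup (inf_le_left.trans hR₁H) (g := n)
      fun y hy => hR₁H (conj_mem_of hnN hy).1
    have hkL : k ∈ L := mem_centralizer_singleton_iff.2 (mul_inv_eq_iff_eq_mul.1 (by
      rw [hka x ⟨hxR₁, ⟨_, hxV, rfl⟩⟩, hcomm n hn, mul_inv_cancel_right]))
    have hc : π ⟨k⁻¹ * n, L.mul_mem (L.inv_mem hkL) hn⟩ ∈ Cfsg.pCore p (L ⧸ O) := by
      refine FittingCores.centralizer_pCore_le h.prime (FittingCores.pPrimeCore_quotient_eq_bot p O rfl)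
        (mem_centralizer_iff.2 fun y hy => ?_)
      obtain ⟨v, rfl⟩ := hπs y
      obtain ⟨s, hsV, hs, hsv⟩ := hlift v hy
      rw [← hsv, ← map_mul, ← map_mul]
      refine congrArg π (Subtype.ext ?_)
      show (s : G) * (k⁻¹ * n) = k⁻¹ * n * s
      have := hka s ⟨hs, ⟨s, hsV, rfl⟩⟩
      calc (s : G) * (k⁻¹ * n) = k⁻¹ * (k * s * k⁻¹) * n := by group
        _ = k⁻¹ * (n * s * n⁻¹) * n := by rw [this]
        _ = _ := by group
    have := mul_mem hk (hVH ⟨_, hc, rfl⟩)
    simpa using this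
  intro l hl
  obtain ⟨r, hr, hrl⟩ := frattini hR₀ (fun v hv => conj_mem_of (AxB.le_normalizer_map_subtype hVn hl) hv)
  have := mul_mem (inv_mem (hVH hr)) (hN _ (L.mul_mem (hVL hr) hl) hrl)
  rwa [inv_mul_cancel_left] at this

end Mov

end Cfsg.Agent.SEBrick
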