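import Cfsg.Agent.Lib.SEBrick.Reduce

/-!
A minimal counterexample is simple.
-/

set_option autoImplicit false
set_option linter.style.haveILetI false
set_option linter.unusedSectionVars false

namespace Cfsg.Agent.SEBrick

open Cfsg Subgroup

universe u

variable {G : Type u} [Group G] [Finite G] {H W : Subgroup G}

theorem Hyp.exists_fixInv (h : Hyp H W) (x : G ⧸ H) : ∃ s : G, orderOf s = 2 ∧ s • x = x := by
  induction x using QuotientGroup.induction_on with
  | _ k =>
    obtain ⟨t, htH, ht⟩ := h.exists_invol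
    refine ⟨k * t * k⁻¹, by rw [Invol.order_conj, ht], fix_iff.2 ?_⟩
    rwa [show k⁻¹ * (k * t * k⁻¹) * k = t by group]

theorem Hyp.exists_swap (h : Hyp H W) {x y : G ⧸ H} (hxy : x ≠ y) :
    ∃ w : G, orderOf w = 2 ∧ w • x = y ∧ w • y = x := by
  obtain ⟨s, hs, hsx⟩ := h.exists_fixInv x
  obtain ⟨u, hu, huy⟩ := h.exists_fixInv y
  obtain ⟨w, hw, hwx, -⟩ := Invol.se_swap h.se hs hu hsx huy hxy
  refine ⟨w, hw, hwx, ?_⟩
  rw [← hwx, ← mul_smul, Invol.mul_self hw, one_smul]

/-- Elements fixing two points have odd order. -/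
theorem Hyp.odd_of_two (h : Hyp H W) {x y : G ⧸ H} (hxy : x ≠ y) {d : G} (hx : d • x = x)
    (hy : d • y = y) : Odd (orderOf d) := by
  rw [← Nat.not_even_iff_odd]
  intro he
  obtain ⟨k, hk⟩ := he
  have hpos := orderOf_pos d
  have hp : orderOf (d ^ k) = 2 := by
    rw [orderOf_pow_of_dvd (by omega) ⟨2, by omega⟩, hk, show (k + k) = 2 * k by ring,
      Nat.mul_div_cancel _ (by omega)]
  have fixp : ∀ z : G ⧸ H, d • z = z → d ^ k • z = z := by
    intro z hz
    clear hk hp
    induction k with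
    | zero => rw [pow_zero, one_smul]
    | succ j ih => rw [pow_succ, mul_smul, hz, ih]
  exact hxy (Invol.se_fix_unique h.se hp (fixp x hx) (fixp y hy))

theorem mem_stab {x : G ⧸ H} {g : G} : g ∈ MulAction.stabilizer G x ↔ g • x = x := Iff.rfl

/-- An involution exchanging two points inverts the part in a free normal subgroup of their
stabiliser. -/
theorem Hyp.swap_inverts (h : Hyp H W) {N : Subgroup G} [N.Normal]
    (hfree : ∀ d ∈ N, Odd (orderOf d) → ∀ t : G, orderOf t = 2 → d * t = t * d → d = 1)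
    {x y : G ⧸ H} (hxy : x ≠ y) {w d : G} (hw : orderOf w = 2) (hwx : w • x = y)
    (hd : d ∈ N) (hdx : d • x = x) (hdy : d • y = y) : w * d * w⁻¹ = d⁻¹ := by
  set D : Subgroup G := N ⊓ MulAction.stabilizer G x ⊓ MulAction.stabilizer G y with hD
  have hwy : w • y = x := by rw [← hwx, ← mul_smul, Invol.mul_self hw, one_smul]
  have hwi : w⁻¹ = w := Invol.inv_self hw
  have hmap : ∀ a ∈ D, w * a * w⁻¹ ∈ D := by
    intro a ha
    refine ⟨⟨‹N.Normal›.conj_mem a ha.1.1 w, ?_⟩, ?_⟩
    · show (w * a * w⁻¹) • x = x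
      rw [hwi, mul_smul, mul_smul, hwx, mem_stab.1 ha.2, hwy]
    · show (w * a * w⁻¹) • y = y
      rw [hwi, mul_smul, mul_smul, hwy, mem_stab.1 ha.1.2, hwx]
  let φ : D →* D :=
    { toFun := fun a => ⟨w * a * w⁻¹, hmap a a.2⟩
      map_one' := Subtype.ext (by simp)
      map_mul' := fun a b => Subtype.ext (by simp [mul_assoc]) }
  have hfp : MonoidHom.FixedPointFree φ := fun a ha => by
    have e : w * (a : G) * w⁻¹ = a := congrArg Subtype.val ha
    exact Subtype.ext (hfree a a.2.1.1 (h.odd_of_two hxy a.2.1.2 a.2.2) w hw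
      (mul_inv_eq_iff_eq_mul.1 e).symm)
  have hii : Function.Involutive φ := fun a => Subtype.ext (by
    show w * (w * (a : G) * w⁻¹) * w⁻¹ = a
    rw [show w * (w * (a : G) * w⁻¹) * w⁻¹ = (w * w) * a * (w * w)⁻¹ by group, Invol.mul_self hw]
    simp)
  exact congrArg Subtype.val (congrFun (hfp.coe_eq_inv_of_involutive hii) ⟨d, ⟨hd, hdx⟩, hdy⟩)

/-- In a free normal subgroup containing the involutions, an element has at most two fixed points. -/
theorem Hyp.fix_two (h : Hyp H W) {N : Subgroup G} [N.Normal] (hN : ∀ t : G, orderOf t = 2 → t ∈ N)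
    (hfree : ∀ d ∈ N, Odd (orderOf d) → ∀ t : G, orderOf t = 2 → d * t = t * d → d = 1)
    {d : G} (hd : d ∈ N) (hd1 : d ≠ 1) {x y z : G ⧸ H} (hx : d • x = x) (hy : d • y = y)
    (hz : d • z = z) (hxy : x ≠ y) (hxz : x ≠ z) : y = z := by
  obtain ⟨E, hEH, hE⟩ := h.four
  have hdodd := h.odd_of_two hxy hx hy
  -- no involution at a fixed point inverts `d`
  have noinv : ∀ c x' : G ⧸ H, d • c = c → d • x' = x' → c ≠ x' → ∀ w : G, orderOf w = 2 →
      w • c = c → w * d * w⁻¹ ≠ d⁻¹ := by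
    intro c x' hdc hdx' hcx w hw hwc hinv
    induction c using QuotientGroup.induction_on with
    | _ k =>
      have hall : ∀ s : G, orderOf s = 2 → s • (k : G ⧸ H) = k → s * d * s⁻¹ = d⁻¹ := by
        intro s hs hsc
        obtain ⟨v, hvo, hvc, hvx⟩ := h.exists_swap hcx
        obtain ⟨⟨w₁, hw₁, hw₁c⟩, hbij⟩ := (Invol.swap_conj_bijective h.se hcx ⟨w, hw, hwc⟩).2
          ⟨v * s * v⁻¹, (Invol.order_conj _ s).trans hs, by
            rw [Invol.inv_self hvo, mul_smul, mul_smul, hvx, hsc, hvc]⟩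
        have hbij' : w₁ * w * w₁⁻¹ = v * s * v⁻¹ := congrArg Subtype.val hbij
        set a := v⁻¹ * w₁ with ha
        have hw₁x : w₁ • x' = (k : G ⧸ H) := by rw [← hw₁c, ← mul_smul, Invol.mul_self hw₁, one_smul]
        have hac : a • (k : G ⧸ H) = k := by rw [ha, mul_smul, hw₁c, Invol.inv_self hvo, hvx]
        have hax : a • x' = x' := by rw [ha, mul_smul, hw₁x, Invol.inv_self hvo, hvc]
        have haN : a ∈ N := N.mul_mem (N.inv_mem (hN v hvo)) (hN w₁ hw₁)
        have hcomm : a * d = d * a := by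
          have h1 := h.swap_inverts hfree hcx hvo hvc (N.mul_mem haN hd) (by rw [mul_smul, hdc, hac])
            (by rw [mul_smul, hdx', hax])
          have h2 := h.swap_inverts hfree hcx hvo hvc haN hac hax
          have h3 := h.swap_inverts hfree hcx hvo hvc hd hdc hdx'
          have e : (a * d)⁻¹ = a⁻¹ * d⁻¹ := by
            rw [← h1, ← h2, ← h3]; group
          calc a * d = ((a * d)⁻¹)⁻¹ := (inv_inv _).symm
            _ = (a⁻¹ * d⁻¹)⁻¹ := by rw [e]
            _ = d * a := by group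
        have hs' : s = a * w * a⁻¹ := by
          rw [ha]
          calc s = v⁻¹ * (v * s * v⁻¹) * v := by group
            _ = v⁻¹ * (w₁ * w * w₁⁻¹) * v := by rw [hbij']
            _ = _ := by group
        rw [hs']
        calc a * w * a⁻¹ * d * (a * w * a⁻¹)⁻¹ = a * w * (a⁻¹ * (d * a)) * w⁻¹ * a⁻¹ := by group
          _ = a * (w * d * w⁻¹) * a⁻¹ := by rw [← hcomm]; group
          _ = (a * d * a⁻¹)⁻¹ := by rw [hinv]; group
          _ = d⁻¹ := by rw [hcomm, mul_inv_cancel_right]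
      -- a four-group at the point
      obtain ⟨a, haE, ha1⟩ : ∃ a ∈ E, a ≠ 1 := by
        by_contra hc
        push Not at hc
        have h4 := hE.2
        rw [(eq_bot_iff_forall _).2 hc, card_bot] at h4
        omega
      obtain ⟨b, hbE, hb⟩ : ∃ b ∈ E, b ∉ zpowers a := by
        by_contra hc
        push Not at hc
        have := card_le_of_le (show E ≤ zpowers a from hc)
        rw [Nat.card_zpowers, hE.order haE ha1] at this
        have := hE.2
        omega
      have hb1 : b ≠ 1 := fun e => hb (e ▸ one_mem _)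
      have hab1 : a * b ≠ 1 := fun e => hb (by rw [eq_inv_of_mul_eq_one_right e]; exact inv_mem (mem_zpowers a))
      have key : ∀ e ∈ E, e ≠ 1 → k * e * k⁻¹ * d * (k * e * k⁻¹)⁻¹ = d⁻¹ := fun e he he1 =>
        hall _ (by rw [Invol.order_conj, hE.order he he1]) (fix_iff.2 (by
          rw [show k⁻¹ * (k * e * k⁻¹) * k = e by group]; exact hEH he))
      have e1 := key a haE ha1
      have e2 := key b hbE hb1
      have e3 := key _ (mul_mem haE hbE) hab1
      have e4 : k * (a * b) * k⁻¹ * d * (k * (a * b) * k⁻¹)⁻¹ = d := by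
        rw [show k * (a * b) * k⁻¹ * d * (k * (a * b) * k⁻¹)⁻¹ =
          k * a * k⁻¹ * (k * b * k⁻¹ * d * (k * b * k⁻¹)⁻¹) * (k * a * k⁻¹)⁻¹ by group, e2]
        calc k * a * k⁻¹ * d⁻¹ * (k * a * k⁻¹)⁻¹ = (k * a * k⁻¹ * d * (k * a * k⁻¹)⁻¹)⁻¹ := by group
          _ = d := by rw [e1, inv_inv]
      rw [e4] at e3
      exact hd1 (Invol.eq_one_of_sq_of_odd hdodd (by
        rw [pow_two]; nth_rw 1 [e3]; exact inv_mul_cancel d))
  -- two fixed points lie in different orbits of the centraliser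
  set A : Subgroup G := N ⊓ centralizer ({d} : Set G) with hA
  have hAodd : Odd (Nat.card A) := odd_card_of_orders fun a ha ha2 =>
    hd1 (hfree d hd hdodd a ha2 (mem_centralizer_singleton_iff.1 ha.2).symm)
  have orb : ∀ p q : G ⧸ H, d • p = p → d • q = q → p ≠ q → ∀ a ∈ A, a • p ≠ q := by
    intro p q hp hq hpq a ha hapq
    obtain ⟨w, hw, hwp, hwq⟩ := h.exists_swap hpq
    have hwd := h.swap_inverts hfree hpq hw hwp hd hp hq
    -- the involution normalises `A`
    have hwA : ∀ b ∈ A, w * b * w⁻¹ ∈ A := by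
      intro b hb
      refine ⟨‹N.Normal›.conj_mem b hb.1 w, mem_centralizer_singleton_iff.2 ?_⟩
      have hd' : d = w * d⁻¹ * w⁻¹ := by
        rw [← hwd]
        calc d = (w * w) * d * (w * w)⁻¹ := by rw [Invol.mul_self hw]; simp
          _ = _ := by group
      have hbd : b * d⁻¹ = d⁻¹ * b := (show Commute b d from mem_centralizer_singleton_iff.1 hb.2).inv_right.eq
      calc w * b * w⁻¹ * d = w * b * w⁻¹ * (w * d⁻¹ * w⁻¹) := by rw [← hd']
        _ = w * (b * d⁻¹) * w⁻¹ := by group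
        _ = (w * d⁻¹ * w⁻¹) * (w * b * w⁻¹) := by rw [hbd]; group
        _ = _ := by rw [← hd']
    set O : Set (G ⧸ H) := MulAction.orbit A p with hO
    have hOcard : Odd (Nat.card O) := by
      rw [Nat.card_coe_set_eq, hO, ← MulAction.index_stabilizer]
      exact hAodd.of_dvd_nat (index_dvd_card _)
    let σ : O → O := fun o => ⟨w • (o : G ⧸ H), by
      obtain ⟨⟨b, hb⟩, hbo⟩ := o.2
      refine ⟨⟨w * b * w⁻¹ * a, A.mul_mem (hwA b hb) ha⟩, ?_⟩
      show (w * b * w⁻¹ * a) • p = w • (o : G ⧸ H)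
      rw [mul_smul, hapq, mul_smul, mul_smul, Invol.inv_self hw, hwq, ← hbo]
      rfl⟩
    classical
    haveI := Fintype.ofFinite O
    have hσ : Function.Involutive σ := fun o => Subtype.ext (by
      show w • w • (o : G ⧸ H) = o
      rw [← mul_smul, Invol.mul_self hw, one_smul])
    obtain ⟨c, hc⟩ : ∃ c, σ c = c := by
      haveI : Fact (Nat.Prime 2) := ⟨Nat.prime_two⟩
      refine Equiv.Perm.exists_fixed_point_of_prime (p := 2) (n := 1) ?_ (σ := hσ.toPerm σ) ?_
      · rw [← Nat.card_eq_fintype_card]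
        exact hOcard.not_two_dvd_nat
      · rw [pow_one]
        exact Equiv.ext fun o => hσ o
    have hwc : w • (c : G ⧸ H) = c := congrArg Subtype.val hc
    obtain ⟨⟨b, hb⟩, hbc⟩ := c.2
    have hdc : d • (c : G ⧸ H) = c := by
      rw [← hbc]
      show d • b • p = b • p
      rw [← mul_smul, ← mem_centralizer_singleton_iff.1 hb.2, mul_smul, hp]
    refine noinv c p hdc hp (fun e => ?_) w hw hwc hwd
    rw [e, hwp] at hwc
    exact hpq hwc.symm
  by_contra hyz
  obtain ⟨w₁, hw₁, hw₁x, hw₁y⟩ := h.exists_swap hxy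
  obtain ⟨w₂, hw₂, hw₂x, hw₂z⟩ := h.exists_swap hxz
  refine orb y z hy hz hyz (w₂ * w₁) ⟨N.mul_mem (hN _ hw₂) (hN _ hw₁), mem_centralizer_singleton_iff.2 ?_⟩
    (by rw [mul_smul, hw₁y, hw₂x])
  have e1 := h.swap_inverts hfree hxy hw₁ hw₁x hd hx hy
  have e2 := h.swap_inverts hfree hxz hw₂ hw₂x hd hx hz
  calc w₂ * w₁ * d = w₂ * (w₁ * d * w₁⁻¹) * w₁ := by group
    _ = (w₂ * d * w₂⁻¹)⁻¹ * (w₂ * w₁) := by rw [e1]; group
    _ = d * (w₂ * w₁) := by rw [e2, inv_inv]

/-- A minimal counterexample is simple. -/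
theorem Min.isSimple (M : Min H W) : IsSimpleGroup G := by
  have h := M.toHyp
  obtain ⟨t, htH, ht⟩ := h.exists_invol
  obtain ⟨E, hEH, hE⟩ := h.four
  set N : Subgroup G := closure {a : G | orderOf a = 2} with hN
  have hNmem : ∀ a : G, orderOf a = 2 → a ∈ N := fun a ha => subset_closure ha
  haveI hNn : N.Normal := by
    refine normalizer_eq_top_iff.1 ((eq_top_iff' _).2 fun g => mem_normalizer_of fun x hx => ?_)
    have : N.map (MulAut.conj g).toMonoidHom ≤ N := by
      rw [hN, MonoidHom.map_closure, closure_le]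
      rintro _ ⟨a, ha, rfl⟩
      exact subset_closure ((Invol.order_conj g a).trans ha)
    exact this ⟨x, hx, rfl⟩
  have hmin : ∀ K : Subgroup G, K.Normal → K ≠ ⊥ → N ≤ K := by
    intro K hK hK1
    have he : Even (Nat.card K) := by
      rw [← Nat.not_odd_iff_even]
      exact fun ho => hK1 (le_bot_iff.1 (M.ocore ▸ le_oddCore hK ho))
    obtain ⟨a, haK, ha⟩ := Invol.exists_invol he
    refine (closure_le _).2 fun b hb => ?_
    obtain ⟨g, hg⟩ := isConj_iff.1 (Invol.se_isConj h.se ha hb)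
    exact hg ▸ hK.conj_mem a haK g
  by_cases hNtop : N = ⊤
  · haveI : Nontrivial G := ⟨t, 1, Invol.ne_one ht⟩
    exact ⟨fun K hK => or_iff_not_imp_left.2 fun hK1 => top_le_iff.1 (hNtop ▸ hmin K hK hK1)⟩
  exfalso
  have hNH : ¬ N ≤ H := fun hle => by
    obtain ⟨g, hg⟩ := h.exists_out
    exact hg (Invol.se_mem_of_conj h.se ht htH (hle (hNn.conj_mem t (hNmem t ht) g)))
  have hEN : E ≤ N := fun e he => by
    by_cases he1 : e = 1
    · exact he1 ▸ N.one_mem
    · exact hNmem e (hE.order he he1)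
  -- `W` meets `N` trivially
  have hWN : W ⊓ N = ⊥ := by
    by_contra hne
    refine hne (le_bot_iff.1 (M.ocore ▸ le_oddCore ?_ (odd_of_le h.W_odd inf_le_left)))
    refine normalizer_eq_top_iff.1 ((eq_top_iff' _).2 fun g => ?_)
    obtain ⟨c, hcN, hc⟩ : ∃ c ∈ N, c * t * c⁻¹ = g * t * g⁻¹ := by
      obtain ⟨c, hc⟩ := isConj_iff.1 (Invol.se_isConj (h.se_sub ht htH (hNmem t ht) hNH)
        (a := (⟨t, hNmem t ht⟩ : N)) (b := ⟨g * t * g⁻¹, hNmem _ ((Invol.order_conj g t).trans ht)⟩)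
        (by rwa [Subgroup.orderOf_mk]) (by rw [Subgroup.orderOf_mk, Invol.order_conj, ht]))
      exact ⟨c, c.2, congrArg Subtype.val hc⟩
    have hrest : c⁻¹ * g ∈ H := Invol.se_centralizer_le h.se ht htH (mem_centralizer_singleton_iff.2 (by
      calc c⁻¹ * g * t = c⁻¹ * (g * t * g⁻¹) * g := by group
        _ = c⁻¹ * (c * t * c⁻¹) * g := by rw [hc]
        _ = _ := by group))
    have h1 : c⁻¹ * g ∈ normalizer ((W ⊓ N : Subgroup G) : Set G) :=
      mem_normalizer_of fun w hw => ⟨h.W_norm _ hrest w hw.1, hNn.conj_mem w hw.2 _⟩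
    have h2 : c ∈ normalizer ((W ⊓ N : Subgroup G) : Set G) :=
      mem_normalizer_of fun w hw => M.f2 N hNtop E hEN hEH hE hNH c hcN w hw
    have := mul_mem h2 h1
    rwa [mul_inv_cancel_left] at this
  have hfree : ∀ d ∈ N, Odd (orderOf d) → ∀ a : G, orderOf a = 2 → d * a = a * d → d = 1 := by
    intro d hd hodd a ha hc
    obtain ⟨g, hg⟩ := isConj_iff.1 (Invol.se_isConj h.se ht ha)
    have hmem : g⁻¹ * d * g ∈ W ⊓ N := ⟨h.core t htH ht _ (by
        rwa [show g⁻¹ * d * g = g⁻¹ * d * g⁻¹⁻¹ by group, Invol.order_conj]) (by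
        rw [← hg] at hc
        calc g⁻¹ * d * g * t = g⁻¹ * (d * (g * t * g⁻¹)) * g := by group
          _ = g⁻¹ * (g * t * g⁻¹ * d) * g := by rw [hc]
          _ = _ := by group), by simpa using hNn.conj_mem d hd g⁻¹⟩
    rw [hWN, mem_bot] at hmem
    rw [show d = g * (g⁻¹ * d * g) * g⁻¹ by group, hmem]
    simp
  -- `W` fixes every point
  refine M.W_ne ((eq_bot_iff_forall _).2 fun w hw => ?_)
  have hfix : ∀ y : G ⧸ H, w • y = y := by
    intro y
    set x : G ⧸ H := ((1 : G) : G ⧸ H) with hx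
    have hwx : w • x = x := fix_base_iff.2 (h.W_le hw)
    by_cases hyx : y = x
    · rw [hyx, hwx]
    -- a nontrivial element of `N` fixing both points
    obtain ⟨b, hbE, hb⟩ : ∃ b ∈ E, b ≠ 1 := by
      by_contra hc
      push Not at hc
      have h4 := hE.2
      rw [(eq_bot_iff_forall _).2 hc, card_bot] at h4
      omega
    obtain ⟨e, heE, he1, heb⟩ : ∃ e ∈ E, e ≠ 1 ∧ e ≠ b := by
      by_contra hc
      push Not at hc
      have hle : E ≤ zpowers b := fun e he => by
        by_cases he1 : e = 1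
        · exact he1 ▸ one_mem _
        · exact (hc e he he1).symm ▸ mem_zpowers b
      have h2 := card_le_of_le hle
      rw [Nat.card_zpowers, hE.order hbE hb] at h2
      have := hE.2
      omega
    obtain ⟨v, hv, hvx, hvy⟩ := h.exists_swap (Ne.symm hyx)
    have hbx : b • x = x := fix_base_iff.2 (hEH hbE)
    have hex : e • x = x := fix_base_iff.2 (hEH heE)
    obtain ⟨⟨w₁, hw₁, hw₁x⟩, hbij⟩ := (Invol.swap_conj_bijective h.se (Ne.symm hyx)
      ⟨e, hE.order heE he1, hex⟩).2 ⟨v * b * v⁻¹, (Invol.order_conj v b).trans (hE.order hbE hb), by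
        rw [Invol.inv_self hv, mul_smul, mul_smul, hvy, hbx, hvx]⟩
    have hbij' : w₁ * e * w₁⁻¹ = v * b * v⁻¹ := congrArg Subtype.val hbij
    set d := v⁻¹ * w₁ with hd
    have hw₁y : w₁ • y = x := by rw [← hw₁x, ← mul_smul, Invol.mul_self hw₁, one_smul]
    have hdN : d ∈ N := N.mul_mem (N.inv_mem (hNmem v hv)) (hNmem w₁ hw₁)
    have hdx : d • x = x := by rw [hd, mul_smul, hw₁x, Invol.inv_self hv, hvy]
    have hdy : d • y = y := by rw [hd, mul_smul, hw₁y, Invol.inv_self hv, hvx]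
    have hd1 : d ≠ 1 := fun e1 => heb (by
      have : w₁ = v := (inv_mul_eq_one.1 (hd ▸ e1)).symm
      rw [this] at hbij'
      exact mul_right_injective v (mul_left_injective v⁻¹ hbij'))
    have hdH : d ∈ H := fix_base_iff.1 hdx
    have hcomm : w * d = d * w := by
      have hmem : w * d * w⁻¹ * d⁻¹ ∈ W ⊓ N :=
        ⟨by simpa [mul_assoc] using mul_mem hw (h.W_norm d hdH _ (inv_mem hw)),
          N.mul_mem (hNn.conj_mem d hdN w) (N.inv_mem hdN)⟩
      rw [hWN, mem_bot] at hmem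
      exact mul_inv_eq_iff_eq_mul.1 (mul_inv_eq_one.1 hmem)
    have hdwy : d • w • y = w • y := by rw [← mul_smul, ← hcomm, mul_smul, hdy]
    refine (h.fix_two hNmem hfree hdN hd1 hdx hdy hdwy (Ne.symm hyx) fun e1 => hyx ?_).symm
    exact MulAction.injective w (e1.symm.trans hwx.symm)
  -- the kernel of the action is an odd normal subgroup
  by_contra hw1
  have hker : w ∈ H.normalCore := by
    intro g
    have := fix_iff.1 (hfix ((g⁻¹ : G) : G ⧸ H))
    simpa using this
  have hcore : H.normalCore = ⊥ := by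
    by_contra hne
    exact hNH ((hmin _ inferInstance hne).trans (normalCore_le H))
  rw [hcore, mem_bot] at hker
  exact hw1 hker

end Cfsg.Agent.SEBrick
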