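import Cfsg.Agent.Lib.SEBrick.Basic

/-!
Reductions: quotient by the odd core, passage to the normaliser of `W`, restriction to subgroups.
-/

set_option autoImplicit false
set_option linter.style.haveILetI false
set_option linter.unusedSectionVars false

namespace Cfsg.Agent.SEBrick

open Cfsg Subgroup

universe u

variable {G : Type u} [Group G] [Finite G] {H W : Subgroup G}

/-- Two involutions with product of odd order are conjugate by a power of the product. -/
theorem conj_of_odd' {x y : G} (hx : orderOf x = 2) (hy : orderOf y = 2) (hodd : Odd (orderOf (x * y))) :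
    ∃ d ∈ zpowers (x * y), d * x * d⁻¹ = y := by
  obtain ⟨m, hm⟩ := hodd
  refine ⟨(x * y) ^ (m : ℤ), ⟨_, rfl⟩, ?_⟩
  rw [Invol.zpow_mul_conj (Invol.conj_mul hx hy)]
  conv_rhs => rw [Invol.y_eq hx hy]
  congr 1
  have h1 : (x * y) ^ (2 * (m : ℤ) + 1) = 1 := by
    have := pow_orderOf_eq_one (x * y)
    rw [hm, ← zpow_natCast] at this
    push_cast at this; exact this
  rw [zpow_add, zpow_one] at h1
  rw [zpow_neg_one]
  exact mul_eq_one_iff_eq_inv.mp h1

/-- An element of odd order as a multiple avoiding the even part. -/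
theorem exists_odd_lift {K : Type u} [Group K] (f : G →* K) {x : G} (hx : Odd (orderOf (f x))) :
    ∃ k : ℕ, Odd (orderOf (x ^ k)) ∧ f (x ^ k) = f x := by
  obtain ⟨e, m, hm, hmx⟩ := Nat.exists_eq_two_pow_mul_odd (orderOf_pos x).ne'
  have hdvd : orderOf (f x) ∣ m := by
    refine (Nat.Coprime.dvd_of_dvd_mul_left ?_ (hmx ▸ orderOf_map_dvd f x))
    exact Nat.Coprime.pow_right e (Nat.coprime_two_right.2 hx)
  obtain ⟨k, hk⟩ : ∃ k, 2 ^ e * k ≡ 1 [MOD m] := by
    have hc : Nat.Coprime (2 ^ e) m := (Nat.coprime_two_left.2 hm).pow_left e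
    rcases Nat.lt_or_ge 1 m with h1 | h1
    · obtain ⟨k, -, hk⟩ := Nat.exists_mul_mod_eq_one_of_coprime hc h1
      exact ⟨k, by rw [Nat.ModEq, hk, Nat.mod_eq_of_lt h1]⟩
    · refine ⟨0, ?_⟩
      obtain rfl : m = 1 := le_antisymm h1 hm.pos
      exact Nat.modEq_one
  refine ⟨2 ^ e * k, ?_, ?_⟩
  · rw [pow_mul]
    refine Odd.of_dvd_nat ?_ (orderOf_pow_dvd k)
    rw [orderOf_pow_of_dvd (pow_ne_zero e two_ne_zero) (hmx ▸ dvd_mul_right _ _), hmx,
      Nat.mul_div_cancel_left m (Nat.two_pow_pos e)]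
    exact hm
  · rw [map_pow]
    refine Eq.trans ?_ (pow_one _)
    exact pow_eq_pow_iff_modEq.2 (hk.of_dvd hdvd)

/-- Passage to the quotient by the odd core. -/
theorem le_oddCore_of_quotient (h : Hyp H W) (ih : Goal (G ⧸ Cfsg.oddCore G)) :
    W ≤ Cfsg.oddCore G := by
  classical
  set O := Cfsg.oddCore G with hO
  haveI : O.Normal := FittingCores.pPrimeCore_normal 2
  set f := QuotientGroup.mk' O with hf
  have hfs : Function.Surjective f := QuotientGroup.mk'_surjective O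
  have hker : ∀ g, f g = 1 ↔ g ∈ O := fun g => QuotientGroup.eq_one_iff g
  have hOodd : Odd (Nat.card O) := oddCore_odd
  obtain ⟨E, hEH, hE⟩ := h.four
  have hOW : O ≤ W := h.le_W_of_four hOodd hE hEH (by rw [normalizer_eq_top]; exact le_top)
  have hOH : O ≤ H := hOW.trans h.W_le
  have hmemH : ∀ g, f g ∈ H.map f ↔ g ∈ H := fun g => by
    refine ⟨?_, fun hg => mem_map_of_mem f hg⟩
    rintro ⟨a, ha, e⟩
    have : a⁻¹ * g ∈ O := (hker _).1 (by rw [map_mul, map_inv, e, inv_mul_cancel])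
    simpa using mul_mem ha (hOH this)
  -- an involution lifts
  have lift : ∀ a : G, f a ∈ H.map f → orderOf (f a) = 2 → ∃ t ∈ H, orderOf t = 2 ∧ f t = f a := by
    intro a ha ha2
    obtain ⟨e, m, hm, hme⟩ := Nat.exists_eq_two_pow_mul_odd (orderOf_pos a).ne'
    have haH : a ∈ H := (hmemH a).1 ha
    have he : 1 ≤ e := by
      by_contra hc
      have he0 : e = 0 := by omega
      rw [he0, pow_zero, one_mul] at hme
      have := hm.of_dvd_nat (hme ▸ orderOf_map_dvd f a)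
      rw [ha2] at this
      exact absurd this (by decide)
    -- the two-part of `a`
    have hfam : f (a ^ m) = f a := by
      rw [map_pow]
      refine Eq.trans ?_ (pow_one _)
      refine pow_eq_pow_iff_modEq.2 ?_
      rw [ha2]
      exact Nat.odd_iff.1 hm
    have hb : orderOf (a ^ m) = 2 ^ e := by
      rw [orderOf_pow_of_dvd hm.pos.ne' (hme ▸ dvd_mul_left m _), hme, Nat.mul_div_cancel _ hm.pos]
    have hb2 : (a ^ m) ^ 2 ∈ O := (hker _).1 (by
      rw [map_pow, hfam, ← ha2, pow_orderOf_eq_one])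
    have hsq : (a ^ m) ^ 2 = 1 := by
      have h1 : Odd (orderOf ((a ^ m) ^ 2)) := odd_order hOodd hb2
      have h2 : orderOf ((a ^ m) ^ 2) ∣ 2 ^ e := hb ▸ orderOf_pow_dvd 2
      obtain ⟨i, -, hi⟩ := (Nat.dvd_prime_pow Nat.prime_two).1 h2
      rw [hi] at h1
      rcases Nat.eq_zero_or_pos i with rfl | hi0
      · exact orderOf_eq_one_iff.1 (by rw [hi, pow_zero])
      · exact absurd h1 (Nat.not_odd_iff_even.2 (Nat.even_pow.2 ⟨even_two, hi0.ne'⟩))
    refine ⟨a ^ m, pow_mem haH m, Invol.order_two_of_sq (by rwa [← pow_two]) fun h1 => ?_, hfam⟩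
    rw [h1, map_one] at hfam
    rw [← hfam, orderOf_one] at ha2
    exact absurd ha2 (by decide)
  have se : Cfsg.IsStronglyEmbedded (H.map f) := by
    refine ⟨fun htop => h.se.1 ((Subgroup.eq_top_iff' H).2 fun g => (hmemH g).1 (htop ▸ mem_top _)), ?_,
      fun q hq => ?_⟩
    · obtain ⟨t, htH, ht⟩ := h.exists_invol
      refine Invol.even_of_invol_mem (Invol.order_two_of_sq ?_ ?_) (mem_map_of_mem f htH)
      · rw [← map_mul, Invol.mul_self ht, map_one]
      · intro h1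
        have := odd_order hOodd ((hker t).1 h1)
        rw [ht] at this
        exact absurd this (by decide)
    · obtain ⟨g, rfl⟩ := hfs q
      refine odd_card_of_orders fun q hq' hq2 => ?_
      obtain ⟨hqH, hqg⟩ := hq'
      obtain ⟨a, rfl⟩ := hfs q
      obtain ⟨t, htH, ht, hfta⟩ := lift a hqH hq2
      have hag := Invol.mem_conj_map.1 hqg
      rw [← hfta, ← map_inv, ← map_mul, ← map_mul, hmemH] at hag
      refine hq (mem_map_of_mem f (Invol.se_mem_of_conj h.se (g := g) (t := g⁻¹ * t * g) ?_ hag ?_))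
      · rw [show g⁻¹ * t * g = g⁻¹ * t * g⁻¹⁻¹ by group, Invol.order_conj, ht]
      · rwa [show g * (g⁻¹ * t * g) * g⁻¹ = t by group]
  have hypQ : Hyp (H.map f) (W.map f) := by
    refine ⟨se, map_mono h.W_le, ?_, ?_, ?_, E.map f, map_mono hEH, hE.map f ?_⟩
    · rintro _ ⟨a, ha, rfl⟩ _ ⟨w, hw, rfl⟩
      exact ⟨a * w * a⁻¹, h.W_norm a ha w hw, by simp⟩
    · exact h.W_odd.of_dvd_nat (card_map_dvd W f)
    · intro q hq hq2 y hy hc
      obtain ⟨a, rfl⟩ := hfs q
      obtain ⟨t, htH, ht, hta⟩ := lift a hq hq2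
      obtain ⟨x, rfl⟩ := hfs y
      rw [← hta] at hc
      -- `x * t * x⁻¹` is conjugate to `t` under the core
      have ho : orderOf (x * t * x⁻¹) = 2 := (Invol.order_conj x t).trans ht
      have hd : t * (x * t * x⁻¹) ∈ O := (hker _).1 (by
        rw [map_mul, map_mul, map_mul, map_inv, hc, mul_inv_cancel_right, ← map_mul, Invol.mul_self ht,
          map_one])
      obtain ⟨d, hd', hdt⟩ := conj_of_odd' ht ho (odd_order hOodd hd)
      have hdO : d ∈ O := zpowers_le.2 hd hd'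
      have hcomm : d⁻¹ * x * t = t * (d⁻¹ * x) := by
        have e : x * t * x⁻¹ = d * t * d⁻¹ := hdt.symm
        calc d⁻¹ * x * t = d⁻¹ * (x * t * x⁻¹) * x := by group
          _ = d⁻¹ * (d * t * d⁻¹) * x := by rw [e]
          _ = _ := by group
      have hfx : f (d⁻¹ * x) = f x := by rw [map_mul, map_inv, (hker d).2 hdO, inv_one, one_mul]
      obtain ⟨k, hk, hkx⟩ := exists_odd_lift f (x := d⁻¹ * x) (hfx.symm ▸ hy)
      exact ⟨_, h.core t htH ht _ hk ((show Commute (d⁻¹ * x) t from hcomm).pow_left k).eq, hkx.trans hfx⟩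
    · intro a ha b hb hab
      have h1 : a⁻¹ * b ∈ O := (hker _).1 (by rw [map_mul, map_inv, hab, inv_mul_cancel])
      by_contra hne
      have := odd_order hOodd h1
      rw [hE.order (mul_mem (inv_mem ha) hb) (fun e => hne (inv_mul_eq_one.1 e))] at this
      exact absurd this (by decide)
  have hbot : Cfsg.oddCore (G ⧸ O) = ⊥ := FittingCores.pPrimeCore_quotient_eq_bot 2 O hO
  have := ih _ _ hypQ
  rw [hbot, le_bot_iff, Subgroup.map_eq_bot_iff, hf, QuotientGroup.ker_mk'] at this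
  exact this

/-- Strong embedding of a proper overgroup. -/
theorem se_over (hse : Cfsg.IsStronglyEmbedded H) {L : Subgroup G} (hHL : H ≤ L) (hL : L ≠ ⊤) :
    Cfsg.IsStronglyEmbedded L ∧ ∀ v ∈ L, orderOf v = 2 → ∃ l ∈ L, l * v * l⁻¹ ∈ H := by
  obtain ⟨t, htH, ht⟩ := Invol.exists_invol hse.2.1
  have hconj : ∀ v ∈ L, orderOf v = 2 → ∃ l ∈ L, l * v * l⁻¹ ∈ H := by
    intro v hv hv2
    by_cases hLH : L ≤ H
    · exact ⟨1, L.one_mem, by simpa using hLH hv⟩
    have hse' : Cfsg.IsStronglyEmbedded (H.subgroupOf L) := by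
      refine ⟨fun hh => hLH (subgroupOf_eq_top.1 hh), ?_, fun g hg => ?_⟩
      · exact Invol.even_of_invol_mem (t := ⟨t, hHL htH⟩) (by rwa [Subgroup.orderOf_mk]) htH
      · refine odd_card_of_orders fun a ha ha2 => hg (mem_subgroupOf.2 ?_)
        obtain ⟨haH, hag⟩ := ha
        have hag' : (g : G)⁻¹ * (a : G) * g ∈ H := mem_subgroupOf.1 (Invol.mem_conj_map.1 hag)
        refine Invol.se_mem_of_conj hse (t := (g : G)⁻¹ * (a : G) * g) ?_ hag' ?_
        · rw [show (g : G)⁻¹ * (a : G) * g = (g : G)⁻¹ * (a : G) * (g : G)⁻¹⁻¹ by group, Invol.order_conj,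
            Subgroup.orderOf_coe, ha2]
        · rw [show (g : G) * ((g : G)⁻¹ * (a : G) * g) * (g : G)⁻¹ = a by group]
          exact haH
    obtain ⟨c, hc⟩ := isConj_iff.1 (Invol.se_isConj hse' (a := (⟨v, hv⟩ : L)) (b := ⟨t, hHL htH⟩)
      (by rwa [Subgroup.orderOf_mk]) (by rwa [Subgroup.orderOf_mk]))
    refine ⟨c, c.2, ?_⟩
    have e : (c : G) * v * (c : G)⁻¹ = t := congrArg Subtype.val hc
    rwa [e]
  refine ⟨⟨hL, Invol.even_of_invol_mem ht (hHL htH), fun g hg => ?_⟩, hconj⟩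
  refine odd_card_of_orders fun a ha ha2 => hg ?_
  obtain ⟨haL, hag⟩ := ha
  have hag' := Invol.mem_conj_map.1 hag
  have ho : orderOf (g⁻¹ * a * g) = 2 := by
    rw [show g⁻¹ * a * g = g⁻¹ * a * g⁻¹⁻¹ by group, Invol.order_conj, ha2]
  obtain ⟨l, hl, hla⟩ := hconj a haL ha2
  obtain ⟨l', hl', hla'⟩ := hconj _ hag' ho
  have hmem : l * g * l'⁻¹ ∈ H := by
    refine Invol.se_mem_of_conj hse (t := l' * (g⁻¹ * a * g) * l'⁻¹) ?_ hla' ?_
    · rw [Invol.order_conj, ho]
    · rwa [show l * g * l'⁻¹ * (l' * (g⁻¹ * a * g) * l'⁻¹) * (l * g * l'⁻¹)⁻¹ = l * a * l⁻¹ by group]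
  have := mul_mem (mul_mem (inv_mem hl) (hHL hmem)) hl'
  rwa [show l⁻¹ * (l * g * l'⁻¹) * l' = g by group] at this

/-- The normaliser of `W` satisfies the hypotheses. -/
theorem Hyp.normalizer (h : Hyp H W) (hne : Subgroup.normalizer (W : Set G) ≠ ⊤) :
    Hyp (Subgroup.normalizer (W : Set G)) W := by
  obtain ⟨hse, hconj⟩ := se_over h.se h.W_normal hne
  obtain ⟨E, hEH, hE⟩ := h.four
  refine ⟨hse, le_normalizer, fun a ha w hw => conj_mem_of ha hw, h.W_odd, ?_, E, hEH.trans h.W_normal, hE⟩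
  intro t ht ht2 x hx hc
  obtain ⟨l, hl, hlt⟩ := hconj t ht ht2
  have hxW := h.core _ hlt (by rw [Invol.order_conj, ht2]) (l * x * l⁻¹) (by rwa [Invol.order_conj]) (by
    calc l * x * l⁻¹ * (l * t * l⁻¹) = l * (x * t) * l⁻¹ := by group
      _ = l * (t * x) * l⁻¹ := by rw [hc]
      _ = _ := by group)
  exact (mem_normalizer_iff.1 hl x).2 hxW

/-- In a minimal counterexample the hypotheses give a minimal configuration. -/
theorem exists_min (ih : ∀ (K : Type u) [Group K] [Finite K], Nat.card K < Nat.card G → Goal K)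
    (h : Hyp H W) (hW : ¬ W ≤ Cfsg.oddCore G) : ∃ H' : Subgroup G, Min H' W := by
  have hO : Cfsg.oddCore G = ⊥ := by
    by_contra hne
    refine hW (le_oddCore_of_quotient h (ih _ ?_))
    rw [card_eq_card_quotient_mul_card_subgroup (Cfsg.oddCore G)]
    exact lt_mul_of_one_lt_right Nat.card_pos ((one_lt_card_iff_ne_bot _).2 hne)
  have hW1 : W ≠ ⊥ := fun e => hW (e ▸ bot_le)
  have hprop : ∀ X : Subgroup G, X ≠ ⊥ → Odd (Nat.card X) → Subgroup.normalizer (X : Set G) ≠ ⊤ :=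
    fun X hX ho htop => hX (le_bot_iff.1 (hO ▸ le_oddCore (normalizer_eq_top_iff.1 htop) ho))
  have h' := h.normalizer (hprop W hW1 h.W_odd)
  set H' := Subgroup.normalizer (W : Set G) with hH'
  obtain ⟨E, hEH, hE⟩ := h'.four
  have sub : ∀ L : Subgroup G, L ≠ ⊤ → ∀ E : Subgroup G, E ≤ L → E ≤ H' → IsFour E → ¬ L ≤ H' →
      ∀ l ∈ L, ∀ w ∈ W ⊓ L, l * w * l⁻¹ ∈ W ⊓ L := by
    intro L hLtop E hEL hEH hE hLH l hl w hw
    have hlt : Nat.card L < Nat.card G :=
      lt_of_le_of_ne (card_le_card_group L) fun e => hLtop (eq_top_of_card_eq L e)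
    have hle := ih L hlt _ _ (h'.sub hE hEH hEL hLH)
    set O := (Cfsg.oddCore L).map L.subtype with hOdef
    have hOn : ∀ l ∈ L, ∀ x ∈ O, l * x * l⁻¹ ∈ O := by
      rintro l hl _ ⟨x, hx, rfl⟩
      exact ⟨⟨l, hl⟩ * x * ⟨l, hl⟩⁻¹, (FittingCores.pPrimeCore_normal 2).conj_mem x hx _, rfl⟩
    have hOW : O ≤ W := h'.le_W_of_four
      (by rw [hOdef, card_map_of_injective L.subtype_injective]; exact oddCore_odd) hE hEH
      (le_normalizer_of fun e he => hOn e (hEL he))
    have hwO : w ∈ O := ⟨⟨w, hw.2⟩, hle hw.1, rfl⟩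
    exact ⟨hOW (hOn l hl w hwO), L.mul_mem (L.mul_mem hl hw.2) (L.inv_mem hl)⟩
  refine ⟨H', h', hO, hW1, fun X hX hX1 hXn => ?_, sub⟩
  refine le_antisymm ?_ (le_normalizer_of hXn)
  by_contra hM
  set M := Subgroup.normalizer (X : Set G) with hMdef
  have hEM : E ≤ M := hEH.trans (le_normalizer_of hXn)
  have hWM : W ≤ M := h'.W_le.trans (le_normalizer_of hXn)
  refine hM fun m hm => mem_normalizer_of fun w hw => ?_
  exact (sub M (hprop X hX1 (odd_of_le h'.W_odd hX)) E hEM hEH hE hM m hm w ⟨hw, hWM hw⟩).1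

end Cfsg.Agent.SEBrick
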